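import Cfsg.Agent.Lib.Spor.USixThree.LinkModel

/-!
The orientation of an element of order three of the top, and its fixed vectors.
-/

set_option autoImplicit false
set_option maxRecDepth 100000
set_option synthInstance.maxSize 2000
set_option synthInstance.maxHeartbeats 200000

namespace Cfsg.Agent.Spor.USixThree

/-- the common nonzero value of `det (v, a v)` -/
def S.orient (a : S) : ZMod 3 := if a.1.2.2.1 = 0 then -a.1.2.1 else a.1.2.2.1

/-- a vector of the first block -/
def inL (p : ZMod 3 × ZMod 3) : V := ![p.1, p.2, 0, 0]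

/-- a vector of the second block -/
def inR (p : ZMod 3 × ZMod 3) : V := ![0, 0, p.1, p.2]

/-- the matrix acting on a pair -/
def S.app (a : S) (p : ZMod 3 × ZMod 3) : ZMod 3 × ZMod 3 :=
  (a.1.1 * p.1 + a.1.2.1 * p.2, a.1.2.2.1 * p.1 + a.1.2.2.2 * p.2)

/-- the determinant of two pairs -/
def det2 (p q : ZMod 3 × ZMod 3) : ZMod 3 := p.1 * q.2 - p.2 * q.1

theorem act_inL (a b : S) (p : ZMod 3 × ZMod 3) : act (false, a, b) (inL p) = inL (a.app p) := by
  funext i; fin_cases i <;> simp [act, inL, S.app]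

theorem act_inR (a b : S) (p : ZMod 3 × ZMod 3) : act (false, a, b) (inR p) = inR (b.app p) := by
  funext i; fin_cases i <;> simp [act, inR, S.app]

theorem B_inL (p q : ZMod 3 × ZMod 3) : B (inL p) (inL q) = det2 p q := by simp [B, inL, det2]

theorem B_inR (p q : ZMod 3 × ZMod 3) : B (inR p) (inR q) = det2 p q := by simp [B, inR, det2]

theorem B_inL_inR (p q : ZMod 3 × ZMod 3) : B (inL p) (inR q) = 0 := by simp [B, inL, inR]

theorem B_inR_inL (p q : ZMod 3 × ZMod 3) : B (inR p) (inL q) = 0 := by simp [B, inL, inR]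

theorem split_vec (v : V) : v = inL (v 0, v 1) + inR (v 2, v 3) := by
  funext i; fin_cases i <;> simp [inL, inR]

theorem axis_exists : ∀ a : S, a.Cube → a ≠ S.one → ∃ p : ZMod 3 × ZMod 3,
    det2 p (a.app p) = a.orient ∧ a.app p ≠ p ∧ a.orient ≠ 0 ∧
      ∀ q : ZMod 3 × ZMod 3, a.app q = q → ∃ m : ZMod 3, q = (m * ((a.app p).1 - p.1), m * ((a.app p).2 - p.2)) := by
  decide +kernel

theorem axis_fixed : ∀ a : S, a.Cube → ∀ p : ZMod 3 × ZMod 3,
    a.app (a.app p - p) = a.app p - p := by
  decide +kernel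

theorem orient_sq : ∀ a : S, a.Cube → a ≠ S.one → (a.mul a).orient = -a.orient := by decide +kernel

theorem zm_one : ∀ k : ZMod 3, k ≠ 0 → k = 1 ∨ k = 2 := by decide

end Cfsg.Agent.Spor.USixThree
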