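import Cfsg.Agent.Lib.Spor.USixThree.Link
import Cfsg.Agent.Lib.Spor.USixThree.AxisModel

/-!
A pair of commuting conjugates: the fixed group of one in the extraspecial group of the other, the common
part `D`, and the orientation of the top.
-/

set_option autoImplicit false
set_option linter.unusedSectionVars false

namespace Cfsg.Agent.Spor.USixThree

universe u

/-- powers indexed by residues -/
def S.pw (a : S) (k : ZMod 3) : S := if k = 0 then S.one else if k = 1 then a else a.mul a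

theorem S.pw_add : ∀ a : S, a.Cube → ∀ i k : ZMod 3, (a.pw i).mul (a.pw k) = a.pw (i + k) := by
  decide +kernel

theorem S.pw_zero (a : S) : a.pw 0 = S.one := rfl

theorem S.pw_one (a : S) : a.pw 1 = a := rfl

theorem S.pw_of_comm {a b : S} (ha : a.Cube) (hb : b.Cube) (h1 : a ≠ S.one) (h : a.mul b = b.mul a) :
    ∃ k, b = a.pw k := by
  rcases cube_pow a b ha hb h1 h with e | e | e
  · exact ⟨0, e⟩
  · exact ⟨1, e⟩
  · exact ⟨2, e⟩

theorem diff_forced : ∀ β i k : ZMod 3, β ≠ 0 → i ≠ 0 → k ≠ 0 → i + i + β ≠ 0 → k + k + β ≠ 0 → i = k := by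
  decide

namespace Link

variable {G : Type u} [Group G] {z y : G} {C : Cfg z} {D : Cfg y} (L : Link C D)
include L

theorem top_pair : ∃ a b : S, C.top y = (false, a, b) ∧ a.Cube ∧ b.Cube ∧ a ≠ S.one ∧ b ≠ S.one := by
  obtain ⟨a, b, e, ha, hb⟩ := C.toFrame.top_cube L.comm.symm D.toFrame.z_cube
  refine ⟨a, b, e, ha, hb, fun h => L.not_oneSided (Or.inl ?_), fun h => L.not_oneSided (Or.inr ?_)⟩ <;>
    rw [e] <;> exact h

theorem commute_of_fixed {x : G} (hx : x ∈ C.Q) (h : act (C.top y) (C.ν x) = C.ν x) : Commute x y := by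
  obtain ⟨l, hl⟩ := C.toFrame.conj_comm L.comm.symm hx h
  by_cases h0 : l = 0
  · rw [h0] at hl
    simp at hl
    exact (mul_inv_eq_iff_eq_mul.mp hl).symm
  exfalso
  refine L.not_moves' ⟨x⁻¹, C.Q.inv_mem hx, l, h0, ?_⟩
  rw [inv_inv, (L.comm.symm.pow_right l.val).eq]
  calc x⁻¹ * y * x = x⁻¹ * (y * x * y⁻¹) * y := by group
    _ = _ := by rw [hl]; group

theorem fixed_of_commute {x : G} (hx : x ∈ C.Q) (h : Commute x y) : act (C.top y) (C.ν x) = C.ν x := by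
  rw [← C.ν_act y L.comm.symm x hx]
  congr 1
  rw [h.symm.eq, mul_inv_cancel_right]

/-- the displacement of `y` by an element -/
theorem disp {x : G} (hx : x ∈ C.Q) :
    x⁻¹ * (y * x * y⁻¹) ∈ C.Q ∧ C.ν (x⁻¹ * (y * x * y⁻¹)) = act (C.top y) (C.ν x) - C.ν x ∧
      Commute (x⁻¹ * (y * x * y⁻¹)) y ∧ x⁻¹ * y * x = y * (x⁻¹ * (y * x * y⁻¹)) := by
  have hm := C.Q.mul_mem (C.Q.inv_mem hx) (C.normQ y L.comm.symm x hx)
  have hν : C.ν (x⁻¹ * (y * x * y⁻¹)) = act (C.top y) (C.ν x) - C.ν x := by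
    rw [C.ν_mul _ (C.Q.inv_mem hx) _ (C.normQ y L.comm.symm x hx), C.toFrame.ν_inv hx,
      C.ν_act y L.comm.symm x hx]
    abel
  have hc : Commute (x⁻¹ * (y * x * y⁻¹)) y := by
    refine L.commute_of_fixed hm ?_
    obtain ⟨a, b, e, ha, hb, -, -⟩ := L.top_pair
    rw [hν, e]
    obtain ⟨h1, h2⟩ := cube_image a ha (C.ν x 0) (C.ν x 1)
    obtain ⟨h3, h4⟩ := cube_image b hb (C.ν x 2) (C.ν x 3)
    funext l
    fin_cases l <;> simp [act] <;> assumption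
  refine ⟨hm, hν, hc, ?_⟩
  rw [← hc.eq]
  group

theorem not_one_sided_conj {p : G} (h1 : IsConj z p) (h2 : Commute p z) (h3 : p ∉ C.Q) :
    ¬ OneSided C p := by
  obtain ⟨g, rfl⟩ := isConj_iff.mp h1
  exact (Link.mk (C := C) (D := C.conj g) h1 h2.symm h3).not_oneSided

/-- a displacement has equal exponents in the top of the other point -/
theorem disp_top {x : G} (hx : x ∈ C.Q) (hne : C.ν (x⁻¹ * (y * x * y⁻¹)) ≠ 0)
    (hβ : B (C.ν x) (C.ν (x⁻¹ * (y * x * y⁻¹))) ≠ 0) {a b : S} (e : D.top z = (false, a, b)) (ha : a.Cube)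
    (hb : b.Cube) (ha1 : a ≠ S.one) (hb1 : b ≠ S.one) :
    ∃ i : ZMod 3, D.top (x⁻¹ * (y * x * y⁻¹)) = (false, a.pw i, b.pw i) := by
  obtain ⟨hwQ, -, hwy, hconj⟩ := L.disp hx
  obtain ⟨w, hw⟩ : ∃ w, w = x⁻¹ * (y * x * y⁻¹) := ⟨_, rfl⟩
  rw [← hw] at hne hβ hwQ hwy hconj ⊢
  obtain ⟨a', b', e', ha', hb'⟩ := D.toFrame.top_cube hwy (C.toFrame.cube hwQ)
  have hcm : D.top (z * w) = D.top (w * z) := by rw [(C.QC w hwQ).eq]
  rw [D.toFrame.top_mul L.comm hwy, D.toFrame.top_mul hwy L.comm, e, e'] at hcm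
  simp only [Top.mul, Prod.mk.injEq] at hcm
  obtain ⟨i, rfl⟩ := S.pw_of_comm ha ha' ha1 hcm.2.1
  obtain ⟨k, rfl⟩ := S.pw_of_comm hb hb' hb1 hcm.2.2
  obtain ⟨β, hβdef⟩ : ∃ β, β = B (C.ν x⁻¹) (C.ν w) := ⟨_, rfl⟩
  have hβ0 : β ≠ 0 := by
    rw [hβdef, C.toFrame.ν_inv hx]
    intro h
    refine hβ ?_
    simp only [B, Pi.neg_apply] at h ⊢
    linear_combination -h
  have key : ∀ u : G, u ∈ C.Q → Commute u y → C.ν u ≠ 0 → IsConj y (y * u) → ∀ p q : ZMod 3,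
      D.top u = (false, a.pw p, b.pw q) → p ≠ 0 ∧ q ≠ 0 := by
    intro u hu huy hu0 hcj p q hpq
    have hout : y * u ∉ D.Q := by
      intro h
      obtain ⟨j, hj⟩ := D.toFrame.mem_zpowers.mp (D.conj_mem hcj h)
      have e1 : u = y ^ (j - 1).val := by
        rw [sub_eq_add_neg, D.toFrame.zpow_val_add, ← hj, D.toFrame.zpow_val_neg,
          show (1 : ZMod 3).val = 1 from rfl, pow_one, mul_assoc, huy.inv_right.eq, ← mul_assoc, mul_inv_cancel,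
          one_mul]
      by_cases h0 : j - 1 = 0
      · refine hu0 ?_
        rw [e1, h0]
        simp [C.toFrame.ν_one]
      · refine L.out ?_
        have e2 : (y ^ (j - 1).val) ^ (j - 1).val = y := by
          rw [← pow_mul]
          conv_rhs => rw [← pow_one y]
          rw [pow_inj_mod, D.hz]
          have : ∀ a : ZMod 3, a ≠ 0 → a.val * a.val % 3 = 1 % 3 := by decide
          exact this _ h0
        rw [← e2, ← e1]
        exact C.Q.pow_mem hu _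
    have h := L.symm.not_one_sided_conj hcj ((Commute.refl y).mul_left huy) hout
    rw [OneSided, D.toFrame.top_mul (Commute.refl y) huy, D.toFrame.top_Q D.zQ, hpq] at h
    simp only [Top.mul, Top.one] at h
    rw [(S_mul_one _).2, (S_mul_one _).2] at h
    push Not at h
    exact ⟨fun e => h.1 (by rw [e]; rfl), fun e => h.2 (by rw [e]; rfl)⟩
  have hj1 : IsConj y (y * w) := isConj_iff.mpr ⟨x⁻¹, by rw [inv_inv, hconj]⟩
  obtain ⟨hi, hk⟩ := key w hwQ hwy hne hj1 i k e'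
  -- the second step
  have hxw : x⁻¹ * w * x = z ^ β.val * w := by
    rw [hβdef]
    have := C.toFrame.conj_eq (C.Q.inv_mem hx) hwQ
    rwa [inv_inv] at this
  have hzy : Commute (z ^ β.val) y := L.comm.pow_left _
  have hu2 : w * (z ^ β.val * w) ∈ C.Q := C.Q.mul_mem hwQ (C.Q.mul_mem (C.toFrame.zpow_mem β) hwQ)
  have hj2 : IsConj y (y * (w * (z ^ β.val * w))) := by
    refine hj1.trans (isConj_iff.mpr ⟨x⁻¹, ?_⟩)
    rw [inv_inv, ← hxw]
    calc x⁻¹ * (y * w) * x = x⁻¹ * y * x * (x⁻¹ * w * x) := by group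
      _ = _ := by rw [hconj, mul_assoc]
  have hν2 : C.ν (w * (z ^ β.val * w)) ≠ 0 := by
    rw [C.ν_mul _ hwQ _ (C.Q.mul_mem (C.toFrame.zpow_mem β) hwQ), C.ν_mul _ (C.toFrame.zpow_mem β) _ hwQ,
      C.toFrame.ν_zpow, zero_add]
    intro h
    refine hne (funext fun l => ?_)
    have h' := congrFun h l
    have : ∀ t : ZMod 3, t + t = 0 → t = 0 := by decide
    exact this _ h'
  have htz : D.top (z ^ β.val) = (false, a.pw β, b.pw β) := by
    have hβc : β = 1 ∨ β = 2 := zm_one β hβ0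
    rcases hβc with rfl | rfl
    · rw [show (1 : ZMod 3).val = 1 from rfl, pow_one, e]; rfl
    · rw [show (2 : ZMod 3).val = 2 from rfl, pow_two, D.toFrame.pow_top L.comm e]; rfl
  have ht2 : D.top (w * (z ^ β.val * w)) = (false, a.pw (i + i + β), b.pw (k + k + β)) := by
    rw [D.toFrame.top_mul hwy (hzy.mul_left hwy), D.toFrame.top_mul hzy hwy, htz, e']
    simp only [Top.mul]
    rw [S.pw_add a ha, S.pw_add a ha, S.pw_add b hb, S.pw_add b hb]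
    simp only [Prod.mk.injEq, true_and]
    exact ⟨by congr 1; ring, by congr 1; ring⟩
  obtain ⟨h2i, h2k⟩ := key _ hu2 (hwy.mul_left (hzy.mul_left hwy)) hν2 hj2 _ _ ht2
  rw [diff_forced β i k hβ0 hi hk h2i h2k] at e'
  exact ⟨k, e'⟩

/-- lifts of the two axes -/
theorem axes : ∃ a b : S, C.top y = (false, a, b) ∧ a.Cube ∧ b.Cube ∧ a ≠ S.one ∧ b ≠ S.one ∧
    ∃ xL xR : G, xL ∈ C.Q ∧ xR ∈ C.Q ∧ ∃ p q : ZMod 3 × ZMod 3, C.ν xL = inL p ∧ C.ν xR = inR q ∧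
      det2 p (a.app p) = a.orient ∧ det2 q (b.app q) = b.orient ∧ a.orient ≠ 0 ∧ b.orient ≠ 0 ∧
      C.ν (xL⁻¹ * (y * xL * y⁻¹)) = inL (a.app p - p) ∧ C.ν (xR⁻¹ * (y * xR * y⁻¹)) = inR (b.app q - q) ∧
      a.app p ≠ p ∧ b.app q ≠ q ∧
      ∀ v, act (C.top y) v = v → ∃ m n : ZMod 3, v = m • inL (a.app p - p) + n • inR (b.app q - q) := by
  obtain ⟨a, b, e, ha, hb, ha1, hb1⟩ := L.top_pair
  obtain ⟨p, hp, hpne, hpo, hpf⟩ := axis_exists a ha ha1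
  obtain ⟨q, hq, hqne, hqo, hqf⟩ := axis_exists b hb hb1
  obtain ⟨xL, hxL, eL⟩ := C.ν_surj (inL p)
  obtain ⟨xR, hxR, eR⟩ := C.ν_surj (inR q)
  refine ⟨a, b, e, ha, hb, ha1, hb1, xL, xR, hxL, hxR, p, q, eL, eR, hp, hq, hpo, hqo, ?_, ?_, hpne, hqne, ?_⟩
  · rw [(L.disp hxL).2.1, eL, e, act_inL]
    funext l; fin_cases l <;> simp [inL]
  · rw [(L.disp hxR).2.1, eR, e, act_inR]
    funext l; fin_cases l <;> simp [inR]
  · intro v hv
    rw [e, split_vec v, act_add, act_inL, act_inR] at hv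
    have h0 := congrFun hv 0
    have h1 := congrFun hv 1
    have h2 := congrFun hv 2
    have h3 := congrFun hv 3
    simp [inL, inR] at h0 h1 h2 h3
    obtain ⟨m, hm⟩ := hpf (v 0, v 1) (Prod.ext h0 h1)
    obtain ⟨n, hn⟩ := hqf (v 2, v 3) (Prod.ext h2 h3)
    refine ⟨m, n, ?_⟩
    simp only [Prod.mk.injEq] at hm hn
    funext l
    fin_cases l <;> simp [inL, inR, hm, hn]

/-- the fixed group lies over the common part -/
theorem commute_split {x : G} (hx : x ∈ C.Q) (hxy : Commute x y) : ∃ j : ZMod 3, x * z ^ j.val ∈ D.Q := by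
  obtain ⟨a', b', e', ha', hb', ha1', hb1'⟩ := L.symm.top_pair
  obtain ⟨a, b, -, -, -, -, -, xL, xR, hxL, hxR, p, q, eL, eR, hp, hq, hpo, hqo, wL, wR, hpne, hqne, hspan⟩ := L.axes
  obtain ⟨m, n, hmn⟩ := hspan (C.ν x) (L.fixed_of_commute hx hxy)
  have hβL : B (C.ν xL) (C.ν (xL⁻¹ * (y * xL * y⁻¹))) ≠ 0 := by
    rw [eL, wL, B_inL, show det2 p (a.app p - p) = det2 p (a.app p) by simp [det2]; ring, hp]
    exact hpo
  have hβR : B (C.ν xR) (C.ν (xR⁻¹ * (y * xR * y⁻¹))) ≠ 0 := by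
    rw [eR, wR, B_inR, show det2 q (b.app q - q) = det2 q (b.app q) by simp [det2]; ring, hq]
    exact hqo
  have hnL : C.ν (xL⁻¹ * (y * xL * y⁻¹)) ≠ 0 := fun h => hβL (by rw [h]; simp [B])
  have hnR : C.ν (xR⁻¹ * (y * xR * y⁻¹)) ≠ 0 := fun h => hβR (by rw [h]; simp [B])
  obtain ⟨iL, hiL⟩ := L.disp_top hxL hnL hβL e' ha' hb' ha1' hb1'
  obtain ⟨iR, hiR⟩ := L.disp_top hxR hnR hβR e' ha' hb' ha1' hb1'
  obtain ⟨hmL, -, hcL, -⟩ := L.disp hxL
  obtain ⟨hmR, -, hcR, -⟩ := L.disp hxR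
  have pwz : ∀ j : ZMod 3, D.top (z ^ j.val) = (false, a'.pw j, b'.pw j) := by
    intro j
    by_cases hj : j = 0
    · subst hj; rw [ZMod.val_zero, pow_zero, D.toFrame.top_one]; rfl
    rcases zm_one j hj with rfl | rfl
    · rw [show (1 : ZMod 3).val = 1 from rfl, pow_one, e']; rfl
    · rw [show (2 : ZMod 3).val = 2 from rfl, pow_two, D.toFrame.pow_top L.comm e']; rfl
  have pwg : ∀ (u : G), Commute u y → ∀ i, D.top u = (false, a'.pw i, b'.pw i) → ∀ k : ℕ,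
      D.top (u ^ k) = (false, a'.pw (k * i), b'.pw (k * i)) := by
    intro u hu i hi k
    induction k with
    | zero => rw [pow_zero, D.toFrame.top_one]; simp [S.pw_zero, Top.one]
    | succ k ih =>
      rw [pow_succ, D.toFrame.top_mul (hu.pow_left k) hu, ih, hi]
      simp only [Top.mul, S.pw_add a' ha', S.pw_add b' hb', Prod.mk.injEq, true_and]
      exact ⟨by congr 1; push_cast; ring, by congr 1; push_cast; ring⟩
  have hm₁ := C.Q.pow_mem hmL m.val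
  have hm₂ := C.Q.pow_mem hmR n.val
  obtain ⟨l, hl⟩ := (C.toFrame.ν_eq hx (C.Q.mul_mem hm₁ hm₂)).mp (by
    rw [C.ν_mul _ hm₁ _ hm₂, C.toFrame.ν_pow hmL, C.toFrame.ν_pow hmR, wL, wR, hmn,
      ← Nat.cast_smul_eq_nsmul (ZMod 3), ← Nat.cast_smul_eq_nsmul (ZMod 3), ZMod.natCast_zmod_val,
      ZMod.natCast_zmod_val])
  refine ⟨-(m * iL + n * iR + l), (D.toFrame.mem_Q_iff (hxy.mul_left (L.comm.pow_left _))).mpr ?_⟩
  rw [D.toFrame.top_mul hxy (L.comm.pow_left _), hl,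
    D.toFrame.top_mul ((hcL.pow_left _).mul_left (hcR.pow_left _)) (L.comm.pow_left _),
    D.toFrame.top_mul (hcL.pow_left _) (hcR.pow_left _), pwg _ hcL _ hiL, pwg _ hcR _ hiR, pwz, pwz]
  simp only [Top.mul, S.pw_add a' ha', S.pw_add b' hb', ZMod.natCast_zmod_val, add_neg_cancel]
  rfl

/-- a displacement by an element, split over the common part -/
theorem disp_split {x : G} (hx : x ∈ C.Q) : ∃ d : G, ∃ j : ZMod 3, d ∈ C.Q ∧ d ∈ D.Q ∧
    C.ν d = act (C.top y) (C.ν x) - C.ν x ∧ x⁻¹ * y * x = y * (d * z ^ j.val) := by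
  obtain ⟨hm, hν, hc, hconj⟩ := L.disp hx
  obtain ⟨j, hj⟩ := L.commute_split hm hc
  refine ⟨_, -j, C.Q.mul_mem hm (C.toFrame.zpow_mem j), hj, ?_, ?_⟩
  · rw [C.ν_mul _ hm _ (C.toFrame.zpow_mem j), C.toFrame.ν_zpow, add_zero, hν]
  · rw [mul_assoc (x⁻¹ * (y * x * y⁻¹)), ← C.toFrame.zpow_val_add, add_neg_cancel, hconj]
    simp

/-- the central exponent of a displacement is never zero -/
theorem exp_ne {x d : G} {j : ZMod 3} (hd : d ∈ C.Q) (hd' : d ∈ D.Q) (hν : C.ν d ≠ 0)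
    (h : x⁻¹ * y * x = y * (d * z ^ j.val)) : j ≠ 0 := by
  intro hj
  rw [hj] at h
  simp at h
  have hm := D.conj_mem (isConj_iff.mpr ⟨x⁻¹, by rw [inv_inv]; exact h⟩) (D.Q.mul_mem D.zQ hd')
  obtain ⟨k, hk⟩ := D.toFrame.mem_zpowers.mp hm
  have e1 : d = y ^ (k - 1).val := by
    rw [sub_eq_add_neg, D.toFrame.zpow_val_add, ← hk, D.toFrame.zpow_val_neg,
      show (1 : ZMod 3).val = 1 from rfl, pow_one, mul_assoc, (D.QC d hd').inv_right.eq, ← mul_assoc,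
      mul_inv_cancel, one_mul]
  by_cases h0 : k - 1 = 0
  · rw [e1, h0] at hν
    simp [C.toFrame.ν_one] at hν
  · refine L.out ?_
    have e2 : (y ^ (k - 1).val) ^ (k - 1).val = y := by
      rw [← pow_mul]
      conv_rhs => rw [← pow_one y]
      rw [pow_inj_mod, D.hz]
      have : ∀ a : ZMod 3, a ≠ 0 → a.val * a.val % 3 = 1 % 3 := by decide
      exact this _ h0
    rw [← e2, ← e1]
    exact C.Q.pow_mem hd _

theorem inter_central {u : G} (hu : u ∈ C.Q) (hu' : u ∈ D.Q) (hν : C.ν u = 0) : u = 1 := by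
  obtain ⟨a, rfl⟩ := C.toFrame.mem_zpowers.mp ((C.ν_zero u hu).mp hν)
  by_contra h
  have ha : a ≠ 0 := fun e => h (by rw [e]; simp)
  refine L.out' ?_
  have e : (z ^ a.val) ^ a.val = z := by
    rw [← pow_mul]
    conv_rhs => rw [← pow_one z]
    rw [pow_inj_mod, C.hz]
    have : ∀ a : ZMod 3, a ≠ 0 → a.val * a.val % 3 = 1 % 3 := by decide
    exact this a ha
  exact e ▸ D.Q.pow_mem hu' _

theorem inter_eq {u v : G} (hu : u ∈ C.Q) (hu' : u ∈ D.Q) (hv : v ∈ C.Q) (hv' : v ∈ D.Q)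
    (h : C.ν u = C.ν v) : u = v := by
  have := L.inter_central (C.Q.mul_mem (C.Q.inv_mem hv) hu) (D.Q.mul_mem (D.Q.inv_mem hv') hu') (by
    rw [C.ν_mul _ (C.Q.inv_mem hv) _ hu, C.toFrame.ν_inv hv, h, neg_add_cancel])
  exact (inv_mul_eq_one.mp this).symm

/-- composing two displacements -/
theorem disp_mul {x₁ x₂ d₁ d₂ : G} {j₁ j₂ : ZMod 3} (h₂ : x₂ ∈ C.Q) (hd₁ : d₁ ∈ C.Q)
    (e₁ : x₁⁻¹ * y * x₁ = y * (d₁ * z ^ j₁.val)) (e₂ : x₂⁻¹ * y * x₂ = y * (d₂ * z ^ j₂.val)) :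
    (x₁ * x₂)⁻¹ * y * (x₁ * x₂) = y * (d₂ * d₁ * z ^ (j₁ + j₂ + B (-C.ν x₂) (C.ν d₁)).val) := by
  have hc := C.toFrame.conj_eq (C.Q.inv_mem h₂) hd₁
  rw [inv_inv, C.toFrame.ν_inv h₂] at hc
  have hzx : ∀ t : ZMod 3, x₂⁻¹ * z ^ t.val * x₂ = z ^ t.val := fun t => by
    rw [((C.QC x₂ h₂).inv_left.pow_right t.val).eq]; group
  have hzd : ∀ t : ZMod 3, Commute d₁ (z ^ t.val) := fun t => (C.QC d₁ hd₁).pow_right _
  obtain ⟨β, hβ⟩ : ∃ β, β = B (-C.ν x₂) (C.ν d₁) := ⟨_, rfl⟩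
  rw [← hβ] at hc ⊢
  calc (x₁ * x₂)⁻¹ * y * (x₁ * x₂) = x₂⁻¹ * (x₁⁻¹ * y * x₁) * x₂ := by group
    _ = x₂⁻¹ * y * x₂ * (x₂⁻¹ * d₁ * x₂) * (x₂⁻¹ * z ^ j₁.val * x₂) := by rw [e₁]; group
    _ = y * (d₂ * z ^ j₂.val) * (z ^ β.val * d₁) * z ^ j₁.val := by rw [hzx, e₂, hc]
    _ = y * (d₂ * (z ^ (j₂ + β).val * d₁) * z ^ j₁.val) := by
      rw [C.toFrame.zpow_val_add]; simp only [mul_assoc]
    _ = _ := by
      rw [← (hzd (j₂ + β)).eq, ← mul_assoc d₂, mul_assoc (d₂ * d₁), ← C.toFrame.zpow_val_add]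
      congr 3
      ring_nf

/-- the two blocks of the top have the same orientation, and both central exponents occur -/
theorem orient_and_exponents : ((C.top y).2.1).orient = ((C.top y).2.2).orient ∧
    ∀ j : ZMod 3, j ≠ 0 → ∃ x ∈ C.Q, ∃ d : G, d ∈ C.Q ∧ d ∈ D.Q ∧ C.ν d ≠ 0 ∧
      x⁻¹ * y * x = y * (d * z ^ j.val) := by
  obtain ⟨a, b, e, ha, hb, ha1, hb1, xL, xR, hxL, hxR, p, q, eL, eR, hp, hq, hpo, hqo, wL, wR, hpne, hqne, -⟩ :=
    L.axes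
  obtain ⟨dL, jL, hdL, hdL', νL, cL⟩ := L.disp_split hxL
  obtain ⟨dR, jR, hdR, hdR', νR, cR⟩ := L.disp_split hxR
  rw [eL, e, act_inL] at νL
  rw [eR, e, act_inR] at νR
  have hL0 : C.ν dL ≠ 0 := by
    rw [νL]; intro h
    refine hpne (Prod.ext ?_ ?_)
    · have := congrFun h 0; simp [inL] at this; exact sub_eq_zero.mp this
    · have := congrFun h 1; simp [inL] at this; exact sub_eq_zero.mp this
  have hR0 : C.ν dR ≠ 0 := by
    rw [νR]; intro h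
    refine hqne (Prod.ext ?_ ?_)
    · have := congrFun h 2; simp [inR] at this; exact sub_eq_zero.mp this
    · have := congrFun h 3; simp [inR] at this; exact sub_eq_zero.mp this
  have bLL : B (-C.ν xL) (C.ν dL) = -a.orient := by
    rw [eL, νL, ← hp]; simp [B, inL, det2]; ring
  have bRR : B (-C.ν xR) (C.ν dR) = -b.orient := by
    rw [eR, νR, ← hq]; simp [B, inR, det2]; ring
  have bRL : B (-C.ν xR) (C.ν dL) = 0 := by
    rw [eR, νL]; simp [B, inR, inL]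
  have hjL : jL ≠ 0 := L.exp_ne hdL hdL' hL0 cL
  have hjR : jR ≠ 0 := L.exp_ne hdR hdR' hR0 cR
  have step : ∀ (x d : G) (j o : ZMod 3), x ∈ C.Q → d ∈ C.Q → d ∈ D.Q → C.ν d ≠ 0 →
      x⁻¹ * y * x = y * (d * z ^ j.val) → B (-C.ν x) (C.ν d) = -o → o ≠ 0 → j + j + -o ≠ 0 ∧
      ∃ d₂ : G, d₂ ∈ C.Q ∧ d₂ ∈ D.Q ∧ C.ν d₂ ≠ 0 ∧ (x * x)⁻¹ * y * (x * x) = y * (d₂ * z ^ (j + j + -o).val) := by
    intro x d j o hx hd hd' hn hcj hb ho
    have h2 := L.disp_mul hx hd hcj hcj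
    rw [hb] at h2
    have hn2 : C.ν (d * d) ≠ 0 := by
      rw [C.ν_mul _ hd _ hd]
      intro h
      refine hn (funext fun l => ?_)
      have h' := congrFun h l
      have : ∀ t : ZMod 3, t + t = 0 → t = 0 := by decide
      exact this _ h'
    exact ⟨L.exp_ne (C.Q.mul_mem hd hd) (D.Q.mul_mem hd' hd') hn2 h2, _, C.Q.mul_mem hd hd,
      D.Q.mul_mem hd' hd', hn2, h2⟩
  obtain ⟨sL, dL2, hdL2, hdL2', hnL2, cL2⟩ := step xL dL jL a.orient hxL hdL hdL' hL0 cL bLL hpo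
  obtain ⟨sR, -⟩ := step xR dR jR b.orient hxR hdR hdR' hR0 cR bRR hqo
  have hprod := L.disp_mul hxR hdL cL cR
  rw [bRL] at hprod
  have hnp : C.ν (dR * dL) ≠ 0 := by
    rw [C.ν_mul _ hdR _ hdL, νR, νL]
    intro h
    refine hpne (Prod.ext ?_ ?_)
    · have := congrFun h 0; simp [inR, inL] at this; exact sub_eq_zero.mp this
    · have := congrFun h 1; simp [inR, inL] at this; exact sub_eq_zero.mp this
  have hs := L.exp_ne (C.Q.mul_mem hdR hdL) (D.Q.mul_mem hdR' hdL') hnp hprod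
  have horient : ∀ jL jR oL oR : ZMod 3, jL ≠ 0 → jR ≠ 0 → oL ≠ 0 → oR ≠ 0 → jL + jL + -oL ≠ 0 →
      jR + jR + -oR ≠ 0 → jL + jR + 0 ≠ 0 → oL = oR := by decide
  refine ⟨by rw [e]; exact horient _ _ _ _ hjL hjR hpo hqo sL sR hs, fun j hj => ?_⟩
  rcases eq_or_ne j jL with rfl | hne
  · exact ⟨xL, hxL, dL, hdL, hdL', hL0, cL⟩
  have hsel : ∀ j jL jR : ZMod 3, j ≠ 0 → jL ≠ 0 → jR ≠ 0 → j ≠ jL → jL + jR + 0 ≠ 0 → j = jL + jR + 0 := by
    decide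
  exact ⟨xL * xR, C.Q.mul_mem hxL hxR, dR * dL, C.Q.mul_mem hdR hdL, D.Q.mul_mem hdR' hdL', hnp,
    (hsel j jL jR hj hjL hjR hne hs) ▸ hprod⟩

end Link

end Cfsg.Agent.Spor.USixThree
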