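import Cfsg.Agent.Lib.Spor.USixThree.Refl
import Cfsg.Agent.Lib.Solv.Generation

/-!
Coordinates on the elementary abelian group `A` of order `81`, its points, and the fact that it normalises
no nontrivial subgroup of order prime to three.
-/

set_option autoImplicit false
set_option linter.unusedSectionVars false

set_option synthInstance.maxSize 2000
set_option synthInstance.maxHeartbeats 200000
set_option maxRecDepth 100000
set_option maxHeartbeats 400000

namespace Cfsg.Agent.Spor.USixThree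

universe u

/-- the isotropic vectors: `j m = u ^ 2 + v ^ 2` -/
def Pt (w : V) : Prop :=
  (w 1 = 0 ∧ w 2 = 0 ∧ w 3 = 0 ∧ w 0 ≠ 0) ∨ (w 1 ≠ 0 ∧ w 0 * w 1 = w 2 * w 2 + w 3 * w 3)

instance : DecidablePred Pt := fun _ => inferInstanceAs (Decidable (_ ∨ _))

theorem plane_point : ∀ a b c d : ZMod 3, ∃ w : V, Pt w ∧ a * w 0 + b * w 1 + c * w 2 + d * w 3 = 0 := by
  decide +kernel

theorem pair_zero : ∀ p q : ZMod 3 × ZMod 3, p ≠ 0 → det2 p q = 0 → ∃ m : ZMod 3, q = (m * p.1, m * p.2) := by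
  decide +kernel

theorem smul_ne : ∀ u : ZMod 3, ∀ p : ZMod 3 × ZMod 3, p ≠ 0 → ((u * p.1 = 0 ∧ u * p.2 = 0) ↔ u = 0) := by
  decide +kernel

theorem zm_sq : ∀ u : ZMod 3, u * u = if u = 0 then 0 else 1 := by decide

theorem neg_top : ∀ v : V, act (false, S.neg, S.one) v = ![-v 0, -v 1, v 2, v 3] := by decide +kernel

variable {G : Type u} [Group G] {z : G} {C : Cfg z}

theorem cube_pow_val {a : G} (h : a ^ 3 = 1) (i k : ZMod 3) : a ^ (i + k).val = a ^ i.val * a ^ k.val := by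
  rw [← pow_add, pow_eq_pow_mod (i.val + k.val) h, ZMod.val_add]

namespace Mirror

variable (M : Mirror C)

/-- the second point -/
def y : G := M.g * z * M.g⁻¹

/-- the two commuting conjugates -/
theorem link : Link C (C.conj M.g) := M.toPair.link

theorem g_back : M.g * M.y * M.g⁻¹ = z := M.back

theorem dR_mem' : M.dR ∈ (C.conj M.g).Q := ⟨M.dR, M.dQ, by
  show M.g * M.dR * M.g⁻¹ = M.dR
  rw [← M.dg.eq, mul_inv_cancel_right]⟩

/-- the element of the common part inverted by `r` -/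
theorem exists_dL : ∃ d : G, d ∈ C.Q ∧ d ∈ (C.conj M.g).Q ∧ C.ν d 2 = 0 ∧ C.ν d 3 = 0 ∧ C.ν d ≠ 0 ∧
    M.r * d * M.r = d⁻¹ := by
  have L := M.link
  obtain ⟨a, b, e, -, -, -, -, xL, -, hxL, -, p, q, eL, -, -, -, -, -, -, -, hpne, -, -⟩ := L.axes
  obtain ⟨d, j, hd, hd', hν, -⟩ := L.disp_split hxL
  rw [eL, e, act_inL] at hν
  refine ⟨d, hd, hd', by rw [hν]; simp [inL], by rw [hν]; simp [inL], ?_, ?_⟩
  · rw [hν]; intro h
    refine hpne (Prod.ext ?_ ?_)
    · have := congrFun h 0; simp [inL] at this; exact sub_eq_zero.mp this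
    · have := congrFun h 1; simp [inL] at this; exact sub_eq_zero.mp this
  · have hri : M.r⁻¹ = M.r := inv_eq_of_mul_eq_one_right M.r2
    have h1 : M.r * d * M.r ∈ C.Q := by
      have := C.normQ M.r M.rz d hd
      rwa [hri] at this
    have h2 : M.r * d * M.r ∈ (C.conj M.g).Q := by
      have := (C.conj M.g).normQ M.r M.ry d hd'
      rwa [hri] at this
    refine L.inter_eq h1 h2 (C.Q.inv_mem hd) (Subgroup.inv_mem _ hd') ?_
    have h := C.ν_act M.r M.rz d hd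
    rw [hri, M.rtop, neg_top] at h
    rw [h, C.toFrame.ν_inv hd, hν]
    funext l
    fin_cases l <;> simp [inL]

/-- the chosen inverted element -/
noncomputable def dL : G := M.exists_dL.choose

theorem dL_spec : M.dL ∈ C.Q ∧ M.dL ∈ (C.conj M.g).Q ∧ C.ν M.dL 2 = 0 ∧ C.ν M.dL 3 = 0 ∧ C.ν M.dL ≠ 0 ∧
    M.r * M.dL * M.r = M.dL⁻¹ := M.exists_dL.choose_spec

/-- an element of the common part -/
noncomputable def dd (u v : ZMod 3) : G := M.dR ^ u.val * M.dL ^ v.val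

theorem dd_mem (u v : ZMod 3) : M.dd u v ∈ C.Q ∧ M.dd u v ∈ (C.conj M.g).Q :=
  ⟨C.Q.mul_mem (C.Q.pow_mem M.dQ _) (C.Q.pow_mem M.dL_spec.1 _),
    Subgroup.mul_mem _ (Subgroup.pow_mem _ M.dR_mem' _) (Subgroup.pow_mem _ M.dL_spec.2.1 _)⟩

theorem ν_dd (u v : ZMod 3) : C.ν (M.dd u v) = u • C.ν M.dR + v • C.ν M.dL := by
  rw [dd, C.ν_mul _ (C.Q.pow_mem M.dQ _) _ (C.Q.pow_mem M.dL_spec.1 _), C.toFrame.ν_pow M.dQ,
    C.toFrame.ν_pow M.dL_spec.1, ← Nat.cast_smul_eq_nsmul (ZMod 3), ← Nat.cast_smul_eq_nsmul (ZMod 3),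
    ZMod.natCast_zmod_val, ZMod.natCast_zmod_val]

/-- coordinates -/
noncomputable def e (w : V) : G := z ^ (w 0).val * M.y ^ (w 1).val * M.dd (w 2) (w 3)

theorem dd_comm (u v : ZMod 3) : Commute (M.dd u v) z ∧ Commute (M.dd u v) M.y :=
  ⟨C.QC _ (M.dd_mem u v).1, (C.conj M.g).QC _ (M.dd_mem u v).2⟩

theorem dd_add (u v u' v' : ZMod 3) : M.dd (u + u') (v + v') = M.dd u v * M.dd u' v' := by
  have c : Commute M.dR M.dL := M.link.D_comm M.dQ M.dR_mem' M.dL_spec.1 M.dL_spec.2.1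
  rw [dd, dd, dd, cube_pow_val (C.toFrame.cube M.dQ), cube_pow_val (C.toFrame.cube M.dL_spec.1)]
  have c1 : Commute (M.dR ^ u'.val) (M.dL ^ v.val) := c.pow_pow _ _
  simp only [mul_assoc]
  rw [← mul_assoc (M.dR ^ u'.val), c1.eq, mul_assoc]

theorem e_add (w w' : V) : M.e (w + w') = M.e w * M.e w' := by
  simp only [e, Pi.add_apply]
  rw [C.toFrame.zpow_val_add, show M.y ^ (w 1 + w' 1).val = M.y ^ (w 1).val * M.y ^ (w' 1).val from
    (C.conj M.g).toFrame.zpow_val_add _ _, M.dd_add]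
  have cyz : Commute M.y z := M.comm.symm
  have c1 : Commute (M.y ^ (w 1).val) (z ^ (w' 0).val) := cyz.pow_pow _ _
  have c2 : Commute (M.dd (w 2) (w 3)) (z ^ (w' 0).val) := (M.dd_comm _ _).1.pow_right _
  have c3 : Commute (M.dd (w 2) (w 3)) (M.y ^ (w' 1).val) := (M.dd_comm _ _).2.pow_right _
  calc z ^ (w 0).val * z ^ (w' 0).val * (M.y ^ (w 1).val * M.y ^ (w' 1).val) * (M.dd (w 2) (w 3) * M.dd (w' 2) (w' 3))
      = z ^ (w 0).val * (z ^ (w' 0).val * M.y ^ (w 1).val) * M.y ^ (w' 1).val * M.dd (w 2) (w 3)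
          * M.dd (w' 2) (w' 3) := by simp only [mul_assoc]
    _ = z ^ (w 0).val * M.y ^ (w 1).val * (z ^ (w' 0).val * M.y ^ (w' 1).val * M.dd (w 2) (w 3))
          * M.dd (w' 2) (w' 3) := by rw [← c1.eq]; simp only [mul_assoc]
    _ = z ^ (w 0).val * M.y ^ (w 1).val * (M.dd (w 2) (w 3) * (z ^ (w' 0).val * M.y ^ (w' 1).val))
          * M.dd (w' 2) (w' 3) := by rw [(c2.mul_right c3).eq]
    _ = _ := by simp only [mul_assoc]

theorem e_mem (w : V) : M.e w ∈ M.link.A :=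
  M.link.A.mul_mem (M.link.A.mul_mem (Subgroup.pow_mem _ M.link.z_mem_A _)
    (Subgroup.pow_mem _ M.link.y_mem_A _)) (M.link.inter_mem_A (M.dd_mem _ _).1 (M.dd_mem _ _).2)

theorem dR_vec : ((C.ν M.dR 2, C.ν M.dR 3) : ZMod 3 × ZMod 3) ≠ 0 := by
  intro h
  simp only [Prod.ext_iff, Prod.fst_zero, Prod.snd_zero] at h
  exact M.dne (funext fun l => by fin_cases l <;> simp [M.d0, M.d1, h.1, h.2])

theorem dL_vec : ((C.ν M.dL 0, C.ν M.dL 1) : ZMod 3 × ZMod 3) ≠ 0 := by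
  intro h
  simp only [Prod.ext_iff, Prod.fst_zero, Prod.snd_zero] at h
  exact M.dL_spec.2.2.2.2.1
    (funext fun l => by fin_cases l <;> simp [h.1, h.2, M.dL_spec.2.2.1, M.dL_spec.2.2.2.1])

theorem exists_dd {d : G} (hd : d ∈ C.Q) (hd' : d ∈ (C.conj M.g).Q) : ∃ u v, d = M.dd u v := by
  have L := M.link
  have hR := (C.toFrame.commute_iff hd M.dQ).mp (L.D_comm hd hd' M.dQ M.dR_mem')
  have hL := (C.toFrame.commute_iff hd M.dL_spec.1).mp (L.D_comm hd hd' M.dL_spec.1 M.dL_spec.2.1)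
  obtain ⟨u, hu⟩ := pair_zero (C.ν M.dR 2, C.ν M.dR 3) (C.ν d 2, C.ν d 3) M.dR_vec (by
    simp only [B, M.d0, M.d1] at hR
    simp only [det2]
    linear_combination -hR)
  obtain ⟨v, hv⟩ := pair_zero (C.ν M.dL 0, C.ν M.dL 1) (C.ν d 0, C.ν d 1) M.dL_vec (by
    simp only [B, M.dL_spec.2.2.1, M.dL_spec.2.2.2.1] at hL
    simp only [det2]
    linear_combination -hL)
  simp only [Prod.mk.injEq] at hu hv
  refine ⟨u, v, L.inter_eq hd hd' (M.dd_mem u v).1 (M.dd_mem u v).2 ?_⟩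
  rw [M.ν_dd]
  funext l
  fin_cases l <;> simp [hu, hv, M.d0, M.d1, M.dL_spec.2.2.1, M.dL_spec.2.2.2.1]

theorem e_surj {x : G} (hx : x ∈ M.link.A) : ∃ w, x = M.e w := by
  obtain ⟨d, j, m, hd, hd', rfl⟩ := hx
  obtain ⟨u, v, rfl⟩ := M.exists_dd hd hd'
  refine ⟨![j, m, u, v], ?_⟩
  have c1 := ((M.dd_comm u v).1.pow_right j.val).mul_right ((M.dd_comm u v).2.pow_right m.val)
  show M.dd u v * z ^ j.val * M.y ^ m.val = z ^ j.val * M.y ^ m.val * M.dd u v
  rw [mul_assoc, c1.eq]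

theorem e_zero : M.e 0 = 1 := by simp [e, dd]

theorem y_pow_mem {m : ZMod 3} (h : M.y ^ m.val ∈ C.Q) : m = 0 := by
  by_contra hm
  refine M.out ?_
  have e2 : (M.y ^ m.val) ^ m.val = M.y := by
    rw [← pow_mul]
    conv_rhs => rw [← pow_one M.y]
    rw [pow_inj_mod, show orderOf M.y = 3 from (C.conj M.g).hz]
    have : ∀ a : ZMod 3, a ≠ 0 → a.val * a.val % 3 = 1 % 3 := by decide
    exact this _ hm
  show M.y ∈ C.Q
  rw [← e2]
  exact C.Q.pow_mem h _

theorem e_eq_one {w : V} (h : M.e w = 1) : w = 0 := by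
  have hm : w 1 = 0 := by
    refine M.y_pow_mem ?_
    have h1 : M.y ^ (w 1).val = (z ^ (w 0).val)⁻¹ * (M.dd (w 2) (w 3))⁻¹ := by
      rw [e, mul_eq_one_iff_eq_inv] at h
      rw [← h, inv_mul_cancel_left]
    rw [h1]
    exact C.Q.mul_mem (C.Q.inv_mem (C.toFrame.zpow_mem _)) (C.Q.inv_mem (M.dd_mem _ _).1)
  rw [e, hm, ZMod.val_zero, pow_zero, mul_one] at h
  have h2 : C.ν (z ^ (w 0).val * M.dd (w 2) (w 3)) = 0 := by rw [h, C.toFrame.ν_one]
  rw [C.ν_mul _ (C.toFrame.zpow_mem _) _ (M.dd_mem _ _).1, C.toFrame.ν_zpow, zero_add, M.ν_dd] at h2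
  have c0 := congrFun h2 0
  have c1 := congrFun h2 1
  have c2 := congrFun h2 2
  have c3 := congrFun h2 3
  simp only [Pi.add_apply, Pi.smul_apply, smul_eq_mul, M.d0, M.d1, M.dL_spec.2.2.1, M.dL_spec.2.2.2.1,
    mul_zero, zero_add, add_zero, Pi.zero_apply] at c0 c1 c2 c3
  have hu := (smul_ne (w 2) _ M.dR_vec).mp ⟨c2, c3⟩
  have hv := (smul_ne (w 3) _ M.dL_vec).mp ⟨c0, c1⟩
  rw [hu, hv] at h
  simp only [dd, ZMod.val_zero, pow_zero, mul_one] at h
  have hj := (C.toFrame.zpow_val_one).mp h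
  funext l
  fin_cases l <;> simp [hj, hm, hu, hv]

theorem e_inj {w w' : V} (h : M.e w = M.e w') : w = w' := by
  refine sub_eq_zero.mp (M.e_eq_one ?_)
  have := M.e_add (w - w') w'
  rw [sub_add_cancel, ← h] at this
  exact mul_eq_right.mp this.symm

theorem card_A : Nat.card M.link.A = 81 := by
  rw [← Nat.card_eq_of_bijective (fun w => (⟨M.e w, M.e_mem w⟩ : M.link.A))
    ⟨fun w w' h => M.e_inj (congrArg Subtype.val h), fun x => by
      obtain ⟨w, hw⟩ := M.e_surj x.2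
      exact ⟨w, Subtype.ext hw.symm⟩⟩, Nat.card_fun, Nat.card_zmod, Nat.card_fin]
  norm_num

theorem g_sq_z : Commute (M.g * M.g) z := by
  rw [commute_iff_eq, ← mul_inv_eq_iff_eq_mul, show M.g * M.g * z * (M.g * M.g)⁻¹ = M.g * M.y * M.g⁻¹ by
    rw [Mirror.y]; group, M.g_back]

/-- the interchanging element preserves the common part -/
theorem g_inter {d : G} (hd : d ∈ C.Q) (hd' : d ∈ (C.conj M.g).Q) :
    M.g * d * M.g⁻¹ ∈ C.Q ∧ M.g * d * M.g⁻¹ ∈ (C.conj M.g).Q := by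
  refine ⟨?_, ⟨d, hd, rfl⟩⟩
  obtain ⟨d₀, h₀, rfl⟩ := hd'
  have := C.normQ _ M.g_sq_z d₀ h₀
  simpa [mul_assoc] using this

/-- the interchanging element normalises `A` -/
theorem g_norm {a : G} (ha : a ∈ M.link.A) : M.g * a * M.g⁻¹ ∈ M.link.A := by
  obtain ⟨d, j, m, hd, hd', rfl⟩ := ha
  have h := M.g_inter hd hd'
  have e1 : M.g * (d * z ^ j.val * (M.g * z * M.g⁻¹) ^ m.val) * M.g⁻¹ =
      (M.g * d * M.g⁻¹) * (M.y) ^ j.val * z ^ m.val := by
    rw [show M.g * (d * z ^ j.val * (M.g * z * M.g⁻¹) ^ m.val) * M.g⁻¹ =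
      (M.g * d * M.g⁻¹) * (M.g * z ^ j.val * M.g⁻¹) * (M.g * (M.g * z * M.g⁻¹) ^ m.val * M.g⁻¹) by group,
      ← conj_pow (a := M.g), ← conj_pow (a := M.g) (b := M.g * z * M.g⁻¹), M.back]
    rfl
  rw [e1]
  exact M.link.A.mul_mem (M.link.A.mul_mem (M.link.inter_mem_A h.1 h.2)
    (Subgroup.pow_mem _ M.link.y_mem_A _)) (Subgroup.pow_mem _ M.link.z_mem_A _)

/-- every point is a conjugate of `z` or of its inverse -/
theorem point_conj {w : V} (h : Pt w) :
    ∃ g : G, (∀ a ∈ M.link.A, g * a * g⁻¹ ∈ M.link.A) ∧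
      (g * z * g⁻¹ = M.e w ∨ (g * z * g⁻¹) ^ 2 = M.e w) := by
  rcases h with ⟨h1, h2, h3, h0⟩ | ⟨h1, hq⟩
  · refine ⟨1, fun a ha => by simpa using ha, ?_⟩
    have e1 : M.e w = z ^ (w 0).val := by simp [e, dd, h1, h2, h3]
    rw [e1]
    rcases zm_one _ h0 with h | h <;> rw [h]
    · left; simp [show (1 : ZMod 3).val = 1 from rfl]
    · right; simp [show (2 : ZMod 3).val = 2 from rfl]
  obtain ⟨m, hm⟩ : ∃ m, m = w 1 := ⟨_, rfl⟩
  rw [← hm] at h1 hq
  have L := M.link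
  obtain ⟨x, hx, k, hk⟩ := L.exists_disp (M.dd_mem (m * w 2) (m * w 3)).1 (M.dd_mem (m * w 2) (m * w 3)).2
  obtain ⟨hν, hk'⟩ := L.disp_exp hx (M.dd_mem _ _).1 (M.dd_mem _ _).2 hk
  have hk2 : k = m * w 2 * (m * w 2) + m * w 3 * (m * w 3) := by
    obtain ⟨a, b, et, ha, hb, -, -⟩ := L.top_pair
    have ho : a.orient = 1 := by
      have := M.orient
      rw [et] at this
      exact this
    have hob : b.orient = 1 := by
      have := L.orient_and_exponents.1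
      rw [et] at this
      simp only at this
      rw [← this, ho]
    have key : B (C.ν x) (act (false, a, b) (C.ν x)) =
        det2 (C.ν x 0, C.ν x 1) (a.app (C.ν x 0, C.ν x 1)) + det2 (C.ν x 2, C.ν x 3) (b.app (C.ν x 2, C.ν x 3)) := by
      simp [B, act, det2, S.app]
    rw [hk', et, key, det_app a ha, det_app b hb, ho, hob, zm_sq, zm_sq]
    rw [M.ν_dd, et] at hν
    have c0 := congrFun hν 0
    have c1 := congrFun hν 1
    have c2 := congrFun hν 2
    have c3 := congrFun hν 3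
    simp only [Pi.add_apply, Pi.sub_apply, Pi.smul_apply, smul_eq_mul, M.d0, M.d1, M.dL_spec.2.2.1,
      M.dL_spec.2.2.2.1, mul_zero, zero_add, add_zero] at c0 c1 c2 c3
    simp [act] at c0 c1 c2 c3
    have hL : a.app (C.ν x 0, C.ν x 1) = (C.ν x 0, C.ν x 1) ↔ m * w 3 = 0 := by
      rw [← smul_ne (m * w 3) _ M.dL_vec]
      simp only [S.app, Prod.mk.injEq]
      rw [← sub_eq_zero (b := C.ν x 0), ← sub_eq_zero (b := C.ν x 1), c0, c1]
    have hR : b.app (C.ν x 2, C.ν x 3) = (C.ν x 2, C.ν x 3) ↔ m * w 2 = 0 := by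
      rw [← smul_ne (m * w 2) _ M.dR_vec]
      simp only [S.app, Prod.mk.injEq]
      rw [← sub_eq_zero (b := C.ν x 2), ← sub_eq_zero (b := C.ν x 3), c2, c3]
    simp only [hL, hR]
    exact add_comm _ _
  have hp : x⁻¹ * M.y * x = M.e ![k, 1, m * w 2, m * w 3] := by
    refine hk.trans ?_
    show M.y * (M.dd (m * w 2) (m * w 3) * z ^ k.val) = z ^ k.val * M.y ^ (1 : ZMod 3).val * M.dd _ _
    rw [show (1 : ZMod 3).val = 1 from rfl, pow_one]
    have c1 : Commute (z ^ k.val) M.y := (M.comm).pow_left _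
    rw [c1.eq, mul_assoc, ((M.dd_comm _ _).1.pow_right k.val).eq]
    rfl
  obtain ⟨g, hgd⟩ : ∃ g, g = x⁻¹ * M.g := ⟨_, rfl⟩
  have hg : g * z * g⁻¹ = x⁻¹ * M.y * x := by
    rw [hgd, Mirror.y]; group
  refine ⟨g, fun a ha => ?_, ?_⟩
  · rw [hgd, show x⁻¹ * M.g * a * (x⁻¹ * M.g)⁻¹ = x⁻¹ * (M.g * a * M.g⁻¹) * x by group]
    exact L.Q_normalises hx (M.g_norm ha)
  rw [hg, hp, hk2, pow_two, ← M.e_add]
  have hmm : m * m = 1 := by
    have : ∀ t : ZMod 3, t ≠ 0 → t * t = 1 := by decide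
    exact this m h1
  have hw0 : w 0 = m * (w 2 * w 2 + w 3 * w 3) := by rw [← hq]; linear_combination -(w 0) * hmm
  rcases zm_one m h1 with rfl | rfl
  · left
    congr 1
    funext l
    fin_cases l <;> simp [← hm, hw0]
  · right
    congr 1
    have e4 : ∀ t : ZMod 3, 2 * t + 2 * t = t := by decide
    funext l
    fin_cases l
    · simp [hw0]; ring_nf
      have : ∀ s t : ZMod 3, 8 * s ^ 2 + 8 * t ^ 2 = 2 * s ^ 2 + 2 * t ^ 2 := by decide
      linear_combination this (w 2) (w 3)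
    · simp [← hm]; decide
    · simpa using e4 (w 2)
    · simpa using e4 (w 3)

variable [Finite G]

/-- a subgroup of order prime to three in `C(z)` normalised by `A` is trivial -/
theorem signalizer_z {K : Subgroup G} (hK : ¬ 3 ∣ Nat.card K) (hA : ∀ a ∈ M.link.A, ∀ k ∈ K, a * k * a⁻¹ ∈ K)
    (hz : ∀ k ∈ K, Commute k z) : K = ⊥ := by
  rw [Subgroup.eq_bot_iff_forall]
  intro k hk
  have small : ∀ u ∈ K, u ∈ C.Q → u = 1 := fun u hu huQ => by
    have h3 := orderOf_dvd_of_pow_eq_one (C.toFrame.cube huQ)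
    have hd := (Subgroup.orderOf_dvd_natCard K hu)
    rcases (Nat.dvd_prime Nat.prime_three).mp h3 with h | h
    · exact orderOf_eq_one_iff.mp h
    · exact absurd (h ▸ hd) hK
  have hW : ∀ w ∈ C.Q, w ∈ M.link.A → Commute k w := by
    intro w hw hwA
    have h1 : k * w * k⁻¹ * w⁻¹ ∈ C.Q := C.Q.mul_mem (C.normQ k (hz k hk) w hw) (C.Q.inv_mem hw)
    have h2 : k * w * k⁻¹ * w⁻¹ ∈ K := by
      rw [show k * w * k⁻¹ * w⁻¹ = k * (w * k⁻¹ * w⁻¹) by group]
      exact K.mul_mem hk (hA w hwA _ (K.inv_mem hk))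
    have := small _ h2 h1
    rwa [mul_inv_eq_one, mul_inv_eq_iff_eq_mul] at this
  have hL := Frame.top_vec_fixed (C := C) (hz k hk) M.dL_spec.1
    (hW _ M.dL_spec.1 (M.link.inter_mem_A M.dL_spec.1 M.dL_spec.2.1))
  have hR := Frame.top_vec_fixed (C := C) (hz k hk) M.dQ (hW _ M.dQ (M.link.inter_mem_A M.dQ M.dR_mem'))
  have hcube : C.top (k ^ 3) = Top.one := by
    rcases ht : C.top k with ⟨t, a, b⟩
    rw [ht] at hL hR
    cases t
    · have fix_cube : ∀ a : S, ∀ p : ZMod 3 × ZMod 3, p ≠ 0 → a.app p = p → (a.mul a).mul a = S.one := by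
        decide +kernel
      rw [Frame.pow_three (F := C.toFrame) (hz k hk) ht]
      have h1 : a.app (C.ν M.dL 0, C.ν M.dL 1) = (C.ν M.dL 0, C.ν M.dL 1) := Prod.ext
        (by have := congrFun hL 0; simpa [act, S.app] using this)
        (by have := congrFun hL 1; simpa [act, S.app] using this)
      have h2 : b.app (C.ν M.dR 2, C.ν M.dR 3) = (C.ν M.dR 2, C.ν M.dR 3) := Prod.ext
        (by have := congrFun hR 2; simpa [act, S.app] using this)
        (by have := congrFun hR 3; simpa [act, S.app] using this)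
      rw [fix_cube a _ M.dL_vec h1, fix_cube b _ M.dR_vec h2]
      rfl
    · exfalso
      refine M.dR_vec (Prod.ext ?_ ?_)
      · have := congrFun hR 2; simpa [act, M.d0, M.d1] using this.symm
      · have := congrFun hR 3; simpa [act, M.d0, M.d1] using this.symm
  have h1 := small _ (K.pow_mem hk 3) ((C.toFrame.mem_Q_iff ((hz k hk).pow_left 3)).mpr hcube)
  rcases (Nat.dvd_prime Nat.prime_three).mp (orderOf_dvd_of_pow_eq_one h1) with h | h
  · exact orderOf_eq_one_iff.mp h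
  · exact absurd (h ▸ Subgroup.orderOf_dvd_natCard K hk) hK

end Mirror

end Cfsg.Agent.Spor.USixThree
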