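import Cfsg.Agent.Lib.Spor.USixThree.Frame

/-!
Coordinates on the extraspecial subgroup from a symplectic basis.
-/

set_option autoImplicit false
set_option linter.unusedSectionVars false
set_option maxHeartbeats 800000

namespace Cfsg.Agent.Spor.USixThree

universe u

/-- the bare data -/
structure Ext {G : Type u} [Group G] (z : G) where
  Q : Subgroup G
  hz : orderOf z = 3
  zQ : z ∈ Q
  QC : ∀ x ∈ Q, Commute x z
  normQ : ∀ c, Commute c z → ∀ x ∈ Q, c * x * c⁻¹ ∈ Q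
  self : ∀ c, Commute c z → (∀ x ∈ Q, Commute c x) → c ∈ Q
  card : Nat.card Q = 243
  center : ∀ x ∈ Q, (∀ y ∈ Q, Commute x y) → x ∈ Subgroup.zpowers z
  comm_mem : ∀ x ∈ Q, ∀ y ∈ Q, x * y * x⁻¹ * y⁻¹ ∈ Subgroup.zpowers z
  cube_mem : ∀ x ∈ Q, x ^ 3 ∈ Subgroup.zpowers z

namespace Ext

open scoped Classical in
/-- the exponent of a commutator -/
noncomputable def κ {G : Type u} [Group G] {z : G} (_E : Ext z) (x y : G) : ZMod 3 :=
  if h : ∃ a : ZMod 3, x * y = z ^ a.val * (y * x) then h.choose else 0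

variable {G : Type u} [Group G] {z : G} (E : Ext z)
include E

theorem zpow_val_inj {a b : ZMod 3} (h : z ^ a.val = z ^ b.val) : a = b := by
  rw [pow_inj_mod, E.hz, Nat.mod_eq_of_lt (ZMod.val_lt a), Nat.mod_eq_of_lt (ZMod.val_lt b)] at h
  exact ZMod.val_injective 3 h

theorem zpow_add (a b : ZMod 3) : z ^ (a + b).val = z ^ a.val * z ^ b.val := by
  rw [← pow_add, pow_inj_mod, E.hz, ZMod.val_add, Nat.mod_mod]

theorem exists_val {x : G} (h : x ∈ Subgroup.zpowers z) : ∃ a : ZMod 3, x = z ^ a.val := by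
  obtain ⟨k, rfl⟩ := Subgroup.mem_zpowers_iff.mp h
  refine ⟨(k : ZMod 3), ?_⟩
  rw [← zpow_natCast, zpow_eq_zpow_iff_modEq, E.hz, ← ZMod.intCast_eq_intCast_iff]
  push_cast
  rw [ZMod.natCast_zmod_val]

theorem zcen {x : G} (hx : x ∈ E.Q) (a : ZMod 3) : Commute x (z ^ a.val) := (E.QC x hx).pow_right _

theorem κ_spec {x y : G} (hx : x ∈ E.Q) (hy : y ∈ E.Q) : x * y = z ^ (E.κ x y).val * (y * x) := by
  have h : ∃ a : ZMod 3, x * y = z ^ a.val * (y * x) := by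
    obtain ⟨a, ha⟩ := E.exists_val (E.comm_mem x hx y hy)
    exact ⟨a, by rw [← ha]; group⟩
  rw [κ, dif_pos h]
  exact h.choose_spec

theorem κ_eq {x y : G} (hx : x ∈ E.Q) (hy : y ∈ E.Q) {a : ZMod 3} (h : x * y = z ^ a.val * (y * x)) :
    E.κ x y = a :=
  E.zpow_val_inj (mul_right_cancel ((E.κ_spec hx hy).symm.trans h))

theorem κ_zero_iff {x y : G} (hx : x ∈ E.Q) (hy : y ∈ E.Q) : E.κ x y = 0 ↔ Commute x y := by
  refine ⟨fun h => ?_, fun h => E.κ_eq hx hy (by simpa using h.eq)⟩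
  have := E.κ_spec hx hy
  rw [h] at this
  simpa [commute_iff_eq] using this

theorem κ_self {x : G} (hx : x ∈ E.Q) : E.κ x x = 0 := (E.κ_zero_iff hx hx).mpr (Commute.refl x)

theorem κ_mul_left {x x' y : G} (hx : x ∈ E.Q) (hx' : x' ∈ E.Q) (hy : y ∈ E.Q) :
    E.κ (x * x') y = E.κ x y + E.κ x' y := by
  refine E.κ_eq (E.Q.mul_mem hx hx') hy ?_
  calc x * x' * y = x * (x' * y) := mul_assoc _ _ _
    _ = z ^ (E.κ x' y).val * (x * y) * x' := by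
      rw [E.κ_spec hx' hy, ← mul_assoc, (E.zcen hx _).eq]; simp only [mul_assoc]
    _ = z ^ (E.κ x' y).val * z ^ (E.κ x y).val * (y * (x * x')) := by
      rw [E.κ_spec hx hy]; simp only [mul_assoc]
    _ = _ := by rw [← E.zpow_add, add_comm]

theorem κ_swap {x y : G} (hx : x ∈ E.Q) (hy : y ∈ E.Q) : E.κ y x = -E.κ x y := by
  refine E.κ_eq hy hx ?_
  conv_rhs => rw [E.κ_spec hx hy]
  rw [← mul_assoc, ← E.zpow_add, neg_add_cancel]
  simp

theorem κ_mul_right {x y y' : G} (hx : x ∈ E.Q) (hy : y ∈ E.Q) (hy' : y' ∈ E.Q) :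
    E.κ x (y * y') = E.κ x y + E.κ x y' := by
  rw [E.κ_swap (E.Q.mul_mem hy hy') hx, E.κ_mul_left hy hy' hx, neg_add, ← E.κ_swap hy hx, ← E.κ_swap hy' hx]

theorem κ_conj {c x y : G} (hc : Commute c z) (hx : x ∈ E.Q) (hy : y ∈ E.Q) :
    E.κ (c * x * c⁻¹) (c * y * c⁻¹) = E.κ x y := by
  refine E.κ_eq (E.normQ c hc x hx) (E.normQ c hc y hy) ?_
  have e : c * z ^ (E.κ x y).val * c⁻¹ = z ^ (E.κ x y).val := by
    rw [(hc.pow_right _).eq, mul_inv_cancel_right]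
  calc c * x * c⁻¹ * (c * y * c⁻¹) = c * (x * y) * c⁻¹ := by group
    _ = c * (z ^ (E.κ x y).val * (y * x)) * c⁻¹ := by rw [← E.κ_spec hx hy]
    _ = c * z ^ (E.κ x y).val * c⁻¹ * (c * y * c⁻¹ * (c * x * c⁻¹)) := by group
    _ = _ := by rw [e]

theorem κ_z {y : G} (hy : y ∈ E.Q) : E.κ z y = 0 := (E.κ_zero_iff E.zQ hy).mpr (E.QC y hy).symm

theorem κ_zpowers {x y : G} (hx : x ∈ Subgroup.zpowers z) (hy : y ∈ E.Q) : E.κ x y = 0 := by
  obtain ⟨a, rfl⟩ := E.exists_val hx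
  exact (E.κ_zero_iff (E.Q.pow_mem E.zQ _) hy).mpr (E.zcen hy a).symm

theorem κ_one {y : G} (hy : y ∈ E.Q) : E.κ 1 y = 0 := E.κ_zpowers (Subgroup.one_mem _) hy

theorem κ_pow {x y : G} (hx : x ∈ E.Q) (hy : y ∈ E.Q) (n : ℕ) : E.κ (x ^ n) y = n * E.κ x y := by
  induction n with
  | zero => rw [pow_zero, E.κ_one hy]; simp
  | succ n ih => rw [pow_succ, E.κ_mul_left (E.Q.pow_mem hx n) hx hy, ih]; push_cast; ring

end Ext

/-- four elements with the standard commutators -/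
structure Ext.Basis {G : Type u} [Group G] {z : G} (E : Ext z) where
  e : Fin 4 → G
  mem : ∀ i, e i ∈ E.Q
  rel : ∀ i j, E.κ (e i) (e j) = B (bv i) (bv j)

namespace Ext.Basis

variable {G : Type u} [Group G] {z : G} {E : Ext z} (b : E.Basis)
include b

/-- the coordinates -/
noncomputable def ν (x : G) : V := ![E.κ x (b.e 1), -E.κ x (b.e 0), E.κ x (b.e 3), -E.κ x (b.e 2)]

theorem ν_mul {x y : G} (hx : x ∈ E.Q) (hy : y ∈ E.Q) : b.ν (x * y) = b.ν x + b.ν y := by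
  funext i
  fin_cases i <;> simp [ν, E.κ_mul_left hx hy (b.mem _)] <;> ring

theorem ν_e (i : Fin 4) : b.ν (b.e i) = bv i := by
  funext j
  fin_cases i <;> fin_cases j <;> simp [ν, b.rel, B, bv]

/-- the word -/
def word (v : V) : G := b.e 0 ^ (v 0).val * b.e 1 ^ (v 1).val * (b.e 2 ^ (v 2).val * b.e 3 ^ (v 3).val)

theorem word_mem (v : V) : b.word v ∈ E.Q :=
  E.Q.mul_mem (E.Q.mul_mem (E.Q.pow_mem (b.mem 0) _) (E.Q.pow_mem (b.mem 1) _))
    (E.Q.mul_mem (E.Q.pow_mem (b.mem 2) _) (E.Q.pow_mem (b.mem 3) _))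

theorem κ_word (v : V) {y : G} (hy : y ∈ E.Q) :
    E.κ (b.word v) y = v 0 * E.κ (b.e 0) y + v 1 * E.κ (b.e 1) y + (v 2 * E.κ (b.e 2) y + v 3 * E.κ (b.e 3) y) := by
  have hp : ∀ i (k : ℕ), b.e i ^ k ∈ E.Q := fun i k => E.Q.pow_mem (b.mem i) k
  rw [word, E.κ_mul_left (E.Q.mul_mem (hp 0 _) (hp 1 _)) (E.Q.mul_mem (hp 2 _) (hp 3 _)) hy,
    E.κ_mul_left (hp 0 _) (hp 1 _) hy, E.κ_mul_left (hp 2 _) (hp 3 _) hy, E.κ_pow (b.mem 0) hy,
    E.κ_pow (b.mem 1) hy, E.κ_pow (b.mem 2) hy, E.κ_pow (b.mem 3) hy]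
  simp only [ZMod.natCast_zmod_val]

theorem ν_word (v : V) : b.ν (b.word v) = v := by
  funext j
  fin_cases j <;> simp [ν, b.κ_word v (b.mem _), b.rel, B, bv]

theorem ν_zero [Finite G] {x : G} (hx : x ∈ E.Q) : b.ν x = 0 ↔ x ∈ Subgroup.zpowers z := by
  classical
  refine ⟨fun h => ?_, fun h => by funext j; fin_cases j <;> simp [ν, E.κ_zpowers h (b.mem _)]⟩
  let f : ↥E.Q →* Multiplicative V :=
    MonoidHom.mk' (fun q => Multiplicative.ofAdd (b.ν q)) fun p q => by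
      rw [← ofAdd_add, ← b.ν_mul p.2 q.2]; rfl
  have hf : Function.Surjective f := fun v =>
    ⟨⟨b.word (Multiplicative.toAdd v), b.word_mem _⟩, congrArg Multiplicative.ofAdd (b.ν_word _)⟩
  have hk : Nat.card f.ker = 3 := by
    have h1 := f.ker.card_mul_index
    rw [Subgroup.index_ker, MonoidHom.range_eq_top.mpr hf, Subgroup.card_top, E.card,
      Nat.card_congr Multiplicative.toAdd, Nat.card_fun, Nat.card_zmod, Nat.card_fin] at h1
    omega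
  have hle : Subgroup.zpowers (⟨z, E.zQ⟩ : ↥E.Q) ≤ f.ker := Subgroup.zpowers_le.mpr (by
    rw [MonoidHom.mem_ker]
    show Multiplicative.ofAdd (b.ν z) = 1
    have : b.ν z = 0 := by funext j; fin_cases j <;> simp [ν, E.κ_z (b.mem _)]
    rw [this]; rfl)
  have heq := Subgroup.eq_of_le_of_card_ge hle (by rw [hk, Nat.card_zpowers, Subgroup.orderOf_mk, E.hz])
  have hm : (⟨x, hx⟩ : ↥E.Q) ∈ f.ker := by
    rw [MonoidHom.mem_ker]
    show Multiplicative.ofAdd (b.ν x) = 1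
    rw [h]; rfl
  rw [← heq] at hm
  obtain ⟨k, hk'⟩ := Subgroup.mem_zpowers_iff.mp hm
  exact Subgroup.mem_zpowers_iff.mpr ⟨k, by simpa using congrArg Subtype.val hk'⟩

theorem exists_word [Finite G] {x : G} (hx : x ∈ E.Q) :
    ∃ a : ZMod 3, x = b.word (b.ν x) * z ^ a.val := by
  have hm : (b.word (b.ν x))⁻¹ * x ∈ E.Q := E.Q.mul_mem (E.Q.inv_mem (b.word_mem _)) hx
  obtain ⟨a, ha⟩ := E.exists_val ((b.ν_zero hm).mp (by
    have h1 : b.ν (b.word (b.ν x) * ((b.word (b.ν x))⁻¹ * x)) = b.ν x := by rw [mul_inv_cancel_left]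
    rw [b.ν_mul (b.word_mem _) hm, b.ν_word] at h1
    simpa using h1))
  exact ⟨a, by rw [← ha, mul_inv_cancel_left]⟩

theorem κ_eq_B [Finite G] {x y : G} (hx : x ∈ E.Q) (hy : y ∈ E.Q) : E.κ x y = B (b.ν x) (b.ν y) := by
  obtain ⟨a, ha⟩ := b.exists_word hx
  have e : ∀ i, E.κ (b.e i) y = B (bv i) (b.ν y) := by
    intro i
    rw [E.κ_swap hy (b.mem i)]
    fin_cases i <;> simp [ν, B, bv]
  conv_lhs => rw [ha]
  rw [E.κ_mul_left (b.word_mem _) (E.Q.pow_mem E.zQ _) hy,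
    E.κ_zpowers (Subgroup.npow_mem_zpowers z _) hy, add_zero, b.κ_word _ hy, e, e, e, e]
  simp [B, bv]
  ring

theorem ν_lin [Finite G] {c x : G} (hc : Commute c z) (hx : x ∈ E.Q) :
    b.ν (c * x * c⁻¹) = b.ν x 0 • b.ν (c * b.e 0 * c⁻¹) + b.ν x 1 • b.ν (c * b.e 1 * c⁻¹) +
      b.ν x 2 • b.ν (c * b.e 2 * c⁻¹) + b.ν x 3 • b.ν (c * b.e 3 * c⁻¹) := by
  have hxe : ∀ i, E.κ (c * x * c⁻¹) (c * b.e i * c⁻¹) = E.κ x (b.e i) := fun i => E.κ_conj hc hx (b.mem i)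
  obtain ⟨a, ha⟩ := b.exists_word hx
  have key : ∀ y ∈ E.Q, E.κ (c * x * c⁻¹) y = b.ν x 0 * E.κ (c * b.e 0 * c⁻¹) y +
      b.ν x 1 * E.κ (c * b.e 1 * c⁻¹) y + (b.ν x 2 * E.κ (c * b.e 2 * c⁻¹) y + b.ν x 3 * E.κ (c * b.e 3 * c⁻¹) y) := by
    intro y hy
    obtain ⟨y', hy', rfl⟩ : ∃ y' ∈ E.Q, y = c * y' * c⁻¹ :=
      ⟨c⁻¹ * y * c, by simpa using E.normQ c⁻¹ hc.inv_left y hy, by group⟩
    rw [E.κ_conj hc hx hy', E.κ_conj hc (b.mem 0) hy', E.κ_conj hc (b.mem 1) hy', E.κ_conj hc (b.mem 2) hy',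
      E.κ_conj hc (b.mem 3) hy', ← b.κ_word _ hy']
    conv_lhs => rw [ha]
    rw [E.κ_mul_left (b.word_mem _) (E.Q.pow_mem E.zQ _) hy', E.κ_zpowers (Subgroup.npow_mem_zpowers z _) hy',
      add_zero]
  funext j
  fin_cases j <;> simp [ν, key _ (b.mem _)] <;> ring

end Ext.Basis

end Cfsg.Agent.Spor.USixThree
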