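import Cfsg.Agent.S0283
import Cfsg.Agent.S0280
import Cfsg.Agent.Lib.Local.Basics
import Cfsg.Agent.Lib.Solv.Subnormal
import Cfsg.Agent.Lib.Fusion.BpBalanceTools

/-!
The last step: a normal subgroup isomorphic to `U₆(2)` and small index.
-/

set_option autoImplicit false

namespace Cfsg.Agent.Spor.USixThree

universe u

variable {G : Type u} [Group G] [Finite G]

/-- the conclusion of the characterisation -/
def Concl (G : Type u) [Group G] : Prop :=
  (∃ (F : Type) (_ : Field F) (_ : Fintype F), Fintype.card F = 4 ∧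
    Nonempty (↥(Cfsg.generalizedFittingSubgroup G) ≃* Cfsg.PSU 6 F 2)) ∧
  Subgroup.centralizer ((Cfsg.generalizedFittingSubgroup G : Subgroup G) : Set G) = ⊥

theorem concl_of_normal {G₀ : Subgroup G} [G₀.Normal] {F : Type} [Field F] [Fintype F]
    (hF : Fintype.card F = 4) (e : ↥G₀ ≃* Cfsg.PSU 6 F 2) (hC : Subgroup.centralizer (G₀ : Set G) = ⊥) :
    Concl G := by
  haveI : IsSimpleGroup (Cfsg.PSU 6 F 2) :=
    Cfsg.Agent.S0283.result (q := 2) (by rw [hF]; norm_num) 6 (by norm_num) (by norm_num)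
  haveI : IsSimpleGroup ↥G₀ := e.isSimpleGroup
  haveI : Fact (Nat.Prime 2) := ⟨Nat.prime_two⟩
  have hne : G₀ ≠ ⊥ := fun h => by
    haveI : Subsingleton ↥G₀ := h ▸ inferInstance
    exact not_nontrivial ↥G₀ inferInstance
  have hnc : ⁅G₀, G₀⁆ ≠ ⊥ := fun h => hne (le_bot_iff.1 (hC ▸ Subgroup.commutator_eq_bot_iff_le_centralizer.1 h))
  have hperf : ⁅G₀, G₀⁆ = G₀ := by
    haveI : (⁅G₀, G₀⁆).Normal := inferInstance
    have hle : ⁅G₀, G₀⁆ ≤ G₀ := Subgroup.commutator_le_self G₀
    rcases ((inferInstance : (⁅G₀, G₀⁆).Normal).subgroupOf G₀).eq_bot_or_eq_top with h | h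
    · refine absurd ?_ hnc
      rw [Subgroup.subgroupOf_eq_bot] at h
      exact le_bot_iff.1 (fun x hx => h.le_bot ⟨hx, hle hx⟩)
    · exact le_antisymm hle (Subgroup.subgroupOf_eq_top.1 h)
  have hcomp : Cfsg.IsComponent G₀ :=
    Solv.isComponent_of_minimal (inferInstance : G₀.Normal).isSubnormal hne hperf fun M hM hMtop => by
      rw [(hM.eq_bot_or_eq_top).resolve_right hMtop]; exact bot_le
  have h := (Agent.BpBal.almost_simple (p := 2) hcomp hC).1
  refine ⟨⟨F, inferInstance, inferInstance, hF, ⟨(MulEquiv.subgroupCongr h).trans e⟩⟩, ?_⟩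
  rw [h]; exact hC

theorem concl_of_iso {F : Type} [Field F] [Fintype F] (hF : Fintype.card F = 4)
    (e : G ≃* Cfsg.PSU 6 F 2) : Concl G := by
  haveI : IsSimpleGroup (Cfsg.PSU 6 F 2) :=
    Cfsg.Agent.S0283.result (q := 2) (by rw [hF]; norm_num) 6 (by norm_num) (by norm_num)
  haveI : IsSimpleGroup G := e.isSimpleGroup
  refine concl_of_normal (G₀ := ⊤) hF (Subgroup.topEquiv.trans e) ?_
  rw [Subgroup.coe_top, Subgroup.centralizer_univ]
  refine ((inferInstance : (Subgroup.center G).Normal).eq_bot_or_eq_top).resolve_right fun h => ?_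
  have hc : ∀ a b : G, a * b = b * a := fun a b => (Subgroup.mem_center_iff.1 (h ▸ trivial : b ∈ Subgroup.center G) a)
  letI : CommGroup G := { (inferInstance : Group G) with mul_comm := hc }
  have hp : (Nat.card G).Prime := IsSimpleGroup.prime_card
  rw [Nat.card_congr e.toEquiv] at hp
  have hcard := Cfsg.Agent.S0280.result (F := F) (q := 2) (by rw [hF]; norm_num) 6 (by norm_num)
  norm_num [Finset.prod_range_succ, Nat.even_iff] at hcard
  rw [show Nat.card (Cfsg.PSU 6 F 2) = 9196830720 by omega] at hp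
  norm_num at hp

/-- from a normal subgroup of small prime index -/
theorem concl_of_index {N : Subgroup G} [N.Normal] {p : ℕ} (hp : p.Prime) (hN : N.index = p)
    (h : Concl ↥N) (hsmall : ∀ C : Subgroup G, C.Normal → Nat.card C ≠ p) : Concl G := by
  obtain ⟨⟨F, _, _, hF, ⟨e⟩⟩, hC⟩ := h
  obtain ⟨L, hL⟩ : ∃ L, L = Cfsg.generalizedFittingSubgroup ↥N := ⟨_, rfl⟩
  rw [← hL] at hC e
  obtain ⟨G₀, hG₀⟩ : ∃ G₀, G₀ = L.map N.subtype := ⟨_, rfl⟩
  haveI : G₀.Normal := by
    haveI : L.Characteristic := by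
      rw [hL]
      refine Subgroup.characteristic_iff_map_le.2 fun f => ?_
      rw [Cfsg.generalizedFittingSubgroup, Subgroup.map_sup]
      refine sup_le_sup ?_ (Solv.fitting_map_equiv f)
      rw [Subgroup.map_le_iff_le_comap]
      refine sSup_le fun K hK => Subgroup.map_le_iff_le_comap.1 (Solv.component_le_layer ?_)
      exact ⟨Subgroup.IsSubnormal.map (f := f.toMonoidHom) f.surjective hK.1,
        Local.isQuasisimple_congr (K.equivMapOfInjective _ f.injective) hK.2⟩
    rw [hG₀]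
    exact ConjAct.normal_of_characteristic_of_normal
  refine concl_of_normal (G₀ := G₀) hF
    (((MulEquiv.subgroupCongr hG₀).trans (Subgroup.equivMapOfInjective L N.subtype N.subtype_injective).symm).trans e) ?_
  obtain ⟨C, hCdef⟩ : ∃ C, C = Subgroup.centralizer (G₀ : Set G) := ⟨_, rfl⟩
  rw [← hCdef]
  haveI hCn : C.Normal := hCdef ▸ Agent.Solv.centralizer_normal_of_normal G₀
  have hCN : C ⊓ N = ⊥ := le_bot_iff.1 fun x hx => by
    have hx' : (⟨x, hx.2⟩ : ↥N) ∈ Subgroup.centralizer (L : Set ↥N) :=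
      Subgroup.mem_centralizer_iff.2 fun y hy => Subtype.ext
        (Subgroup.mem_centralizer_iff.1 (hCdef ▸ hx.1) _ (hG₀ ▸ Subgroup.mem_map_of_mem N.subtype hy))
    rw [hC, Subgroup.mem_bot] at hx'
    exact congrArg Subtype.val hx'
  by_contra hne
  refine hsmall C hCn ?_
  have hinj : Function.Injective ((QuotientGroup.mk' N).comp C.subtype) := by
    rw [← MonoidHom.ker_eq_bot_iff, eq_bot_iff]
    intro x hx
    rw [MonoidHom.mem_ker, MonoidHom.comp_apply, QuotientGroup.mk'_apply, QuotientGroup.eq_one_iff] at hx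
    exact Subtype.ext (hCN.le ⟨x.2, hx⟩)
  have hd : Nat.card C ∣ p := by
    have := Subgroup.card_dvd_of_injective _ hinj
    rwa [← Subgroup.index_eq_card, hN] at this
  exact ((Nat.dvd_prime hp).1 hd).resolve_left fun h1 => hne (Subgroup.card_eq_one.1 h1)

end Cfsg.Agent.Spor.USixThree
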