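import Cfsg.Agent.Lib.Spor.USixThree.Coords

/-!
The coordinates exist: a central involution of the pair of quaternion groups splits the extraspecial
group into two orthogonal blocks, and the whole centraliser permutes them.
-/

set_option autoImplicit false
set_option linter.unusedSectionVars false
set_option maxHeartbeats 800000

namespace Cfsg.Agent.Spor.USixThree

universe u

/-- a normal pair of quaternion groups in the quotient -/
structure Quats {G : Type u} [Group G] {z : G} (E : Ext z) where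
  N : Subgroup G
  θ : ↥N →* QuaternionGroup 2 × QuaternionGroup 2
  le : ∀ x ∈ N, Commute x z
  normal : ∀ c, Commute c z → ∀ x ∈ N, c * x * c⁻¹ ∈ N
  ker : ∀ x : ↥N, θ x = 1 ↔ (x : G) ∈ E.Q
  surj : Function.Surjective θ

namespace Ext

variable {G : Type u} [Group G] [Finite G] {z : G} (E : Ext z)
include E

theorem conj_mem_zpowers {c x : G} (hc : Commute c z) (hx : x ∈ Subgroup.zpowers z) : c * x * c⁻¹ = x := by
  obtain ⟨a, rfl⟩ := E.exists_val hx
  rw [(hc.pow_right _).eq, mul_inv_cancel_right]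

theorem κ_inv_left {x y : G} (hx : x ∈ E.Q) (hy : y ∈ E.Q) : E.κ x⁻¹ y = -E.κ x y :=
  eq_neg_of_add_eq_zero_left (by rw [← E.κ_mul_left (E.Q.inv_mem hx) hx hy, inv_mul_cancel, E.κ_one hy])

theorem inv_of_invol {r : G} (h2 : r * r = 1) : r⁻¹ = r := inv_eq_of_mul_eq_one_right h2

theorem fixed_exact {r y : G} (hr : Commute r z) (h2 : r * r = 1) (hy : y ∈ E.Q) :
    Commute r (y * (r * y * r⁻¹)) := by
  have hi : r⁻¹ = r := inv_eq_of_mul_eq_one_right h2
  have hy' : r * y * r⁻¹ ∈ E.Q := E.normQ r hr y hy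
  obtain ⟨k, hk⟩ : ∃ k, k = E.κ (r * y * r⁻¹) y := ⟨_, rfl⟩
  have hzk : r * z ^ k.val * r⁻¹ = z ^ k.val :=
    E.conj_mem_zpowers hr (Subgroup.npow_mem_zpowers z _)
  have e1 : r * (y * (r * y * r⁻¹)) * r⁻¹ = z ^ k.val * (y * (r * y * r⁻¹)) := by
    rw [hk, ← E.κ_spec hy' hy]
    calc r * (y * (r * y * r⁻¹)) * r⁻¹ = r * y * r⁻¹ * (r * r * y * (r * r)⁻¹) := by group
      _ = _ := by rw [h2]; group
  have e2 : y * (r * y * r⁻¹) = z ^ k.val * z ^ k.val * (y * (r * y * r⁻¹)) := by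
    conv_lhs => rw [show y * (r * y * r⁻¹) = r * r * (y * (r * y * r⁻¹)) * (r * r)⁻¹ by rw [h2]; group]
    calc r * r * (y * (r * y * r⁻¹)) * (r * r)⁻¹ = r * (r * (y * (r * y * r⁻¹)) * r⁻¹) * r⁻¹ := by group
      _ = r * z ^ k.val * r⁻¹ * (r * (y * (r * y * r⁻¹)) * r⁻¹) := by (conv_lhs => rw [e1]); group
      _ = _ := by rw [hzk, e1]; simp only [mul_assoc]
  have hk0 : k = 0 := by
    rw [← E.zpow_add] at e2
    have h1 : k + k = 0 := E.zpow_val_inj (by simpa using (mul_eq_right.mp e2.symm))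
    revert h1
    clear hk hzk e1 e2
    revert k
    decide
  rw [hk0] at e1
  exact mul_inv_eq_iff_eq_mul.mp (by simpa using e1)

theorem trivial_of {r : G} (hr : Commute r z) (h2 : r * r = 1)
    (h : ∀ x ∈ E.Q, x⁻¹ * (r * x * r⁻¹) ∈ Subgroup.zpowers z) : r ∈ E.Q := by
  refine E.self r hr fun x hx => ?_
  obtain ⟨a, ha⟩ := E.exists_val (h x hx)
  have e : r * x * r⁻¹ = x * z ^ a.val := by rw [← ha]; group
  have e2 : x = x * (z ^ a.val * z ^ a.val) := by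
    conv_lhs => rw [show x = r * r * x * (r * r)⁻¹ by rw [h2]; group]
    calc r * r * x * (r * r)⁻¹ = r * (r * x * r⁻¹) * r⁻¹ := by group
      _ = r * x * r⁻¹ * (r * z ^ a.val * r⁻¹) := by (conv_lhs => rw [e]); group
      _ = _ := by rw [E.conj_mem_zpowers hr (Subgroup.npow_mem_zpowers z _), e, mul_assoc]
  have ha0 : a = 0 := by
    rw [← E.zpow_add] at e2
    have h1 : a + a = 0 := E.zpow_val_inj (by simpa using mul_eq_left.mp e2.symm)
    revert h1
    clear ha e e2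
    revert a
    decide
  rw [ha0] at e
  exact mul_inv_eq_iff_eq_mul.mp (by simpa using e)

/-- inverting modulo the centre -/
def IsNeg (E : Ext z) (r : G) : Prop := ∀ x ∈ E.Q, x * (r * x * r⁻¹) ∈ Subgroup.zpowers z

theorem exists_basis {r : G} (hr : Commute r z) (h2 : r * r = 1) (hrQ : r ∉ E.Q) (hneg : ¬ E.IsNeg r) :
    ∃ b : E.Basis, (r * b.e 0 * r⁻¹ = (b.e 0)⁻¹ ∧ r * b.e 1 * r⁻¹ = (b.e 1)⁻¹) ∧
      r * b.e 2 * r⁻¹ = b.e 2 ∧ r * b.e 3 * r⁻¹ = b.e 3 := by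
  have hi : r⁻¹ = r := inv_eq_of_mul_eq_one_right h2
  have hQ : ∀ y ∈ E.Q, r * y * r⁻¹ ∈ E.Q := E.normQ r hr
  have hκr : ∀ x ∈ E.Q, ∀ y ∈ E.Q, E.κ (r * x * r⁻¹) (r * y * r⁻¹) = E.κ x y := fun x hx y hy => E.κ_conj hr hx hy
  have hrr : ∀ y : G, r * (r * y * r⁻¹) * r⁻¹ = y := fun y => by
    calc r * (r * y * r⁻¹) * r⁻¹ = r * r * y * (r * r)⁻¹ := by group
      _ = y := by rw [h2]; group
  have scale : ∀ k : ZMod 3, k ≠ 0 → k⁻¹ * k = 1 := by decide +kernel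
  -- a fixed pair
  obtain ⟨y, hy, hyz⟩ : ∃ y ∈ E.Q, y * (r * y * r⁻¹) ∉ Subgroup.zpowers z := by
    by_contra hh; push Not at hh; exact hneg hh
  obtain ⟨w, hw⟩ : ∃ w, w = y * (r * y * r⁻¹) := ⟨_, rfl⟩
  have hwQ : w ∈ E.Q := hw ▸ E.Q.mul_mem hy (hQ y hy)
  have hwr : r * w * r⁻¹ = w := mul_inv_eq_iff_eq_mul.mpr (hw ▸ E.fixed_exact hr h2 hy).eq
  obtain ⟨u, hu, huw⟩ : ∃ u ∈ E.Q, E.κ w u ≠ 0 := by
    by_contra hh; push Not at hh
    exact hyz (hw ▸ E.center w hwQ fun u hu => (E.κ_zero_iff hwQ hu).mp (hh u hu))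
  obtain ⟨w', hw'⟩ : ∃ w', w' = u * (r * u * r⁻¹) := ⟨_, rfl⟩
  have hwQ' : w' ∈ E.Q := hw' ▸ E.Q.mul_mem hu (hQ u hu)
  have hwr' : r * w' * r⁻¹ = w' := mul_inv_eq_iff_eq_mul.mpr (hw' ▸ E.fixed_exact hr h2 hu).eq
  have hk2 : E.κ w w' ≠ 0 := by
    rw [hw', E.κ_mul_right hwQ hu (hQ u hu)]
    have e : E.κ w (r * u * r⁻¹) = E.κ w u := by conv_lhs => rw [← hwr]; rw [hκr w hwQ u hu]
    rw [e]
    generalize E.κ w u = k at huw
    revert k; decide
  -- an inverted pair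
  obtain ⟨x, hx, hxr⟩ : ∃ x ∈ E.Q, ¬ Commute r x := by
    by_contra hh; push Not at hh; exact hrQ (E.self r hr hh)
  obtain ⟨d, hd⟩ : ∃ d, d = x⁻¹ * (r * x * r⁻¹) := ⟨_, rfl⟩
  have hdQ : d ∈ E.Q := hd ▸ E.Q.mul_mem (E.Q.inv_mem hx) (hQ x hx)
  have hinv : ∀ v : G, r * (v⁻¹ * (r * v * r⁻¹)) * r⁻¹ = (v⁻¹ * (r * v * r⁻¹))⁻¹ := fun v => by
    rw [show r * (v⁻¹ * (r * v * r⁻¹)) * r⁻¹ = r * v⁻¹ * r⁻¹ * (r * (r * v * r⁻¹) * r⁻¹) by group, hrr]
    group
  have hdr : r * d * r⁻¹ = d⁻¹ := hd ▸ hinv x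
  have hdz : d ∉ Subgroup.zpowers z := fun h => by
    obtain ⟨a, ha⟩ := E.exists_val h
    rw [E.conj_mem_zpowers hr h, ha] at hdr
    have h1 : z ^ (a + a).val = z ^ (0 : ZMod 3).val := by
      rw [E.zpow_add, ZMod.val_zero, pow_zero]
      exact eq_inv_iff_mul_eq_one.mp hdr
    have h0 : a = 0 := by
      have := E.zpow_val_inj h1
      revert this; clear ha hdr h1; revert a; decide
    rw [ha] at hd
    rw [h0, ZMod.val_zero, pow_zero] at hd
    exact hxr (mul_inv_eq_iff_eq_mul.mp (inv_mul_eq_one.mp hd.symm).symm)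
  obtain ⟨v, hv, hvd⟩ : ∃ v ∈ E.Q, E.κ d v ≠ 0 := by
    by_contra hh; push Not at hh
    exact hdz (E.center d hdQ fun v hv => (E.κ_zero_iff hdQ hv).mp (hh v hv))
  obtain ⟨d', hd'⟩ : ∃ d', d' = v⁻¹ * (r * v * r⁻¹) := ⟨_, rfl⟩
  have hdQ' : d' ∈ E.Q := hd' ▸ E.Q.mul_mem (E.Q.inv_mem hv) (hQ v hv)
  have hdr' : r * d' * r⁻¹ = d'⁻¹ := hd' ▸ hinv v
  have hk1 : E.κ d d' ≠ 0 := by
    have e1 : E.κ d v⁻¹ = -E.κ d v := by
      rw [E.κ_swap (E.Q.inv_mem hv) hdQ, E.κ_inv_left hv hdQ, neg_neg, ← neg_inj, neg_neg, ← E.κ_swap hv hdQ]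
    have e2 : E.κ d (r * v * r⁻¹) = -E.κ d v := by
      have h := hκr d⁻¹ (E.Q.inv_mem hdQ) v hv
      rw [show r * d⁻¹ * r⁻¹ = (r * d * r⁻¹)⁻¹ by group, hdr, inv_inv] at h
      rw [h, E.κ_inv_left hdQ hv]
    rw [hd', E.κ_mul_right hdQ (E.Q.inv_mem hv) (hQ v hv), e1, e2]
    generalize E.κ d v = k at hvd
    revert k; decide
  -- the two pairs are orthogonal
  have cross : ∀ a ∈ E.Q, ∀ c ∈ E.Q, r * a * r⁻¹ = a⁻¹ → r * c * r⁻¹ = c → E.κ a c = 0 := by
    intro a ha c hc h1 h3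
    have h := hκr a ha c hc
    rw [h1, h3, E.κ_inv_left ha hc] at h
    generalize E.κ a c = k at h
    revert k; decide
  obtain ⟨D, hDQ, hDr, hDk⟩ : ∃ D ∈ E.Q, r * D * r⁻¹ = D⁻¹ ∧ E.κ D d' = 1 := by
    refine ⟨d ^ ((E.κ d d')⁻¹).val, E.Q.pow_mem hdQ _, ?_, ?_⟩
    · rw [← conj_pow, hdr, inv_pow]
    · rw [E.κ_pow hdQ hdQ', ZMod.natCast_zmod_val]; exact scale _ hk1
  obtain ⟨W, hWQ, hWr, hWk⟩ : ∃ W ∈ E.Q, r * W * r⁻¹ = W ∧ E.κ W w' = 1 := by
    refine ⟨w ^ ((E.κ w w')⁻¹).val, E.Q.pow_mem hwQ _, ?_, ?_⟩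
    · rw [← conj_pow, hwr]
    · rw [E.κ_pow hwQ hwQ', ZMod.natCast_zmod_val]; exact scale _ hk2
  have c1 := cross D hDQ W hWQ hDr hWr
  have c2 := cross D hDQ w' hwQ' hDr hwr'
  have c3 := cross d' hdQ' W hWQ hdr' hWr
  have c4 := cross d' hdQ' w' hwQ' hdr' hwr'
  refine ⟨⟨![D, d', W, w'], fun i => by fin_cases i <;> assumption, fun i j => ?_⟩,
    ⟨hDr, hdr'⟩, hWr, hwr'⟩
  have s1 := E.κ_swap hDQ hdQ'
  have s2 := E.κ_swap hWQ hwQ'
  have s3 := E.κ_swap hDQ hWQ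
  have s4 := E.κ_swap hDQ hwQ'
  have s5 := E.κ_swap hdQ' hWQ
  have s6 := E.κ_swap hdQ' hwQ'
  fin_cases i <;> fin_cases j <;>
    simp [B, bv, hDk, hWk, s1, s2, s3, s4, s5, s6, c1, c2, c3, c4, E.κ_self hDQ, E.κ_self hdQ', E.κ_self hWQ,
      E.κ_self hwQ']

end Ext

namespace Quats

variable {G : Type u} [Group G] [Finite G] {z : G} {E : Ext z} (K : Quats E)
include K

theorem Q_three {x : G} (hx : x ∈ E.Q) : x ^ 243 = 1 := by
  rw [← E.card]
  exact congrArg Subtype.val (pow_card_eq_one' (x := (⟨x, hx⟩ : ↥E.Q)))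

theorem invol_lift {u : QuaternionGroup 2 × QuaternionGroup 2} (hu : u * u = 1) :
    ∃ c : ↥K.N, (c : G) * c = 1 ∧ K.θ c = u := by
  obtain ⟨g, rfl⟩ := K.surj u
  refine ⟨g ^ 243, ?_, ?_⟩
  · rw [Subgroup.coe_pow, ← pow_add, ← two_mul, pow_mul, pow_two]
    exact K.Q_three ((K.ker _).mp (by rw [map_mul, hu]))
  · have h2 : K.θ g ^ 2 = 1 := by rw [pow_two, hu]
    rw [map_pow, show (243 : ℕ) = 2 * 121 + 1 from rfl, pow_succ, pow_mul, h2, one_pow, one_mul]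

theorem exists_split : ∃ r : ↥K.N, (r : G) * r = 1 ∧ (r : G) ∉ E.Q ∧ ¬ E.IsNeg (r : G) ∧
    ∀ n : ↥K.N, K.θ (r * n) = K.θ (n * r) := by
  have hcen : ∀ (a b : Bool) (u : QuaternionGroup 2 × QuaternionGroup 2),
      (((if a then QuaternionGroup.a 2 else 1), (if b then QuaternionGroup.a 2 else 1)) :
        QuaternionGroup 2 × QuaternionGroup 2) * u =
      u * ((if a then QuaternionGroup.a 2 else 1), (if b then QuaternionGroup.a 2 else 1)) := by decide
  obtain ⟨c1, h1, e1⟩ := K.invol_lift (u := (QuaternionGroup.a 2, 1)) (by decide)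
  obtain ⟨c2, h2, e2⟩ := K.invol_lift (u := (1, QuaternionGroup.a 2)) (by decide)
  obtain ⟨c3, h3, e3⟩ := K.invol_lift (u := (QuaternionGroup.a 2, QuaternionGroup.a 2)) (by decide)
  have nQ : ∀ c : ↥K.N, K.θ c ≠ 1 → (c : G) ∉ E.Q := fun c hc h => hc ((K.ker c).mpr h)
  have cm : ∀ (c : ↥K.N) (a b : Bool), K.θ c =
      ((if a then QuaternionGroup.a 2 else 1), (if b then QuaternionGroup.a 2 else 1)) →
      ∀ n : ↥K.N, K.θ (c * n) = K.θ (n * c) := fun c a b hc n => by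
    rw [map_mul, map_mul, hc]; exact hcen a b _
  by_cases n1 : E.IsNeg (c1 : G)
  swap
  · exact ⟨c1, h1, nQ c1 (by rw [e1]; decide), n1, cm c1 true false (by rw [e1]; rfl)⟩
  by_cases n2 : E.IsNeg (c2 : G)
  swap
  · exact ⟨c2, h2, nQ c2 (by rw [e2]; decide), n2, cm c2 false true (by rw [e2]; rfl)⟩
  exfalso
  refine nQ c3 (by rw [e3]; decide) (E.trivial_of (K.le _ c3.2) h3 fun x hx => ?_)
  obtain ⟨q, hq, hc3⟩ : ∃ q ∈ E.Q, (c3 : G) = q * ((c1 : G) * c2) := by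
    refine ⟨((c3 * (c1 * c2)⁻¹ : ↥K.N) : G), (K.ker _).mp ?_, by push_cast; group⟩
    rw [map_mul, map_inv, map_mul, e1, e2, e3]
    decide
  obtain ⟨a2, ha2⟩ := E.exists_val (n2 x hx)
  obtain ⟨a1, ha1⟩ := E.exists_val (n1 x⁻¹ (E.Q.inv_mem hx))
  have hd : Commute ((c1 : G)) z := K.le _ c1.2
  have e2' : (c2 : G) * x * (c2 : G)⁻¹ = x⁻¹ * z ^ a2.val := by rw [← ha2]; group
  have e1' : (c1 : G) * x⁻¹ * (c1 : G)⁻¹ = x * z ^ a1.val := by rw [← ha1]; group
  have e12 : (c1 : G) * c2 * x * ((c1 : G) * c2)⁻¹ = x * z ^ (a1 + a2).val := by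
    rw [show (c1 : G) * c2 * x * ((c1 : G) * c2)⁻¹ = (c1 : G) * ((c2 : G) * x * (c2 : G)⁻¹) * (c1 : G)⁻¹ by group,
      e2', show (c1 : G) * (x⁻¹ * z ^ a2.val) * (c1 : G)⁻¹ =
        ((c1 : G) * x⁻¹ * (c1 : G)⁻¹) * ((c1 : G) * z ^ a2.val * (c1 : G)⁻¹) by group,
      e1', E.conj_mem_zpowers hd (Subgroup.npow_mem_zpowers z _), mul_assoc, ← E.zpow_add]
  have hq' : q * x * q⁻¹ = z ^ (E.κ q x).val * x := by rw [E.κ_spec hq hx]; group
  rw [hc3, show q * ((c1 : G) * c2) * x * (q * ((c1 : G) * c2))⁻¹ =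
      q * ((c1 : G) * c2 * x * ((c1 : G) * c2)⁻¹) * q⁻¹ by group, e12,
    show q * (x * z ^ (a1 + a2).val) * q⁻¹ = q * x * q⁻¹ * (q * z ^ (a1 + a2).val * q⁻¹) by group,
    E.conj_mem_zpowers (E.QC q hq) (Subgroup.npow_mem_zpowers z _), hq', (E.zcen hx (E.κ q x)).symm.eq]
  rw [mul_assoc, inv_mul_cancel_left]
  exact Subgroup.mul_mem _ (Subgroup.npow_mem_zpowers z _) (Subgroup.npow_mem_zpowers z _)

theorem exists_frame : ∃ F : Frame z, F.Q = E.Q := by
  classical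
  obtain ⟨rN, h2, hrQ, hneg, hcomm⟩ := K.exists_split
  obtain ⟨r, hrdef⟩ : ∃ r, r = (rN : G) := ⟨_, rfl⟩
  rw [← hrdef] at h2 hrQ hneg
  have hr : Commute r z := hrdef ▸ K.le _ rN.2
  obtain ⟨b, ⟨hb0, hb1⟩, hb2, hb3⟩ := E.exists_basis hr h2 hrQ hneg
  have hbinv : ∀ i, b.ν (b.e i)⁻¹ = -bv i := fun i => eq_neg_of_add_eq_zero_left (by
    rw [← b.ν_e i, ← b.ν_mul (E.Q.inv_mem (b.mem i)) (b.mem i), inv_mul_cancel]
    exact (b.ν_zero E.Q.one_mem).mpr (Subgroup.one_mem _))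
  have hR : ∀ x ∈ E.Q, b.ν (r * x * r⁻¹) = act (false, S.neg, S.one) (b.ν x) := by
    intro x hx
    rw [b.ν_lin hr hx, hb0, hb1, hb2, hb3, hbinv, hbinv, b.ν_e, b.ν_e]
    funext j
    have h21 : ∀ k : ZMod 3, -k = 2 * k := by decide
    fin_cases j <;> simp [bv, act, S.neg, S.one, h21]
  have hνq : ∀ q ∈ E.Q, ∀ x ∈ E.Q, b.ν (q * x * q⁻¹) = b.ν x := by
    intro q hq x hx
    rw [show q * x * q⁻¹ = z ^ (E.κ q x).val * x by rw [E.κ_spec hq hx]; group,
      b.ν_mul (E.Q.pow_mem E.zQ _) hx, (b.ν_zero (E.Q.pow_mem E.zQ _)).mpr (Subgroup.npow_mem_zpowers z _),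
      zero_add]
  have hlin : ∀ c, Commute c z → ∀ t : Top, (∀ i, act t (bv i) = b.ν (c * b.e i * c⁻¹)) →
      ∀ x ∈ E.Q, b.ν (c * x * c⁻¹) = act t (b.ν x) := by
    intro c hc t ht x hx
    rw [b.ν_lin hc hx, ← ht, ← ht, ← ht, ← ht, ← act_smul, ← act_smul, ← act_smul, ← act_smul,
      ← act_add, ← act_add, ← act_add, ← vec_sum]
  have hB : ∀ c, Commute c z → ∀ i j, B (b.ν (c * b.e i * c⁻¹)) (b.ν (c * b.e j * c⁻¹)) = B (bv i) (bv j) := by
    intro c hc i j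
    rw [← b.κ_eq_B (E.normQ c hc _ (b.mem i)) (E.normQ c hc _ (b.mem j)), E.κ_conj hc (b.mem i) (b.mem j), b.rel]
  -- shape from the image of the involution
  have shape : ∀ c, Commute c z → ∀ t : Top, ((t = (false, S.neg, S.one)) ∨ t = (false, S.one, S.neg)) →
      (∀ x ∈ E.Q, b.ν (c * r * c⁻¹ * x * (c * r * c⁻¹)⁻¹) = act t (b.ν x)) →
      ∃ u : Top, (t = (false, S.neg, S.one) → u.1 = false) ∧ ∀ x ∈ E.Q, b.ν (c * x * c⁻¹) = act u (b.ν x) := by
    intro c hc t ht hact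
    obtain ⟨col, hcol⟩ : ∃ col : Fin 4 → V, col = fun i => b.ν (c * b.e i * c⁻¹) := ⟨_, rfl⟩
    have hneg' : ∀ i, b.ν (c * (b.e i)⁻¹ * c⁻¹) = -col i := fun i => by
      rw [hcol, show c * (b.e i)⁻¹ * c⁻¹ = (c * b.e i * c⁻¹)⁻¹ by group]
      refine eq_neg_of_add_eq_zero_left ?_
      rw [← b.ν_mul (E.Q.inv_mem (E.normQ c hc _ (b.mem i))) (E.normQ c hc _ (b.mem i)), inv_mul_cancel]
      exact (b.ν_zero E.Q.one_mem).mpr (Subgroup.one_mem _)
    have key : ∀ i, act t (col i) = b.ν (c * (r * b.e i * r⁻¹) * c⁻¹) := fun i => by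
      rw [hcol, ← hact _ (E.normQ c hc _ (b.mem i))]
      congr 1
      group
    have k0 : act t (col 0) = -col 0 := by rw [key, hb0, hneg']
    have k1 : act t (col 1) = -col 1 := by rw [key, hb1, hneg']
    have k2 : act t (col 2) = col 2 := by rw [key, hb2, hcol]
    have k3 : act t (col 3) = col 3 := by rw [key, hb3, hcol]
    have hz0 : ∀ k : ZMod 3, (2 * k = k → k = 0) ∧ (k = -k → k = 0) := by decide
    rcases ht with rfl | rfl
    · simp [act, S.neg, S.one, funext_iff, Fin.forall_fin_succ] at k0 k1 k2 k3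
      obtain ⟨u, hu⟩ := exists_top col (hcol ▸ hB c hc) (Or.inl ⟨(hz0 _).2 k0.2.2.1, (hz0 _).2 k0.2.2.2,
        (hz0 _).2 k1.2.2.1, (hz0 _).2 k1.2.2.2, (hz0 _).1 k2.1, (hz0 _).1 k2.2, (hz0 _).1 k3.1, (hz0 _).1 k3.2⟩)
      refine ⟨u, fun _ => ?_, hlin c hc u fun i => (hu i).trans (congrFun hcol i)⟩
      obtain ⟨bo, ⟨⟨a1, a2, a3, a4⟩, ha⟩, s2⟩ := u
      cases bo
      · rfl
      exfalso
      have := hu 2
      have h20 := congrFun this 0
      have h21 := congrFun this 1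
      rw [(hz0 _).1 k2.1] at h20
      rw [(hz0 _).1 k2.2] at h21
      simp [act, bv] at h20 h21
      simp only at ha
      rw [h20, h21] at ha
      simp at ha
    · simp [act, S.neg, S.one, funext_iff, Fin.forall_fin_succ] at k0 k1 k2 k3
      obtain ⟨u, hu⟩ := exists_top col (hcol ▸ hB c hc) (Or.inr ⟨(hz0 _).2 k0.1, (hz0 _).2 k0.2.1,
        (hz0 _).2 k1.1, (hz0 _).2 k1.2.1, (hz0 _).1 k2.1, (hz0 _).1 k2.2, (hz0 _).1 k3.1, (hz0 _).1 k3.2⟩)
      exact ⟨u, fun h => absurd h (by decide), hlin c hc u fun i => (hu i).trans (congrFun hcol i)⟩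
  -- elements of the normal subgroup keep the blocks
  have hN : ∀ n : ↥K.N, ∃ u : Top, u.1 = false ∧ ∀ x ∈ E.Q, b.ν ((n : G) * x * (n : G)⁻¹) = act u (b.ν x) := by
    intro n
    have hn : Commute (n : G) z := K.le _ n.2
    obtain ⟨q, hq, hnr⟩ : ∃ q ∈ E.Q, (n : G) * r * (n : G)⁻¹ = q * r := by
      refine ⟨((n * rN * n⁻¹ * rN⁻¹ : ↥K.N) : G), (K.ker _).mp ?_, by simp [hrdef]⟩
      rw [map_mul, map_mul, map_mul, map_inv, map_inv, ← map_mul K.θ n rN, ← hcomm n, map_mul]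
      group
    obtain ⟨u, hu1, hu⟩ := shape n hn _ (Or.inl rfl) fun x hx => by
      rw [hnr, show q * r * x * (q * r)⁻¹ = q * (r * x * r⁻¹) * q⁻¹ by group, hνq q hq _ (E.normQ r hr x hx),
        hR x hx]
    exact ⟨u, hu1 rfl, hu⟩
  -- every element permutes the blocks
  have hall : ∀ c, Commute c z → ∃ u : Top, ∀ x ∈ E.Q, b.ν (c * x * c⁻¹) = act u (b.ν x) := by
    intro c hc
    have hmem : c * r * c⁻¹ ∈ K.N := K.normal c hc _ (hrdef ▸ rN.2)
    obtain ⟨t, ht1, ht⟩ := hN ⟨_, hmem⟩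
    simp only at ht
    have hm2 : c * r * c⁻¹ * (c * r * c⁻¹) = 1 := by
      rw [show c * r * c⁻¹ * (c * r * c⁻¹) = c * (r * r) * c⁻¹ by group, h2]; group
    have hmz : Commute (c * r * c⁻¹) z := K.le _ hmem
    have htt : ∀ i, act (Top.mul t t) (bv i) = bv i := by
      intro i
      rw [act_mul, ← b.ν_e i, ← ht _ (b.mem i), ← ht _ (E.normQ _ hmz _ (b.mem i))]
      congr 1
      rw [show c * r * c⁻¹ * (c * r * c⁻¹ * b.e i * (c * r * c⁻¹)⁻¹) * (c * r * c⁻¹)⁻¹ =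
        c * r * c⁻¹ * (c * r * c⁻¹) * b.e i * (c * r * c⁻¹ * (c * r * c⁻¹))⁻¹ by group, hm2]
      group
    have htone : Top.mul t t = Top.one := act_inj _ _ fun i => by rw [htt, act_one]
    obtain ⟨t0, ta, tb⟩ := t
    simp only at ht1
    subst ht1
    simp only [Top.mul, Top.one, Prod.mk.injEq] at htone
    have hcase : ((false, ta, tb) : Top) = (false, S.neg, S.one) ∨ ((false, ta, tb) : Top) = (false, S.one, S.neg) := by
      rcases S_invol ta htone.2.1 with rfl | rfl <;> rcases S_invol tb htone.2.2 with rfl | rfl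
      · exfalso
        have hq : c * r * c⁻¹ ∈ E.Q := by
          refine E.trivial_of hmz hm2 fun x hx => (b.ν_zero (E.Q.mul_mem (E.Q.inv_mem hx) (E.normQ _ hmz x hx))).mp ?_
          rw [b.ν_mul (E.Q.inv_mem hx) (E.normQ _ hmz x hx), ht x hx]
          rw [show ((false, S.one, S.one) : Top) = Top.one from rfl, act_one, ← b.ν_mul (E.Q.inv_mem hx) hx,
            inv_mul_cancel]
          exact (b.ν_zero E.Q.one_mem).mpr (Subgroup.one_mem _)
        exact hrQ (by simpa [mul_assoc] using E.normQ c⁻¹ hc.inv_left _ hq)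
      · exact Or.inr rfl
      · exact Or.inl rfl
      · exfalso
        refine hneg fun x hx => ?_
        have hy := E.normQ c hc x hx
        have hm : (c * x * c⁻¹) * (c * r * c⁻¹ * (c * x * c⁻¹) * (c * r * c⁻¹)⁻¹) ∈ Subgroup.zpowers z := by
          refine (b.ν_zero (E.Q.mul_mem hy (E.normQ _ hmz _ hy))).mp ?_
          rw [b.ν_mul hy (E.normQ _ hmz _ hy), ht _ hy]
          have : ∀ v : V, v + act (false, S.neg, S.neg) v = 0 := by decide +kernel
          exact this _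
        have e := E.conj_mem_zpowers hc.inv_left hm
        rw [← e] at hm
        convert hm using 1
        group
    obtain ⟨u, -, hu⟩ := shape c hc _ hcase ht
    exact ⟨u, hu⟩
  choose top htop using hall
  obtain ⟨T, hT⟩ : ∃ T : G → Top, ∀ c (hc : Commute c z), T c = top c hc :=
    ⟨fun c => if hc : Commute c z then top c hc else Top.one, fun c hc => by simp [hc]⟩

  have hact : ∀ c (hc : Commute c z), ∀ x ∈ E.Q, b.ν (c * x * c⁻¹) = act (T c) (b.ν x) := fun c hc => by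
    rw [hT c hc]; exact htop c hc
  have hTN : ∀ n : ↥K.N, (T n).1 = false := fun n => by
    obtain ⟨u, hu1, hu⟩ := hN n
    rw [show T n = u from act_inj _ _ fun i => by
      rw [← b.ν_e i, ← hact _ (K.le _ n.2) _ (b.mem i), hu _ (b.mem i)], hu1]
  have hTmul : ∀ c d, Commute c z → Commute d z → T (c * d) = Top.mul (T c) (T d) := fun c d hc hd =>
    act_inj _ _ fun i => by
      rw [act_mul, ← b.ν_e i, ← hact d hd _ (b.mem i), ← hact c hc _ (E.normQ d hd _ (b.mem i)),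
        ← hact _ (hc.mul_left hd) _ (b.mem i)]
      congr 1
      group
  have hTQ : ∀ q ∈ E.Q, T q = Top.one := fun q hq => act_inj _ _ fun i => by
    rw [act_one, ← b.ν_e i, ← hact q (E.QC q hq) _ (b.mem i), hνq q hq _ (b.mem i)]
  refine ⟨{ Q := E.Q, ν := b.ν, top := T, hz := E.hz, zQ := E.zQ, QC := E.QC, normQ := E.normQ, self := E.self,
            ν_mul := fun x hx y hy => b.ν_mul hx hy
            ν_zero := fun x hx => b.ν_zero hx
            ν_surj := fun v => ⟨b.word v, b.word_mem v, b.ν_word v⟩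
            ν_comm := fun x hx y hy => by rw [← b.κ_eq_B hx hy]; exact E.κ_spec hx hy
            ν_act := fun c hc => hact c hc
            top_surj := ?_ }, rfl⟩
  -- the image of the normal subgroup is everything
  have hT_ker : ∀ n : G, Commute n z → T n = Top.one → n ∈ E.Q := by
    intro n hn h
    have htriv : ∀ x ∈ E.Q, b.ν (n * x * n⁻¹) = b.ν x := fun x hx => by rw [hact n hn x hx, h, act_one]
    have hk : ∀ x ∈ E.Q, ∃ a : ZMod 3, n * x * n⁻¹ = x * z ^ a.val := fun x hx => by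
      obtain ⟨a, ha⟩ := E.exists_val ((b.ν_zero (E.Q.mul_mem (E.Q.inv_mem hx) (E.normQ n hn x hx))).mp (by
        rw [b.ν_mul (E.Q.inv_mem hx) (E.normQ n hn x hx), htriv x hx, ← b.ν_mul (E.Q.inv_mem hx) hx, inv_mul_cancel]
        exact (b.ν_zero E.Q.one_mem).mpr (Subgroup.one_mem _)))
      exact ⟨a, by rw [← ha]; group⟩
    choose a ha using fun i => hk (b.e i) (b.mem i)
    obtain ⟨q, hqdef⟩ : ∃ q, q = b.word ![a 1, -(a 0), a 3, -(a 2)] := ⟨_, rfl⟩
    have hqQ : q ∈ E.Q := hqdef ▸ b.word_mem _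
    have hqc : ∀ i, q * b.e i * q⁻¹ = b.e i * z ^ (a i).val := fun i => by
      have : E.κ q (b.e i) = a i := by
        rw [hqdef, b.κ_word _ (b.mem i), b.rel, b.rel, b.rel, b.rel]
        fin_cases i <;> simp [B, bv]
      rw [(E.zcen (b.mem i) _).eq, ← this, E.κ_spec hqQ (b.mem i)]
      group
    have hm : Commute (q⁻¹ * n) z := (E.QC q hqQ).inv_left.mul_left hn
    have he : ∀ i, Commute (q⁻¹ * n) (b.e i) := fun i => by
      have h1 : n * b.e i * n⁻¹ = q * b.e i * q⁻¹ := by rw [ha i, hqc i]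
      rw [commute_iff_eq]
      calc q⁻¹ * n * b.e i = q⁻¹ * (n * b.e i * n⁻¹) * n := by group
        _ = _ := by rw [h1]; group
    have := E.Q.mul_mem hqQ (E.self _ hm fun x hx => by
      obtain ⟨c, hc⟩ := b.exists_word hx
      rw [hc]
      exact ((((he 0).pow_right _).mul_right ((he 1).pow_right _)).mul_right
        (((he 2).pow_right _).mul_right ((he 3).pow_right _))).mul_right (hm.pow_right _))
    rwa [mul_inv_cancel_left] at this
  intro a b' ha hb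
  choose lift hlift using K.surj
  have h4 : ∀ u : QuaternionGroup 2 × QuaternionGroup 2, u * u * (u * u) = 1 := by decide
  have himg : ∀ u, T (lift u) ∈ ({false} : Finset Bool) ×ˢ
      ((Finset.univ.filter fun a : S => a.Quat) ×ˢ (Finset.univ.filter fun a : S => a.Quat)) := by
    intro u
    have h0 := hTN (lift u)
    have hz' : Commute ((lift u : ↥K.N) : G) z := K.le _ (lift u).2
    have hq : ((lift u : G) * (lift u : G) * ((lift u : G) * (lift u : G))) ∈ E.Q :=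
      (K.ker (lift u * lift u * (lift u * lift u))).mp (by rw [map_mul, map_mul, hlift, h4])
    have e := hTQ _ hq
    rw [hTmul _ _ (hz'.mul_left hz') (hz'.mul_left hz'), hTmul _ _ hz' hz'] at e
    rcases hh : T (lift u) with ⟨t0, ta, tb⟩
    rw [hh] at e h0
    simp only at h0
    subst h0
    simp only [Top.mul, Top.one, Prod.mk.injEq] at e
    simp only [Finset.mem_product, Finset.mem_singleton, Finset.mem_filter, Finset.mem_univ, true_and]
    exact ⟨e.2.1, e.2.2⟩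
  have hinj : Function.Injective fun u => T (lift u) := by
    intro u v huv
    simp only at huv
    have hzu : Commute ((lift u : ↥K.N) : G) z := K.le _ (lift u).2
    have hzv : Commute ((lift v : ↥K.N) : G) z := K.le _ (lift v).2
    have h1 : T ((lift v : G)⁻¹ * (lift u : G)) = Top.one := by
      rw [hTmul _ _ hzv.inv_left hzu, huv, ← hTmul _ _ hzv.inv_left hzv, inv_mul_cancel]
      exact hTQ 1 E.Q.one_mem
    have h3 := (K.ker ((lift v)⁻¹ * lift u)).mpr (hT_ker _ (hzv.inv_left.mul_left hzu) h1)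
    rw [map_mul, map_inv, hlift, hlift, inv_mul_eq_one] at h3
    exact h3.symm
  have himage : Finset.univ.image (fun u => T (lift u)) = ({false} : Finset Bool) ×ˢ
      ((Finset.univ.filter fun a : S => a.Quat) ×ˢ (Finset.univ.filter fun a : S => a.Quat)) := by
    refine Finset.eq_of_subset_of_card_le (fun t ht => ?_) ?_
    · obtain ⟨u, -, rfl⟩ := Finset.mem_image.mp ht
      exact himg u
    · rw [Finset.card_image_of_injective _ hinj, Finset.card_product, Finset.card_product, quat_card,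
        Finset.card_univ, Fintype.card_prod, QuaternionGroup.card]
      simp
  have : ((false, a, b') : Top) ∈ Finset.univ.image (fun u => T (lift u)) := by
    rw [himage]; simp [ha, hb]
  obtain ⟨u, -, hu⟩ := Finset.mem_image.mp this
  exact ⟨_, K.le _ (lift u).2, hu⟩

end Quats

end Cfsg.Agent.Spor.USixThree
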