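import Cfsg.Agent.Lib.Spor.USixThree.Model

/-!
The centraliser of a `3`-element of `U₆(2)` type in coordinates: the extraspecial subgroup and the
action of the top on it.
-/

set_option autoImplicit false
set_option linter.unusedSectionVars false

namespace Cfsg.Agent.Spor.USixThree

universe u

/-- the centraliser with coordinates -/
structure Frame {G : Type u} [Group G] (z : G) where
  Q : Subgroup G
  ν : G → V
  top : G → Top
  hz : orderOf z = 3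
  zQ : z ∈ Q
  QC : ∀ x ∈ Q, Commute x z
  normQ : ∀ c, Commute c z → ∀ x ∈ Q, c * x * c⁻¹ ∈ Q
  self : ∀ c, Commute c z → (∀ x ∈ Q, Commute c x) → c ∈ Q
  ν_mul : ∀ x ∈ Q, ∀ y ∈ Q, ν (x * y) = ν x + ν y
  ν_zero : ∀ x ∈ Q, (ν x = 0 ↔ x ∈ Subgroup.zpowers z)
  ν_surj : ∀ v, ∃ x ∈ Q, ν x = v
  ν_comm : ∀ x ∈ Q, ∀ y ∈ Q, x * y = z ^ (B (ν x) (ν y)).val * (y * x)
  ν_act : ∀ c, Commute c z → ∀ x ∈ Q, ν (c * x * c⁻¹) = act (top c) (ν x)
  top_surj : ∀ a b : S, a.Quat → b.Quat → ∃ c, Commute c z ∧ top c = (false, a, b)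

namespace Frame

variable {G : Type u} [Group G] {z : G} (F : Frame z)
include F

theorem z_cube : z ^ 3 = 1 := F.hz ▸ pow_orderOf_eq_one z

theorem z_ne : z ≠ 1 := fun h => by
  have := F.hz
  rw [h, orderOf_one] at this
  norm_num at this

theorem zpow_val_eq {a b : ZMod 3} : z ^ a.val = z ^ b.val ↔ a = b := by
  refine ⟨fun h => ?_, fun h => h ▸ rfl⟩
  rw [pow_inj_mod, F.hz, Nat.mod_eq_of_lt (ZMod.val_lt a), Nat.mod_eq_of_lt (ZMod.val_lt b)] at h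
  exact ZMod.val_injective 3 h

theorem zpow_val_one {a : ZMod 3} : z ^ a.val = 1 ↔ a = 0 := by
  rw [← F.zpow_val_eq (a := a) (b := 0)]
  simp

theorem zpow_val_add (a b : ZMod 3) : z ^ (a + b).val = z ^ a.val * z ^ b.val := by
  rw [← pow_add, pow_inj_mod, F.hz, ZMod.val_add, Nat.mod_mod]

theorem zpow_val_neg (a : ZMod 3) : z ^ (-a).val = (z ^ a.val)⁻¹ :=
  eq_inv_of_mul_eq_one_left (by rw [← F.zpow_val_add, neg_add_cancel]; simp)

theorem mem_zpowers {x : G} : x ∈ Subgroup.zpowers z ↔ ∃ a : ZMod 3, x = z ^ a.val := by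
  constructor
  · intro h
    obtain ⟨k, rfl⟩ := Subgroup.mem_zpowers_iff.mp h
    refine ⟨(k : ZMod 3), ?_⟩
    rw [← zpow_natCast, zpow_eq_zpow_iff_modEq, F.hz, ← ZMod.intCast_eq_intCast_iff]
    push_cast
    rw [ZMod.natCast_zmod_val]
  · rintro ⟨a, rfl⟩
    exact Subgroup.npow_mem_zpowers z _

theorem zpow_comm {c : G} (hc : Commute c z) (a : ZMod 3) : Commute c (z ^ a.val) := hc.pow_right _

theorem ν_one : F.ν 1 = 0 := (F.ν_zero 1 F.Q.one_mem).mpr (Subgroup.one_mem _)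

theorem ν_z : F.ν z = 0 := (F.ν_zero z F.zQ).mpr (Subgroup.mem_zpowers z)

theorem zpow_mem (a : ZMod 3) : z ^ a.val ∈ F.Q := Subgroup.pow_mem _ F.zQ _

theorem ν_zpow (a : ZMod 3) : F.ν (z ^ a.val) = 0 :=
  (F.ν_zero _ (F.zpow_mem a)).mpr (Subgroup.npow_mem_zpowers z _)

theorem ν_inv {x : G} (hx : x ∈ F.Q) : F.ν x⁻¹ = -F.ν x :=
  eq_neg_of_add_eq_zero_left (by rw [← F.ν_mul _ (F.Q.inv_mem hx) _ hx, inv_mul_cancel, F.ν_one])

theorem ν_pow {x : G} (hx : x ∈ F.Q) (n : ℕ) : F.ν (x ^ n) = n • F.ν x := by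
  induction n with
  | zero => rw [pow_zero, zero_smul, F.ν_one]
  | succ n ih => rw [pow_succ, F.ν_mul _ (Subgroup.pow_mem _ hx n) _ hx, ih, succ_nsmul]

theorem ν_eq {x y : G} (hx : x ∈ F.Q) (hy : y ∈ F.Q) :
    F.ν x = F.ν y ↔ ∃ a : ZMod 3, x = y * z ^ a.val := by
  constructor
  · intro h
    obtain ⟨a, ha⟩ := F.mem_zpowers.mp ((F.ν_zero _ (F.Q.mul_mem (F.Q.inv_mem hy) hx)).mp (by
      rw [F.ν_mul _ (F.Q.inv_mem hy) _ hx, F.ν_inv hy, h, neg_add_cancel]))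
    exact ⟨a, by rw [← ha, mul_inv_cancel_left]⟩
  · rintro ⟨a, rfl⟩
    rw [F.ν_mul _ hy _ (F.zpow_mem a), F.ν_zpow, add_zero]

theorem commute_iff {x y : G} (hx : x ∈ F.Q) (hy : y ∈ F.Q) : Commute x y ↔ B (F.ν x) (F.ν y) = 0 := by
  rw [commute_iff_eq, F.ν_comm x hx y hy, mul_eq_right, F.zpow_val_one]

theorem conj_eq {x y : G} (hx : x ∈ F.Q) (hy : y ∈ F.Q) :
    x * y * x⁻¹ = z ^ (B (F.ν x) (F.ν y)).val * y := by
  rw [F.ν_comm x hx y hy]; group

theorem top_eq {c : G} (hc : Commute c z) {t : Top} (h : ∀ x ∈ F.Q, F.ν (c * x * c⁻¹) = act t (F.ν x)) :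
    F.top c = t := by
  refine act_inj _ _ fun i => ?_
  obtain ⟨x, hx, e⟩ := F.ν_surj (bv i)
  rw [← e, ← F.ν_act c hc x hx, h x hx]

theorem top_mul {c d : G} (hc : Commute c z) (hd : Commute d z) :
    F.top (c * d) = Top.mul (F.top c) (F.top d) :=
  F.top_eq (hc.mul_left hd) fun x hx => by
    rw [show c * d * x * (c * d)⁻¹ = c * (d * x * d⁻¹) * c⁻¹ by group,
      F.ν_act c hc _ (F.normQ d hd x hx), F.ν_act d hd x hx, act_mul]

theorem top_Q {x : G} (hx : x ∈ F.Q) : F.top x = Top.one :=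
  F.top_eq (F.QC x hx) fun y hy => by
    rw [F.conj_eq hx hy, F.ν_mul _ (F.zpow_mem _) _ hy, F.ν_zpow, zero_add, act_one]

theorem top_one : F.top 1 = Top.one := F.top_Q F.Q.one_mem

theorem mem_Q_iff {c : G} (hc : Commute c z) : c ∈ F.Q ↔ F.top c = Top.one := by
  refine ⟨F.top_Q, fun h => ?_⟩
  have hκ : ∀ x ∈ F.Q, ∃ a : ZMod 3, c * x * c⁻¹ = x * z ^ a.val := fun x hx =>
    (F.ν_eq (F.normQ c hc x hx) hx).mp (by rw [F.ν_act c hc x hx, h, act_one])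
  choose f hf using hκ
  have hwell : ∀ x (hx : x ∈ F.Q) y (hy : y ∈ F.Q), F.ν x = F.ν y → f x hx = f y hy := by
    intro x hx y hy e
    obtain ⟨a, ha⟩ := (F.ν_eq hx hy).mp e
    subst ha
    have h1 := hf _ hx
    have h2 := hf y hy
    have e1 : c * (y * z ^ a.val) * c⁻¹ = c * y * c⁻¹ * z ^ a.val := by
      rw [show c * (y * z ^ a.val) * c⁻¹ = c * y * (z ^ a.val * c⁻¹) by group,
        ((F.zpow_comm hc a).inv_left).symm.eq]; group
    rw [e1, h2, mul_assoc, mul_assoc, mul_right_inj, ← F.zpow_val_add, ← F.zpow_val_add, F.zpow_val_eq,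
      add_comm] at h1
    exact (add_left_cancel h1).symm
  choose x hx hxν using F.ν_surj
  have hadd : ∀ v w, f (x (v + w)) (hx _) = f (x v) (hx _) + f (x w) (hx _) := by
    intro v w
    have hm := F.Q.mul_mem (hx v) (hx w)
    rw [hwell _ (hx (v + w)) _ hm (by rw [hxν, F.ν_mul _ (hx v) _ (hx w), hxν, hxν])]
    refine F.zpow_val_eq.mp ?_
    rw [← mul_right_inj (x v * x w), ← hf _ hm, F.zpow_val_add,
      show c * (x v * x w) * c⁻¹ = c * x v * c⁻¹ * (c * x w * c⁻¹) by group, hf _ (hx v), hf _ (hx w)]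
    have e := (F.zpow_comm (F.QC _ (hx w)) (f (x v) (hx v))).symm
    simp only [mul_assoc]
    rw [← mul_assoc (z ^ _) (x w), e.eq, mul_assoc]
  obtain ⟨w, hw⟩ := exists_B_eq (fun v => f (x v) (hx v)) hadd
  have hcen : ∀ y ∈ F.Q, Commute ((x w)⁻¹ * c) y := by
    intro y hy
    have h1 : f y hy = B w (F.ν y) := by
      rw [hwell y hy _ (hx (F.ν y)) (by rw [hxν])]
      exact hw _
    have h2 := F.conj_eq (hx w) hy
    rw [hxν, ← h1] at h2
    have h3 : c * y * c⁻¹ = x w * y * (x w)⁻¹ := by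
      rw [hf y hy, h2]
      exact (F.zpow_comm (F.QC y hy) _).eq
    rw [commute_iff_eq]
    calc (x w)⁻¹ * c * y = (x w)⁻¹ * (c * y * c⁻¹) * c := by group
      _ = y * ((x w)⁻¹ * c) := by rw [h3]; group
  have hcz : Commute ((x w)⁻¹ * c) z := (F.QC _ (hx w)).inv_left.mul_left hc
  have := F.Q.mul_mem (hx w) (F.self _ hcz hcen)
  rwa [mul_inv_cancel_left] at this

theorem top_inv {c : G} (hc : Commute c z) (x : V) : act (F.top c⁻¹) (act (F.top c) x) = x := by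
  rw [← act_mul, ← F.top_mul hc.inv_left hc, inv_mul_cancel, F.top_one, act_one]

theorem cube {x : G} (hx : x ∈ F.Q) : x ^ 3 = 1 := by
  have hneg : ∀ v : V, act (false, S.neg, S.neg) v = -v := by decide +kernel
  obtain ⟨c, hc, hct⟩ := F.top_surj S.neg S.neg (by decide) (by decide)
  obtain ⟨a, ha⟩ := (F.ν_eq (F.normQ c hc x hx) (F.Q.inv_mem hx)).mp (by
    rw [F.ν_act c hc x hx, hct, hneg, F.ν_inv hx])
  have h3 : F.ν (x ^ 3) = 0 := by
    rw [F.ν_pow hx]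
    funext i
    have : ∀ k : ZMod 3, 3 • k = 0 := by decide
    exact this _
  obtain ⟨b, hb⟩ := F.mem_zpowers.mp ((F.ν_zero _ (F.Q.pow_mem hx 3)).mp h3)
  have h1 : c * x ^ 3 * c⁻¹ = x ^ 3 := by
    rw [hb, (F.zpow_comm hc b).eq, mul_inv_cancel_right]
  have hxa : Commute x⁻¹ (z ^ a.val) := F.zpow_comm (F.QC _ (F.Q.inv_mem hx)) a
  rw [← conj_pow, ha, hxa.mul_pow, ← pow_mul, mul_comm a.val 3, pow_mul, F.z_cube, one_pow, mul_one,
    inv_pow] at h1
  rw [hb] at h1 ⊢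
  rw [← F.zpow_val_neg, F.zpow_val_eq] at h1
  rw [F.zpow_val_one]
  revert h1
  clear hb
  revert b
  decide

end Frame

end Cfsg.Agent.Spor.USixThree
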