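import Cfsg.Agent.Lib.Spor.USixThree.Exists
import Cfsg.Agent.Lib.Solv.Component
import Cfsg.Agent.Lib.Solv.Extraspecial
import Cfsg.Agent.Lib.Spor.ThreeLayer
import Cfsg.Prelude.Def_TwoFusion
import Cfsg.Prelude.Def_Local

/-!
From the hypotheses of the three-local characterisation of `U₆(2)` to the coordinates.
-/

set_option autoImplicit false
set_option linter.unusedSectionVars false

namespace Cfsg.Agent.Spor.USixThree

universe u

theorem init {G : Type u} [Group G] [Finite G] (Z : Subgroup G) (hZ3 : Nat.card ↥Z = 3) (H : Subgroup G)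
    (hH : H = Subgroup.centralizer (Z : Set G))
    (hQ : Cfsg.IsExtraspecial 3 ↥(Cfsg.generalizedFittingSubgroup ↥H))
    (hQord : Nat.card ↥(Cfsg.generalizedFittingSubgroup ↥H) = 3 ^ 5)
    (hZ : Subgroup.center ↥(Cfsg.generalizedFittingSubgroup ↥H) =
      (Subgroup.center ↥H).subgroupOf (Cfsg.generalizedFittingSubgroup ↥H))
    (hN : ∃ _ : (Cfsg.generalizedFittingSubgroup ↥H).Normal,
      ∃ N : Subgroup (↥H ⧸ Cfsg.generalizedFittingSubgroup ↥H),
        N.Normal ∧ Nonempty (↥N ≃* QuaternionGroup 2 × QuaternionGroup 2))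
    (hwc : Cfsg.IsWeaklyClosed Z ((Cfsg.generalizedFittingSubgroup ↥H).map H.subtype))
    (hnwc : ¬ Cfsg.IsWeaklyClosed Z H) :
    ∃ (z : G) (F : Frame z), Z = Subgroup.zpowers z ∧
      F.Q = (Cfsg.generalizedFittingSubgroup ↥H).map H.subtype ∧
      (∀ g : G, g * z * g⁻¹ ∈ F.Q → g * z * g⁻¹ ∈ Subgroup.zpowers z) ∧
      ∃ g : G, Commute (g * z * g⁻¹) z ∧ g * z * g⁻¹ ∉ F.Q := by
  haveI : Fact (Nat.Prime 3) := ⟨Nat.prime_three⟩
  obtain ⟨hQn, N, hNn, ⟨eN⟩⟩ := hN
  obtain ⟨Q, hQdef⟩ : ∃ Q, Q = Cfsg.generalizedFittingSubgroup ↥H := ⟨_, rfl⟩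
  -- a generator
  haveI : Nontrivial ↥Z := Finite.one_lt_card_iff_nontrivial.mp (by rw [hZ3]; norm_num)
  obtain ⟨⟨z, hzZ⟩, hz1⟩ := exists_ne (1 : ↥Z)
  have hzo : orderOf z = 3 := by
    have h := orderOf_dvd_natCard (⟨z, hzZ⟩ : ↥Z)
    rw [hZ3, Subgroup.orderOf_mk] at h
    rcases (Nat.dvd_prime Nat.prime_three).mp h with h' | h'
    · exact absurd (Subtype.ext (orderOf_eq_one_iff.mp h')) hz1
    · exact h'
  have hZeq : Z = Subgroup.zpowers z :=
    (Subgroup.eq_of_le_of_card_ge (Subgroup.zpowers_le.mpr hzZ) (by rw [hZ3, Nat.card_zpowers, hzo])).symm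
  have hHz : ∀ c, Commute c z ↔ c ∈ H := by
    intro c
    rw [hH, hZeq]
    constructor
    · intro h
      refine Subgroup.mem_centralizer_iff.mpr fun x hx => ?_
      obtain ⟨k, rfl⟩ := Subgroup.mem_zpowers_iff.mp hx
      exact (h.zpow_right k).symm.eq
    · intro h
      exact (Subgroup.mem_centralizer_iff.mp h z (Subgroup.mem_zpowers z)).symm
  obtain ⟨zH, hzH⟩ : ∃ zH : ↥H, (zH : G) = z := ⟨⟨z, (hHz z).mp (Commute.refl z)⟩, rfl⟩
  have hzc : zH ∈ Subgroup.center ↥H :=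
    Subgroup.mem_center_iff.mpr fun c => Subtype.ext (by
      rw [Subgroup.coe_mul, Subgroup.coe_mul, hzH]; exact ((hHz c).mpr c.2).eq)
  have hcQ : Subgroup.center ↥H ≤ Cfsg.generalizedFittingSubgroup ↥H :=
    le_trans Cfsg.Agent.Spor.center_le_fitting le_sup_right
  have hcen : Subgroup.center ↥(Cfsg.generalizedFittingSubgroup ↥H) =
      Subgroup.zpowers ⟨zH, hcQ hzc⟩ := by
    refine (Subgroup.eq_of_le_of_card_ge (Subgroup.zpowers_le.mpr ?_) ?_).symm
    · rw [hZ, Subgroup.mem_subgroupOf]; exact hzc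
    · rw [hQ.2, Nat.card_zpowers, Subgroup.orderOf_mk, ← Subgroup.orderOf_coe, hzH, hzo]
  obtain ⟨QG, hQG⟩ : ∃ QG, QG = (Cfsg.generalizedFittingSubgroup ↥H).map H.subtype := ⟨_, rfl⟩
  have hmem : ∀ {x : G}, x ∈ QG → ∃ q : ↥(Cfsg.generalizedFittingSubgroup ↥H), ((q : ↥H) : G) = x := fun hx => by
    rw [hQG] at hx; obtain ⟨q, hq, rfl⟩ := hx; exact ⟨⟨q, hq⟩, rfl⟩
  have hmem' : ∀ q : ↥(Cfsg.generalizedFittingSubgroup ↥H), ((q : ↥H) : G) ∈ QG :=
    fun q => hQG ▸ ⟨q.1, q.2, rfl⟩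
  have hzz : ∀ {q : ↥(Cfsg.generalizedFittingSubgroup ↥H)}, q ∈ Subgroup.center _ →
      ((q : ↥H) : G) ∈ Subgroup.zpowers z := fun {q} hq => by
    rw [hcen] at hq
    obtain ⟨k, rfl⟩ := Subgroup.mem_zpowers_iff.mp hq
    exact Subgroup.mem_zpowers_iff.mpr ⟨k, by simp [hzH]⟩
  let E : Ext z :=
    { Q := QG
      hz := hzo
      zQ := hzH ▸ hmem' ⟨zH, hcQ hzc⟩
      QC := fun x hx => by obtain ⟨q, rfl⟩ := hmem hx; exact (hHz _).mpr q.1.2
      normQ := fun c hc x hx => by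
        obtain ⟨q, rfl⟩ := hmem hx
        exact hmem' ⟨_, hQn.conj_mem _ q.2 ⟨c, (hHz c).mp hc⟩⟩
      self := fun c hc h => by
        refine hmem' ⟨⟨c, (hHz c).mp hc⟩, Cfsg.Agent.Solv.centralizer_gfit_le
          (Subgroup.mem_centralizer_iff.mpr fun q hq => Subtype.ext ?_)⟩
        exact (h _ (hmem' ⟨q, hq⟩)).symm.eq
      card := by
        rw [hQG, Subgroup.card_map_of_injective H.subtype_injective, hQord]; norm_num
      center := fun x hx h => by
        obtain ⟨q, rfl⟩ := hmem hx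
        exact hzz (Subgroup.mem_center_iff.mpr fun p => Subtype.ext (Subtype.ext (h _ (hmem' p)).symm.eq))
      comm_mem := fun x hx y hy => by
        obtain ⟨p, rfl⟩ := hmem hx
        obtain ⟨q, rfl⟩ := hmem hy
        have h := hQ.1.2.2.le (Subgroup.commutator_mem_commutator (Subgroup.mem_top p) (Subgroup.mem_top q))
        have h' := hzz h
        simpa [commutatorElement_def] using h'
      cube_mem := fun x hx => by
        obtain ⟨p, rfl⟩ := hmem hx
        have h' := hzz (Cfsg.Agent.Solv.extraspecial_pow_mem_center hQ p)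
        simpa using h' }
  let π : ↥(N.comap (QuotientGroup.mk' (Cfsg.generalizedFittingSubgroup ↥H))) →* ↥N :=
    ((QuotientGroup.mk' (Cfsg.generalizedFittingSubgroup ↥H)).comp (Subgroup.subtype _)).codRestrict N fun x => x.2
  obtain ⟨M, hM⟩ : ∃ M, M = (N.comap (QuotientGroup.mk' (Cfsg.generalizedFittingSubgroup ↥H))).map H.subtype :=
    ⟨_, rfl⟩
  let ι : ↥M ≃* ↥(N.comap (QuotientGroup.mk' (Cfsg.generalizedFittingSubgroup ↥H))) :=
    (MulEquiv.subgroupCongr hM).trans (Subgroup.equivMapOfInjective _ _ H.subtype_injective).symm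
  have hι : ∀ x : ↥M, (((ι x : ↥(N.comap _)) : ↥H) : G) = x := by
    intro x
    have h := Subgroup.coe_equivMapOfInjective_apply (N.comap (QuotientGroup.mk' (Cfsg.generalizedFittingSubgroup ↥H)))
      H.subtype H.subtype_injective (ι x)
    simp only [ι, MulEquiv.trans_apply, MulEquiv.apply_symm_apply] at h
    exact h.symm
  let K : Quats E :=
    { N := M
      θ := eN.toMonoidHom.comp (π.comp ι.toMonoidHom)
      le := fun x hx => by
        rw [hM] at hx; obtain ⟨p, -, rfl⟩ := hx; exact (hHz _).mpr p.2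
      normal := fun c hc x hx => by
        rw [hM] at hx ⊢
        obtain ⟨p, hp, rfl⟩ := hx
        exact ⟨_, (hNn.comap _).conj_mem p hp ⟨c, (hHz c).mp hc⟩, rfl⟩
      ker := fun x => by
        rw [MonoidHom.comp_apply, MonoidHom.comp_apply, MulEquiv.coe_toMonoidHom, MulEquiv.coe_toMonoidHom,
          MulEquiv.map_eq_one_iff, Subtype.ext_iff]
        show ((ι x : ↥H) : ↥H ⧸ Cfsg.generalizedFittingSubgroup ↥H) = 1 ↔ _
        rw [QuotientGroup.eq_one_iff]
        constructor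
        · intro h
          rw [← hι x]
          exact hmem' ⟨_, h⟩
        · intro h
          obtain ⟨q, hq⟩ := hmem h
          have : ((ι x : ↥(N.comap _)) : ↥H) = (q : ↥H) := Subtype.ext (by rw [hι x, hq])
          rw [this]
          exact q.2
      surj := fun v => by
        obtain ⟨p, hp⟩ := QuotientGroup.mk_surjective (N.subtype (eN.symm v))
        refine ⟨ι.symm ⟨p, ?_⟩, ?_⟩
        · show (p : ↥H ⧸ _) ∈ N
          exact hp.symm ▸ (eN.symm v).2
        · show eN (π (ι (ι.symm _))) = v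
          rw [MulEquiv.apply_symm_apply]
          conv_rhs => rw [← eN.apply_symm_apply v]
          exact congrArg eN (Subtype.ext hp) }
  obtain ⟨F, hF⟩ := K.exists_frame
  have hmap : ∀ g : G, Z.map (MulAut.conj g).toMonoidHom = Subgroup.zpowers (g * z * g⁻¹) := by
    intro g
    rw [hZeq, MonoidHom.map_zpowers]
    rfl
  have hFQ : F.Q = QG := hF
  refine ⟨z, F, hZeq, hFQ.trans hQG, fun g hg => ?_, ?_⟩
  · have h := hwc.2 g (by rw [hmap, ← hQG]; exact Subgroup.zpowers_le.mpr (hFQ ▸ hg))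
    rw [← hZeq, ← h, hmap]
    exact Subgroup.mem_zpowers _
  · by_contra hno
    push Not at hno
    refine hnwc ⟨?_, fun g hg => hwc.2 g ?_⟩
    · rw [hZeq]; exact Subgroup.zpowers_le.mpr ((hHz z).mp (Commute.refl z))
    · rw [hmap] at hg ⊢
      rw [← hQG]
      exact Subgroup.zpowers_le.mpr (hFQ ▸ hno g ((hHz _).mpr (hg (Subgroup.mem_zpowers _))))

end Cfsg.Agent.Spor.USixThree
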