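import Cfsg.Agent.Lib.Spor.USixThree.Model

/-!
Facts about elements of order three of the top, checked on the model.
-/

set_option autoImplicit false
set_option maxRecDepth 100000
set_option synthInstance.maxSize 2000
set_option synthInstance.maxHeartbeats 200000

namespace Cfsg.Agent.Spor.USixThree

theorem cube_comm : ∀ a b : S, a.Cube → b.Cube → (a.mul b).Cube → (a.mul (b.mul b)).Cube → a.mul b = b.mul a := by
  decide +kernel

theorem cube_pow : ∀ a b : S, a.Cube → b.Cube → a ≠ S.one → a.mul b = b.mul a →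
    b = S.one ∨ b = a ∨ b = a.mul a := by
  decide +kernel

theorem S_mul_one : ∀ a : S, a.mul S.one = a ∧ S.one.mul a = a := by decide +kernel

theorem left_image : ∀ a : S, a.Cube → a ≠ S.one → ∃ x y : ZMod 3,
    a.1.1 * x + a.1.2.1 * y - x ≠ 0 ∨ a.1.2.2.1 * x + a.1.2.2.2 * y - y ≠ 0 := by
  decide +kernel

theorem cube_image : ∀ a : S, a.Cube → ∀ x y : ZMod 3,
    a.1.1 * (a.1.1 * x + a.1.2.1 * y - x) + a.1.2.1 * (a.1.2.2.1 * x + a.1.2.2.2 * y - y) =
      a.1.1 * x + a.1.2.1 * y - x ∧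
    a.1.2.2.1 * (a.1.1 * x + a.1.2.1 * y - x) + a.1.2.2.2 * (a.1.2.2.1 * x + a.1.2.2.2 * y - y) =
      a.1.2.2.1 * x + a.1.2.2.2 * y - y := by
  decide +kernel

theorem swap_cube : ∀ (a b : S), Top.mul (Top.mul (true, a, b) (true, a, b)) (true, a, b) ≠ Top.one := by
  intro a b h
  simp [Top.mul, Top.one] at h

end Cfsg.Agent.Spor.USixThree
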