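import Cfsg.Agent.Lib.Spor.USixThree.Frame
import Cfsg.Agent.Lib.Spor.USixThree.LinkModel

/-!
Two commuting conjugates of the central element: neither moves the other inside its own subgroup.
-/

set_option autoImplicit false
set_option linter.unusedSectionVars false

namespace Cfsg.Agent.Spor.USixThree

universe u

variable {G : Type u} [Group G]

/-- coordinates, and weak closure of the central subgroup in the extraspecial one -/
structure Cfg (z : G) extends Frame z where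
  wc : ∀ g : G, g * z * g⁻¹ ∈ Q → g * z * g⁻¹ ∈ Subgroup.zpowers z

namespace Frame

variable {z : G} (F : Frame z)

/-- moving the coordinates by conjugation -/
def conj (g : G) : Frame (g * z * g⁻¹) where
  Q := F.Q.map (MulAut.conj g).toMonoidHom
  ν x := F.ν (g⁻¹ * x * g)
  top c := F.top (g⁻¹ * c * g)
  hz := by rw [show g * z * g⁻¹ = MulAut.conj g z from rfl, MulEquiv.orderOf_eq, F.hz]
  zQ := ⟨z, F.zQ, rfl⟩
  QC := by rintro _ ⟨x, hx, rfl⟩; exact (F.QC x hx).map (MulAut.conj g).toMonoidHom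
  normQ := by
    rintro c hc _ ⟨x, hx, rfl⟩
    refine ⟨g⁻¹ * c * g * x * (g⁻¹ * c * g)⁻¹, F.normQ _ ?_ x hx, by simp [mul_assoc]⟩
    simpa [mul_assoc] using hc.map (MulAut.conj g⁻¹).toMonoidHom
  self := by
    intro c hc h
    refine ⟨g⁻¹ * c * g, F.self _ ?_ fun x hx => ?_, by simp [mul_assoc]⟩
    · simpa [mul_assoc] using hc.map (MulAut.conj g⁻¹).toMonoidHom
    · simpa [mul_assoc] using (h _ ⟨x, hx, rfl⟩).map (MulAut.conj g⁻¹).toMonoidHom
  ν_mul := by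
    rintro _ ⟨x, hx, rfl⟩ _ ⟨y, hy, rfl⟩
    simpa [mul_assoc] using F.ν_mul x hx y hy
  ν_zero := by
    rintro _ ⟨x, hx, rfl⟩
    have e : g⁻¹ * (MulAut.conj g).toMonoidHom x * g = x := by simp [mul_assoc]
    rw [e, F.ν_zero x hx, show Subgroup.zpowers (g * z * g⁻¹) =
      (Subgroup.zpowers z).map (MulAut.conj g).toMonoidHom by rw [MonoidHom.map_zpowers]; rfl,
      Subgroup.mem_map_iff_mem (MulAut.conj g).injective]
  ν_surj v := by
    obtain ⟨x, hx, rfl⟩ := F.ν_surj v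
    exact ⟨_, ⟨x, hx, rfl⟩, by simp [mul_assoc]⟩
  ν_comm := by
    rintro _ ⟨x, hx, rfl⟩ _ ⟨y, hy, rfl⟩
    have e : ∀ w, g⁻¹ * (MulAut.conj g).toMonoidHom w * g = w := fun w => by simp [mul_assoc]
    rw [e, e, ← map_mul, F.ν_comm x hx y hy, map_mul, map_mul, map_pow]
    rfl
  ν_act := by
    rintro c hc _ ⟨x, hx, rfl⟩
    have e : g⁻¹ * (c * (MulAut.conj g).toMonoidHom x * c⁻¹) * g = g⁻¹ * c * g * x * (g⁻¹ * c * g)⁻¹ := by
      simp [mul_assoc]
    rw [e, F.ν_act _ (by simpa [mul_assoc] using hc.map (MulAut.conj g⁻¹).toMonoidHom) x hx]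
    simp [mul_assoc]
  top_surj a b ha hb := by
    obtain ⟨c, hc, he⟩ := F.top_surj a b ha hb
    exact ⟨g * c * g⁻¹, hc.map (MulAut.conj g).toMonoidHom, by simpa [mul_assoc] using he⟩

theorem top_cube {x : G} (hx : Commute x z) (h3 : x ^ 3 = 1) :
    ∃ a b : S, F.top x = (false, a, b) ∧ a.Cube ∧ b.Cube := by
  have h : Top.mul (Top.mul (F.top x) (F.top x)) (F.top x) = Top.one := by
    rw [← F.top_mul hx hx, ← F.top_mul (hx.mul_left hx) hx,
      show x * x * x = x ^ 3 by rw [pow_succ, pow_two], h3, F.top_one]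
  rcases e : F.top x with ⟨t, a, b⟩
  rw [e] at h
  cases t
  · simp only [Top.mul, Top.one, Prod.mk.injEq] at h
    exact ⟨a, b, rfl, h.2.1, h.2.2⟩
  · exact absurd h (swap_cube a b)

theorem pow_top {x : G} (hx : Commute x z) {a b : S} (h : F.top x = (false, a, b)) :
    F.top (x * x) = (false, a.mul a, b.mul b) := by
  rw [F.top_mul hx hx, h]; rfl

theorem conj_comm {c x : G} (hc : Commute c z) (hx : x ∈ F.Q) (h : act (F.top c) (F.ν x) = F.ν x) :
    ∃ l : ZMod 3, c * x * c⁻¹ = x * z ^ l.val :=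
  (F.ν_eq (F.normQ c hc x hx) hx).mp (by rw [F.ν_act c hc x hx, h])

end Frame

namespace Cfg

variable {z : G}

/-- moving the configuration by conjugation -/
def conj (C : Cfg z) (g : G) : Cfg (g * z * g⁻¹) where
  toFrame := C.toFrame.conj g
  wc := fun h hh => by
    obtain ⟨x, hx, e⟩ := hh
    have e' : g⁻¹ * h * g * z * (g⁻¹ * h * g)⁻¹ = x := by
      have : x = g⁻¹ * (h * (g * z * g⁻¹) * h⁻¹) * g := by rw [← e]; simp [mul_assoc]
      rw [this]; group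
    have := C.wc (g⁻¹ * h * g) (e' ▸ hx)
    rw [e'] at this
    rw [← e, show Subgroup.zpowers (g * z * g⁻¹) =
      (Subgroup.zpowers z).map (MulAut.conj g).toMonoidHom by rw [MonoidHom.map_zpowers]; rfl]
    exact ⟨x, this, rfl⟩

theorem conj_mem (C : Cfg z) {p : G} (hp : IsConj z p) (h : p ∈ C.Q) : p ∈ Subgroup.zpowers z := by
  obtain ⟨g, rfl⟩ := isConj_iff.mp hp
  exact C.wc g h

end Cfg

/-- two commuting conjugates in general position -/
structure Link {z y : G} (C : Cfg z) (D : Cfg y) : Prop where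
  conj : IsConj z y
  comm : Commute z y
  out : y ∉ C.Q

namespace Link

variable {z y : G} {C : Cfg z} {D : Cfg y} (L : Link C D)
include L

theorem out' : z ∉ D.Q := by
  intro h
  obtain ⟨a, ha⟩ := D.toFrame.mem_zpowers.mp (D.conj_mem L.conj.symm h)
  have ha0 : a ≠ 0 := fun e => C.toFrame.z_ne (by rw [ha, e]; simp)
  refine L.out ?_
  have e : z ^ a.val = y := by
    rw [ha, ← pow_mul]
    conv_rhs => rw [← pow_one y]
    rw [pow_inj_mod, D.hz]
    have : ∀ a : ZMod 3, a ≠ 0 → a.val * a.val % 3 = 1 % 3 := by decide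
    exact this a ha0
  rw [← e]
  exact C.toFrame.zpow_mem a

theorem symm : Link D C := ⟨L.conj.symm, L.comm.symm, L.out'⟩

theorem commute_W {x₁ x₂ : G} (h₁ : x₁ ∈ C.Q) (h₂ : x₂ ∈ C.Q) (c₁ : Commute x₁ y) (c₂ : Commute x₂ y) :
    Commute x₁ x₂ := by
  by_contra hne
  obtain ⟨k, hk⟩ : ∃ k, k = B (C.ν x₁) (C.ν x₂) := ⟨_, rfl⟩
  have hk0 : k ≠ 0 := fun e => hne ((C.toFrame.commute_iff h₁ h₂).mpr (hk ▸ e))
  have heq := C.ν_comm x₁ h₁ x₂ h₂
  rw [← hk] at heq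
  obtain ⟨a₁, b₁, e₁, ha₁, hb₁⟩ := D.toFrame.top_cube c₁ (C.toFrame.cube h₁)
  obtain ⟨a₂, b₂, e₂, ha₂, hb₂⟩ := D.toFrame.top_cube c₂ (C.toFrame.cube h₂)
  obtain ⟨a₃, b₃, e₃, ha₃, hb₃⟩ := D.toFrame.top_cube (c₁.mul_left c₂) (C.toFrame.cube (C.Q.mul_mem h₁ h₂))
  obtain ⟨a₄, b₄, e₄, ha₄, hb₄⟩ := D.toFrame.top_cube (c₁.mul_left (c₂.mul_left c₂))
    (C.toFrame.cube (C.Q.mul_mem h₁ (C.Q.mul_mem h₂ h₂)))
  rw [D.toFrame.top_mul c₁ c₂, e₁, e₂] at e₃
  rw [D.toFrame.top_mul c₁ (c₂.mul_left c₂), D.toFrame.top_mul c₂ c₂, e₁, e₂] at e₄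
  simp only [Top.mul, Prod.mk.injEq] at e₃ e₄
  have ka := cube_comm a₁ a₂ ha₁ ha₂ (e₃.2.1 ▸ ha₃) (e₄.2.1 ▸ ha₄)
  have kb := cube_comm b₁ b₂ hb₁ hb₂ (e₃.2.2 ▸ hb₃) (e₄.2.2 ▸ hb₄)
  have htt : D.top (x₁ * x₂) = D.top (x₂ * x₁) := by
    rw [D.toFrame.top_mul c₁ c₂, D.toFrame.top_mul c₂ c₁, e₁, e₂]
    simp only [Top.mul, ka, kb]
  have hzk : z ^ k.val ∈ D.Q := by
    rw [D.toFrame.mem_Q_iff (L.comm.pow_left _), show z ^ k.val = x₁ * x₂ * (x₂ * x₁)⁻¹ by rw [heq]; group,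
      D.toFrame.top_mul (c₁.mul_left c₂) (c₂.mul_left c₁).inv_left, htt,
      ← D.toFrame.top_mul (c₂.mul_left c₁) (c₂.mul_left c₁).inv_left, mul_inv_cancel, D.toFrame.top_one]
  refine L.out' ?_
  have e : (z ^ k.val) ^ k.val = z := by
    rw [← pow_mul]
    conv_rhs => rw [← pow_one z]
    rw [pow_inj_mod, C.hz]
    have : ∀ a : ZMod 3, a ≠ 0 → a.val * a.val % 3 = 1 % 3 := by decide
    exact this k hk0
  exact e ▸ D.Q.pow_mem hzk _

end Link

/-- some element of the extraspecial subgroup moves `y` along the centre -/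
def Moves {z : G} (C : Cfg z) (y : G) : Prop :=
  ∃ q ∈ C.Q, ∃ k : ZMod 3, k ≠ 0 ∧ q * y * q⁻¹ = y * z ^ k.val

theorem Moves.all {z : G} {C : Cfg z} {y : G} (h : Moves C y) (j : ZMod 3) : IsConj y (y * z ^ j.val) := by
  obtain ⟨q, hq, k, hk, e⟩ := h
  have hn : ∀ n : ℕ, q ^ n * y * (q ^ n)⁻¹ = y * z ^ ((n : ZMod 3) * k).val := by
    intro n
    induction n with
    | zero => simp
    | succ n ih =>
      rw [pow_succ', show q * q ^ n * y * (q * q ^ n)⁻¹ = q * (q ^ n * y * (q ^ n)⁻¹) * q⁻¹ by group, ih,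
        show q * (y * z ^ ((n : ZMod 3) * k).val) * q⁻¹ =
          q * y * q⁻¹ * (q * z ^ ((n : ZMod 3) * k).val * q⁻¹) by group, e,
        ((C.QC q hq).pow_right _).eq, mul_inv_cancel_right, mul_assoc, ← C.toFrame.zpow_val_add]
      push_cast
      ring_nf
  refine isConj_iff.mpr ⟨q ^ (j * k⁻¹).val, ?_⟩
  rw [hn, ZMod.natCast_zmod_val]
  have : ∀ j k : ZMod 3, k ≠ 0 → j * k⁻¹ * k = j := by decide +kernel
  rw [this j k hk]

/-- the top of `y` is trivial on one of the blocks -/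
def OneSided {z : G} (C : Cfg z) (y : G) : Prop := (C.top y).2.1 = S.one ∨ (C.top y).2.2 = S.one

namespace Link

variable {z y : G} {C : Cfg z} {D : Cfg y} (L : Link C D)
include L

theorem moves_of_oneSided (h : OneSided C y) : Moves C y := by
  obtain ⟨a, b, e, -, -⟩ := C.toFrame.top_cube L.comm.symm D.toFrame.z_cube
  obtain ⟨i, j, hfi, hfj, hB⟩ : ∃ i j : Fin 4, act (C.top y) (bv i) = bv i ∧ act (C.top y) (bv j) = bv j ∧
      B (bv i) (bv j) ≠ 0 := by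
    rw [OneSided, e] at h
    rw [e]
    rcases h with h | h <;> simp only at h <;> subst h
    · refine ⟨0, 1, ?_, ?_, by decide⟩ <;> (funext l; fin_cases l <;> simp [act, bv, S.one])
    · refine ⟨2, 3, ?_, ?_, by decide⟩ <;> (funext l; fin_cases l <;> simp [act, bv, S.one])
  obtain ⟨u, hu, eu⟩ := C.ν_surj (bv i)
  obtain ⟨v, hv, ev⟩ := C.ν_surj (bv j)
  obtain ⟨lu, hlu⟩ := C.toFrame.conj_comm L.comm.symm hu (by rw [eu, hfi])
  obtain ⟨lv, hlv⟩ := C.toFrame.conj_comm L.comm.symm hv (by rw [ev, hfj])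
  have key : ∀ x ∈ C.Q, ∀ l : ZMod 3, l ≠ 0 → y * x * y⁻¹ = x * z ^ l.val → Moves C y := by
    intro x hx l hl hxl
    refine ⟨x⁻¹, C.Q.inv_mem hx, l, hl, ?_⟩
    rw [inv_inv, (L.comm.symm.pow_right l.val).eq]
    calc x⁻¹ * y * x = x⁻¹ * (y * x * y⁻¹) * y := by group
      _ = _ := by rw [hxl]; group
  by_cases hu0 : lu = 0
  · by_cases hv0 : lv = 0
    · exfalso
      rw [hu0] at hlu; rw [hv0] at hlv
      simp at hlu hlv
      have cu : Commute u y := (mul_inv_eq_iff_eq_mul.mp hlu).symm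
      have cv : Commute v y := (mul_inv_eq_iff_eq_mul.mp hlv).symm
      refine hB ?_
      rw [← eu, ← ev]
      exact (C.toFrame.commute_iff hu hv).mp (L.commute_W hu hv cu cv)
    · exact key v hv lv hv0 hlv
  · exact key u hu lu hu0 hlu

/-- the elements of `Q_y` that multiply `z` to a conjugate are central when the product is one sided -/
theorem oneSided_product {u : G} (hu : u ∈ D.Q) (huz : Commute u z) (hp : IsConj z (z * u))
    (hone : OneSided C (z * u)) : u ∈ Subgroup.zpowers y := by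
  by_cases hQ : z * u ∈ C.Q
  · obtain ⟨a, ha⟩ := C.toFrame.mem_zpowers.mp (C.conj_mem hp hQ)
    have e : u = z ^ (a - 1).val := by
      rw [sub_eq_add_neg, C.toFrame.zpow_val_add, ← ha, C.toFrame.zpow_val_neg,
        show (1 : ZMod 3).val = 1 from rfl, pow_one, mul_assoc, huz.inv_right.eq, ← mul_assoc, mul_inv_cancel,
        one_mul]
    by_cases h0 : a - 1 = 0
    · rw [e, h0]; simp
    · exfalso
      refine L.out' ?_
      have e1 : (z ^ (a - 1).val) ^ (a - 1).val = z := by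
        rw [← pow_mul]
        conv_rhs => rw [← pow_one z]
        rw [pow_inj_mod, C.hz]
        have : ∀ a : ZMod 3, a ≠ 0 → a.val * a.val % 3 = 1 % 3 := by decide
        exact this _ h0
      rw [← e1, ← e]
      exact D.Q.pow_mem hu _
  obtain ⟨g, hg⟩ := isConj_iff.mp hp
  have hpz : Commute z (z * u) := (Commute.refl z).mul_right huz.symm
  have h0 : ∀ (p : G) (P : Cfg p), IsConj z p → Commute z p → p ∉ C.Q → OneSided C p → Moves C p :=
    fun p P h1 h2 h3 h4 => (Link.mk (C := C) (D := P) h1 h2 h3).moves_of_oneSided h4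
  have hmv := h0 (g * z * g⁻¹) (C.conj g) (hg ▸ hp) (hg ▸ hpz) (hg ▸ hQ) (hg ▸ hone)
  rw [hg] at hmv
  have hu' : IsConj z u := by
    have h := hp.trans (hmv.all 2)
    rwa [show z * u * z ^ (2 : ZMod 3).val = u by
      rw [mul_assoc, (huz.pow_right _).eq, ← mul_assoc, ← pow_succ', show (2 : ZMod 3).val + 1 = 3 from rfl,
        C.toFrame.z_cube, one_mul]] at h
  exact D.conj_mem (L.conj.symm.trans hu') hu

theorem exists_image : ∃ x ∈ D.Q, D.ν (z * x * z⁻¹) - D.ν x ≠ 0 ∧ Commute z (x⁻¹ * (z * x * z⁻¹)) := by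
  obtain ⟨a, b, e, ha, hb⟩ := D.toFrame.top_cube L.comm C.toFrame.z_cube
  have htop : ¬ (a = S.one ∧ b = S.one) := fun h => L.out' ((D.toFrame.mem_Q_iff L.comm).mpr (by
    rw [e, h.1, h.2]; rfl))
  -- an element with fixed vector is moved along the centre
  have hl : ∀ w ∈ D.Q, act (false, a, b) (D.ν w) = D.ν w → ∃ l : ZMod 3, z * w * z⁻¹ = w * y ^ l.val :=
    fun w hw h => D.toFrame.conj_comm L.comm hw (by rw [e, h])
  have hνsub : ∀ x ∈ D.Q, D.ν (x⁻¹ * (z * x * z⁻¹)) = D.ν (z * x * z⁻¹) - D.ν x := fun x hx => by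
    rw [D.ν_mul _ (D.Q.inv_mem hx) _ (D.normQ z L.comm x hx), D.toFrame.ν_inv hx]; abel
  have hd : ∀ x ∈ D.Q, D.ν (x⁻¹ * (z * x * z⁻¹)) = act (false, a, b) (D.ν x) - D.ν x := fun x hx => by
    rw [hνsub x hx, D.ν_act z L.comm x hx, e]
  have hcomm : ∀ w w' : G, w ∈ D.Q → w' ∈ D.Q → D.ν w = D.ν w' → Commute z w' → Commute z w := by
    intro w w' hw hw' h hc
    obtain ⟨k, rfl⟩ := (D.toFrame.ν_eq hw hw').mp h
    exact hc.mul_right (L.comm.pow_right _)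
  have comb : ∀ w₁ w₂ : G, w₁ ∈ D.Q → w₂ ∈ D.Q → ∀ l₁ l₂ : ZMod 3, z * w₁ * z⁻¹ = w₁ * y ^ l₁.val →
      z * w₂ * z⁻¹ = w₂ * y ^ l₂.val → ∀ n m : ℕ, (n : ZMod 3) * l₁ + m * l₂ = 0 → Commute z (w₁ ^ n * w₂ ^ m) := by
    intro w₁ w₂ h₁ h₂ l₁ l₂ q₁ q₂ n m hnm
    have p : ∀ w ∈ D.Q, ∀ l : ZMod 3, ∀ n : ℕ, z * w * z⁻¹ = w * y ^ l.val →
        z * w ^ n * z⁻¹ = w ^ n * y ^ ((n : ZMod 3) * l).val := by
      intro w hw l n hwl
      have hpow : y ^ (l.val * n) = y ^ ((n : ZMod 3) * l).val := by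
        rw [pow_inj_mod, D.hz, ZMod.val_mul, ZMod.val_natCast, Nat.mod_mod, Nat.mod_mul_mod, mul_comm]
      rw [← conj_pow, hwl, ((D.QC w hw).pow_right l.val).mul_pow, ← pow_mul, hpow]
    rw [commute_iff_eq, ← mul_inv_eq_iff_eq_mul,
      show z * (w₁ ^ n * w₂ ^ m) * z⁻¹ = z * w₁ ^ n * z⁻¹ * (z * w₂ ^ m * z⁻¹) by group, p w₁ h₁ l₁ n q₁,
      p w₂ h₂ l₂ m q₂]
    rw [mul_assoc, ← mul_assoc (y ^ _) (w₂ ^ m),
      ← ((D.QC _ (D.Q.pow_mem h₂ m)).pow_right _).eq, mul_assoc (w₂ ^ m), ← D.toFrame.zpow_val_add, hnm]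
    simp
  have hfix : ∀ v, act (false, a, b) (act (false, a, b) v - v) = act (false, a, b) v - v := by
    intro v
    obtain ⟨h1, h2⟩ := cube_image a ha (v 0) (v 1)
    obtain ⟨h3, h4⟩ := cube_image b hb (v 2) (v 3)
    funext l
    fin_cases l <;> simp [act] <;> assumption
  have img : ∀ v, ∃ x ∈ D.Q, D.ν (x⁻¹ * (z * x * z⁻¹)) = act (false, a, b) v - v ∧
      ∃ l : ZMod 3, z * (x⁻¹ * (z * x * z⁻¹)) * z⁻¹ = (x⁻¹ * (z * x * z⁻¹)) * y ^ l.val := by
    intro v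
    obtain ⟨x, hx, rfl⟩ := D.ν_surj v
    exact ⟨x, hx, hd x hx, hl _ (D.Q.mul_mem (D.Q.inv_mem hx) (D.normQ z L.comm x hx)) (by rw [hd x hx, hfix])⟩
  have finish : ∀ v, act (false, a, b) v - v ≠ 0 →
      (∃ w ∈ D.Q, D.ν w = act (false, a, b) v - v ∧ Commute z w) →
      ∃ x ∈ D.Q, D.ν (z * x * z⁻¹) - D.ν x ≠ 0 ∧ Commute z (x⁻¹ * (z * x * z⁻¹)) := by
    intro v hv ⟨w, hw, hwν, hwz⟩
    obtain ⟨x, hx, hxv, -⟩ := img v
    exact ⟨x, hx, by rw [← hνsub x hx, hxv]; exact hv,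
      hcomm _ w (D.Q.mul_mem (D.Q.inv_mem hx) (D.normQ z L.comm x hx)) hw (hxv.trans hwν.symm) hwz⟩
  obtain ⟨D₁, hD₁⟩ : ∃ D₁, D₁ = fun v => act (false, a, b) v - v := ⟨_, rfl⟩
  -- vectors moved inside a block
  have mv : ∀ c : S, c.Cube → c ≠ S.one → ∃ x y : ZMod 3,
      c.1.1 * x + c.1.2.1 * y - x ≠ 0 ∨ c.1.2.2.1 * x + c.1.2.2.2 * y - y ≠ 0 := left_image
  have one_case : ∀ (v : V) (i j : Fin 4), act (false, a, b) v - v ≠ 0 →
      act (false, a, b) (bv i) = bv i → act (false, a, b) (bv j) = bv j → B (bv i) (bv j) = 1 →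
      B (bv i) (act (false, a, b) v - v) = 0 → B (act (false, a, b) v - v) (bv j) = 0 →
      ∃ x ∈ D.Q, D.ν (z * x * z⁻¹) - D.ν x ≠ 0 ∧ Commute z (x⁻¹ * (z * x * z⁻¹)) := by
    intro v i j hv hi hj hij h1 h2
    obtain ⟨x, hx, hxv, l, hlx⟩ := img v
    by_cases hl0 : l = 0
    · refine ⟨x, hx, by rw [← hνsub x hx, hxv]; exact hv, ?_⟩
      rw [hl0] at hlx
      simp at hlx
      exact mul_inv_eq_iff_eq_mul.mp (by simpa [mul_assoc] using hlx)
    exfalso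
    obtain ⟨w, hwdef⟩ : ∃ w, w = x⁻¹ * (z * x * z⁻¹) := ⟨_, rfl⟩
    rw [← hwdef] at hlx hxv
    have hw : w ∈ D.Q := hwdef ▸ D.Q.mul_mem (D.Q.inv_mem hx) (D.normQ z L.comm x hx)
    obtain ⟨u, hu, eu⟩ := D.ν_surj (bv i)
    obtain ⟨u', hu', eu'⟩ := D.ν_surj (bv j)
    obtain ⟨lu, hlu⟩ := hl u hu (by rw [eu, hi])
    obtain ⟨lu', hlu'⟩ := hl u' hu' (by rw [eu', hj])
    have hs : ∀ m l : ZMod 3, l ≠ 0 → ((1 : ℕ) : ZMod 3) * m + ((-m * l⁻¹).val : ℕ) * l = 0 := by decide +kernel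
    have c₁ := comb u w hu hw lu l hlu hlx 1 (-lu * l⁻¹).val (hs lu l hl0)
    have c₂ := comb u' w hu' hw lu' l hlu' hlx 1 (-lu' * l⁻¹).val (hs lu' l hl0)
    rw [pow_one] at c₁ c₂
    have hm₁ := D.Q.mul_mem hu (D.Q.pow_mem hw (-lu * l⁻¹).val)
    have hm₂ := D.Q.mul_mem hu' (D.Q.pow_mem hw (-lu' * l⁻¹).val)
    have h := (D.toFrame.commute_iff hm₁ hm₂).mp (L.symm.commute_W hm₁ hm₂ c₁.symm c₂.symm)
    rw [D.ν_mul _ hu _ (D.Q.pow_mem hw _), D.ν_mul _ hu' _ (D.Q.pow_mem hw _), D.toFrame.ν_pow hw,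
      D.toFrame.ν_pow hw, eu, eu', hxv] at h
    obtain ⟨n, hn⟩ : ∃ n : ℕ, n = (-lu * l⁻¹).val := ⟨_, rfl⟩
    obtain ⟨m, hm⟩ : ∃ m : ℕ, m = (-lu' * l⁻¹).val := ⟨_, rfl⟩
    rw [← hn, ← hm] at h
    simp only [B, Pi.add_apply, nsmul_eq_mul, Pi.mul_apply, Pi.natCast_apply] at h h1 h2 hij
    refine one_ne_zero (α := ZMod 3) ?_
    linear_combination h - hij - (m : ZMod 3) * h1 - (n : ZMod 3) * h2
  by_cases ha1 : a = S.one
  · subst ha1
    have hb1 : b ≠ S.one := fun h => htop ⟨rfl, h⟩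
    obtain ⟨p, q, hpq⟩ := mv b hb hb1
    refine one_case ![0, 0, p, q] 0 1 ?_ ?_ ?_ (by decide) ?_ ?_
    · intro h
      have h2 := congrFun h 2
      have h3 := congrFun h 3
      simp [act, S.one] at h2 h3
      exact hpq.elim (· h2) (· h3)
    all_goals first
      | (funext l; fin_cases l <;> simp [act, bv, S.one])
      | simp [B, act, bv, S.one]
  by_cases hb1 : b = S.one
  · subst hb1
    obtain ⟨p, q, hpq⟩ := mv a ha ha1
    refine one_case ![p, q, 0, 0] 2 3 ?_ ?_ ?_ (by decide) ?_ ?_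
    · intro h
      have h2 := congrFun h 0
      have h3 := congrFun h 1
      simp [act, S.one] at h2 h3
      exact hpq.elim (· h2) (· h3)
    all_goals first
      | (funext l; fin_cases l <;> simp [act, bv, S.one])
      | simp [B, act, bv, S.one]
  obtain ⟨p, q, hpq⟩ := mv a ha ha1
  obtain ⟨p', q', hpq'⟩ := mv b hb hb1
  obtain ⟨x₁, hx₁, hv₁, l₁, hl₁⟩ := img ![p, q, 0, 0]
  obtain ⟨x₂, hx₂, hv₂, l₂, hl₂⟩ := img ![0, 0, p', q']
  have m₁ := D.Q.mul_mem (D.Q.inv_mem hx₁) (D.normQ z L.comm x₁ hx₁)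
  have m₂ := D.Q.mul_mem (D.Q.inv_mem hx₂) (D.normQ z L.comm x₂ hx₂)
  obtain ⟨n, m, hnm, hne⟩ : ∃ n m : ℕ, (n : ZMod 3) * l₁ + m * l₂ = 0 ∧ ((n : ZMod 3) ≠ 0 ∨ (m : ZMod 3) ≠ 0) := by
    by_cases h : l₁ = 0
    · exact ⟨1, 0, by simp [h], by left; simp⟩
    · exact ⟨l₂.val, (-l₁).val, by rw [ZMod.natCast_zmod_val, ZMod.natCast_zmod_val]; ring,
        Or.inr (by rw [ZMod.natCast_zmod_val]; simpa using h)⟩
  refine finish ((n : ZMod 3) • ![p, q, 0, 0] + (m : ZMod 3) • ![0, 0, p', q']) ?_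
    ⟨_, D.Q.mul_mem (D.Q.pow_mem m₁ n) (D.Q.pow_mem m₂ m), ?_, comb _ _ m₁ m₂ l₁ l₂ hl₁ hl₂ n m hnm⟩
  · rw [act_add, act_smul, act_smul]
    intro h
    have h0 := congrFun h 0
    have h1 := congrFun h 1
    have h2 := congrFun h 2
    have h3 := congrFun h 3
    simp [act] at h0 h1 h2 h3
    rcases hne with hn | hm
    · refine hpq.elim (fun hh => hh ?_) (fun hh => hh ?_)
      · exact (mul_eq_zero.mp (show (n : ZMod 3) * (a.1.1 * p + a.1.2.1 * q - p) = 0 by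
          linear_combination h0)).resolve_left hn
      · exact (mul_eq_zero.mp (show (n : ZMod 3) * (a.1.2.2.1 * p + a.1.2.2.2 * q - q) = 0 by
          linear_combination h1)).resolve_left hn
    · refine hpq'.elim (fun hh => hh ?_) (fun hh => hh ?_)
      · exact (mul_eq_zero.mp (show (m : ZMod 3) * (b.1.1 * p' + b.1.2.1 * q' - p') = 0 by
          linear_combination h2)).resolve_left hm
      · exact (mul_eq_zero.mp (show (m : ZMod 3) * (b.1.2.2.1 * p' + b.1.2.2.2 * q' - q') = 0 by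
          linear_combination h3)).resolve_left hm
  · rw [D.ν_mul _ (D.Q.pow_mem m₁ n) _ (D.Q.pow_mem m₂ m), D.toFrame.ν_pow m₁, D.toFrame.ν_pow m₂, hv₁, hv₂,
      act_add, act_smul, act_smul, ← Nat.cast_smul_eq_nsmul (ZMod 3), ← Nat.cast_smul_eq_nsmul (ZMod 3), smul_sub,
      smul_sub]
    abel

/-- no element of `Q_y` moves `z` along `⟨y⟩` -/
theorem not_moves : ¬ Moves D z := by
  intro hm
  obtain ⟨x, hx, hne, hwz⟩ := L.exists_image
  obtain ⟨w, hw⟩ : ∃ w, w = x⁻¹ * (z * x * z⁻¹) := ⟨_, rfl⟩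
  rw [← hw] at hwz
  have hwQ : w ∈ D.Q := hw ▸ D.Q.mul_mem (D.Q.inv_mem hx) (D.normQ z L.comm x hx)
  have hνw : D.ν w ≠ 0 := by
    rw [hw, D.ν_mul _ (D.Q.inv_mem hx) _ (D.normQ z L.comm x hx), D.toFrame.ν_inv hx, neg_add_eq_sub]
    exact hne
  have hconj : ∀ c : ZMod 3, IsConj z (z * (w * y ^ c.val)) := by
    intro c
    refine (hm.all c).trans (isConj_iff.mpr ⟨x⁻¹, ?_⟩)
    have e1 : x⁻¹ * z * x⁻¹⁻¹ = z * w := by
      rw [inv_inv, hwz.eq, hw]; group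
    have e2 : x⁻¹ * y ^ c.val * x⁻¹⁻¹ = y ^ c.val := by
      rw [((D.QC x hx).inv_left.pow_right c.val).eq, mul_inv_cancel_right]
    rw [← mul_assoc z w, ← e1]
    conv_rhs => arg 2; rw [← e2]
    group
  obtain ⟨a, b, e, ha, hb⟩ := C.toFrame.top_cube L.comm.symm D.toFrame.z_cube
  obtain ⟨a', b', e', ha', hb'⟩ := C.toFrame.top_cube hwz.symm (D.toFrame.cube hwQ)
  have hcm : C.top (y * w) = C.top (w * y) := by rw [(D.QC w hwQ).eq]
  rw [C.toFrame.top_mul L.comm.symm hwz.symm, C.toFrame.top_mul hwz.symm L.comm.symm, e, e'] at hcm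
  simp only [Top.mul, Prod.mk.injEq] at hcm
  have htp : ∀ c : ZMod 3, C.top (z * (w * y ^ c.val)) = Top.mul (false, a', b') (C.top (y ^ c.val)) := by
    intro c
    rw [C.toFrame.top_mul (Commute.refl z) (hwz.symm.mul_left (L.comm.symm.pow_left _)),
      C.toFrame.top_Q C.zQ, C.toFrame.top_mul hwz.symm (L.comm.symm.pow_left _), e']
    rcases C.top (y ^ c.val) with ⟨t, p, q⟩
    simp [Top.mul, Top.one, (S_mul_one _).2]
  have hpw : C.top (y ^ (1 : ZMod 3).val) = (false, a, b) ∧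
      C.top (y ^ (2 : ZMod 3).val) = (false, a.mul a, b.mul b) ∧ C.top (y ^ (0 : ZMod 3).val) = Top.one := by
    refine ⟨by rw [show (1 : ZMod 3).val = 1 from rfl, pow_one, e], ?_,
      by rw [ZMod.val_zero, pow_zero, C.toFrame.top_one]⟩
    rw [show (2 : ZMod 3).val = 2 from rfl, pow_two]
    exact C.toFrame.pow_top L.comm.symm e
  obtain ⟨c, hc⟩ : ∃ c : ZMod 3, OneSided C (z * (w * y ^ c.val)) := by
    simp only [OneSided, htp]
    obtain ⟨p1, p2, p0⟩ := hpw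
    by_cases ha1 : a = S.one
    · have hb1 : b ≠ S.one := fun h => L.out ((C.toFrame.mem_Q_iff L.comm.symm).mpr (by rw [e, ha1, h]; rfl))
      rcases cube_pow b b' hb hb' hb1 hcm.2.2 with h | h | h
      · exact ⟨0, Or.inr (by rw [p0, h]; exact (S_mul_one _).1)⟩
      · refine ⟨2, Or.inr ?_⟩
        rw [p2, h]; simp only [Top.mul]
        have : ∀ b : S, b.Cube → b.mul (b.mul b) = S.one := by decide +kernel
        exact this b hb
      · exact ⟨1, Or.inr (by rw [p1, h]; exact hb)⟩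
    · rcases cube_pow a a' ha ha' ha1 hcm.2.1 with h | h | h
      · exact ⟨0, Or.inl (by rw [p0, h]; exact (S_mul_one _).1)⟩
      · refine ⟨2, Or.inl ?_⟩
        rw [p2, h]; simp only [Top.mul]
        have : ∀ b : S, b.Cube → b.mul (b.mul b) = S.one := by decide +kernel
        exact this a ha
      · exact ⟨1, Or.inl (by rw [p1, h]; exact ha)⟩
  have hu : w * y ^ c.val ∈ D.Q := D.Q.mul_mem hwQ (D.toFrame.zpow_mem c)
  have := (D.ν_zero _ hu).mpr (L.oneSided_product hu (hwz.symm.mul_left (L.comm.symm.pow_left _)) (hconj c) hc)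
  rw [D.ν_mul _ hwQ _ (D.toFrame.zpow_mem c), D.toFrame.ν_zpow, add_zero] at this
  exact hνw this

theorem not_moves' : ¬ Moves C y := L.symm.not_moves

theorem not_oneSided : ¬ OneSided C y := fun h => L.not_moves' (L.moves_of_oneSided h)

end Link

end Cfsg.Agent.Spor.USixThree
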