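import Mathlib

/-!
The model of the top of the centraliser of a `3`-element of `U₆(2)` type: pairs of elements of
`SL₂(3)`, possibly interchanged, acting on a four-dimensional symplectic space over the field with
three elements.
-/

set_option autoImplicit false
set_option linter.unusedVariables false

namespace Cfsg.Agent.Spor.USixThree

/-- the space -/
abbrev V : Type := Fin 4 → ZMod 3

/-- the alternating form -/
def B (x y : V) : ZMod 3 := x 0 * y 1 - x 1 * y 0 + (x 2 * y 3 - x 3 * y 2)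

/-- the four basis vectors -/
def bv (i : Fin 4) : V := Pi.single i 1

/-- two by two matrices of determinant one, by their entries -/
abbrev S : Type := {m : ZMod 3 × ZMod 3 × ZMod 3 × ZMod 3 // m.1 * m.2.2.2 - m.2.1 * m.2.2.1 = 1}

/-- the product of two matrices -/
def S.mul (a b : S) : S :=
  ⟨(a.1.1 * b.1.1 + a.1.2.1 * b.1.2.2.1, a.1.1 * b.1.2.1 + a.1.2.1 * b.1.2.2.2,
    a.1.2.2.1 * b.1.1 + a.1.2.2.2 * b.1.2.2.1, a.1.2.2.1 * b.1.2.1 + a.1.2.2.2 * b.1.2.2.2), by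
    obtain ⟨⟨a1, a2, a3, a4⟩, ha⟩ := a
    obtain ⟨⟨b1, b2, b3, b4⟩, hb⟩ := b
    simp only at ha hb ⊢
    linear_combination b1 * b4 * ha - b2 * b3 * ha + hb⟩

/-- the identity matrix -/
def S.one : S := ⟨(1, 0, 0, 1), by decide⟩

/-- minus the identity matrix -/
def S.neg : S := ⟨(2, 0, 0, 2), by decide⟩

/-- the elements whose fourth power is the identity -/
def S.Quat (a : S) : Prop := (a.mul a).mul (a.mul a) = S.one

instance : DecidablePred S.Quat := fun a => inferInstanceAs (Decidable (_ = _))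

/-- the elements whose cube is the identity -/
def S.Cube (a : S) : Prop := (a.mul a).mul a = S.one

instance : DecidablePred S.Cube := fun a => inferInstanceAs (Decidable (_ = _))

/-- the top: an interchange and two matrices -/
abbrev Top : Type := Bool × S × S

/-- the action of the top -/
def act (t : Top) (v : V) : V :=
  match t.1 with
  | false => ![t.2.1.1.1 * v 0 + t.2.1.1.2.1 * v 1, t.2.1.1.2.2.1 * v 0 + t.2.1.1.2.2.2 * v 1,
      t.2.2.1.1 * v 2 + t.2.2.1.2.1 * v 3, t.2.2.1.2.2.1 * v 2 + t.2.2.1.2.2.2 * v 3]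
  | true => ![t.2.1.1.1 * v 2 + t.2.1.1.2.1 * v 3, t.2.1.1.2.2.1 * v 2 + t.2.1.1.2.2.2 * v 3,
      t.2.2.1.1 * v 0 + t.2.2.1.2.1 * v 1, t.2.2.1.2.2.1 * v 0 + t.2.2.1.2.2.2 * v 1]

/-- the product in the top -/
def Top.mul (s t : Top) : Top :=
  match s.1 with
  | false => (t.1, s.2.1.mul t.2.1, s.2.2.mul t.2.2)
  | true => (!t.1, s.2.1.mul t.2.2, s.2.2.mul t.2.1)

/-- the identity of the top -/
def Top.one : Top := (false, S.one, S.one)

theorem act_add (t : Top) (x y : V) : act t (x + y) = act t x + act t y := by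
  obtain ⟨b, a, c⟩ := t
  cases b <;> (funext i; fin_cases i <;> simp [act] <;> ring)

theorem act_smul (t : Top) (k : ZMod 3) (x : V) : act t (k • x) = k • act t x := by
  obtain ⟨b, a, c⟩ := t
  cases b <;> (funext i; fin_cases i <;> simp [act] <;> ring)

theorem act_neg (t : Top) (x : V) : act t (-x) = -act t x := by
  rw [← neg_one_smul (ZMod 3) x, act_smul, neg_one_smul]

theorem act_zero (t : Top) : act t 0 = 0 := by
  rw [← zero_smul (ZMod 3) (0 : V), act_smul, zero_smul, zero_smul]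

theorem act_mul (s t : Top) (x : V) : act (Top.mul s t) x = act s (act t x) := by
  obtain ⟨b, a, c⟩ := s
  obtain ⟨b', a', c'⟩ := t
  cases b <;> cases b' <;> (funext i; fin_cases i <;> simp [act, Top.mul, S.mul] <;> ring)

theorem act_one (x : V) : act Top.one x = x := by
  funext i; fin_cases i <;> simp [act, Top.one, S.one]

theorem act_B (t : Top) (x y : V) : B (act t x) (act t y) = B x y := by
  obtain ⟨b, ⟨⟨a1, a2, a3, a4⟩, ha⟩, ⟨⟨c1, c2, c3, c4⟩, hc⟩⟩ := t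
  simp only at ha hc
  cases b <;> simp [B, act]
  · linear_combination (x 0 * y 1 - x 1 * y 0) * ha + (x 2 * y 3 - x 3 * y 2) * hc
  · linear_combination (x 2 * y 3 - x 3 * y 2) * ha + (x 0 * y 1 - x 1 * y 0) * hc

theorem vec_sum (x : V) : x = x 0 • bv 0 + x 1 • bv 1 + x 2 • bv 2 + x 3 • bv 3 := by
  funext i; fin_cases i <;> simp [bv, Pi.single_apply]

theorem act_inj : ∀ s t : Top, (∀ i, act s (bv i) = act t (bv i)) → s = t := by
  intro s t h
  obtain ⟨b, ⟨⟨a1, a2, a3, a4⟩, ha⟩, ⟨⟨c1, c2, c3, c4⟩, hc⟩⟩ := s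
  obtain ⟨b', ⟨⟨a1', a2', a3', a4'⟩, ha'⟩, ⟨⟨c1', c2', c3', c4'⟩, hc'⟩⟩ := t
  have h0 := h 0
  have h1 := h 1
  have h2 := h 2
  have h3 := h 3
  simp only at ha hc ha' hc'
  cases b <;> cases b' <;>
    simp [act, bv, funext_iff, Fin.forall_fin_succ] at h0 h1 h2 h3
  · obtain ⟨e1, e3⟩ := h0; obtain ⟨e2, e4⟩ := h1; obtain ⟨f1, f3⟩ := h2; obtain ⟨f2, f4⟩ := h3
    simp [e1, e2, e3, e4, f1, f2, f3, f4]
  · obtain ⟨e1, e3, -, -⟩ := h0
    simp [e1, e3] at ha
  · obtain ⟨-, -, e1, e3⟩ := h0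
    simp [e1, e3] at hc
  · obtain ⟨e1, e3⟩ := h0; obtain ⟨e2, e4⟩ := h1; obtain ⟨f1, f3⟩ := h2; obtain ⟨f2, f4⟩ := h3
    simp [e1, e2, e3, e4, f1, f2, f3, f4]

/-- a form preserving map respecting the two blocks comes from the top -/
theorem exists_top (c : Fin 4 → V) (hB : ∀ i j, B (c i) (c j) = B (bv i) (bv j))
    (hblk : (c 0 2 = 0 ∧ c 0 3 = 0 ∧ c 1 2 = 0 ∧ c 1 3 = 0 ∧ c 2 0 = 0 ∧ c 2 1 = 0 ∧ c 3 0 = 0 ∧ c 3 1 = 0) ∨
      (c 0 0 = 0 ∧ c 0 1 = 0 ∧ c 1 0 = 0 ∧ c 1 1 = 0 ∧ c 2 2 = 0 ∧ c 2 3 = 0 ∧ c 3 2 = 0 ∧ c 3 3 = 0)) :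
    ∃ t : Top, ∀ i, act t (bv i) = c i := by
  have h01 := hB 0 1
  have h23 := hB 2 3
  rcases hblk with ⟨e1, e2, e3, e4, e5, e6, e7, e8⟩ | ⟨e1, e2, e3, e4, e5, e6, e7, e8⟩
  · simp [B, bv, e1, e2, e3, e4, e5, e6, e7, e8] at h01 h23
    refine ⟨(false, ⟨(c 0 0, c 1 0, c 0 1, c 1 1), ?_⟩, ⟨(c 2 2, c 3 2, c 2 3, c 3 3), ?_⟩), fun i => ?_⟩
    · linear_combination h01
    · linear_combination h23
    · funext j
      fin_cases i <;> fin_cases j <;> simp [act, bv, e1, e2, e3, e4, e5, e6, e7, e8]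
  · simp [B, bv, e1, e2, e3, e4, e5, e6, e7, e8] at h01 h23
    refine ⟨(true, ⟨(c 2 0, c 3 0, c 2 1, c 3 1), ?_⟩, ⟨(c 0 2, c 1 2, c 0 3, c 1 3), ?_⟩), fun i => ?_⟩
    · linear_combination h23
    · linear_combination h01
    · funext j
      fin_cases i <;> fin_cases j <;> simp [act, bv, e1, e2, e3, e4, e5, e6, e7, e8]

/-- every functional is given by the form -/
theorem exists_B_eq (f : V → ZMod 3) (hf : ∀ x y, f (x + y) = f x + f y) :
    ∃ w : V, ∀ x, f x = B w x := by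
  refine ⟨![f (bv 1), -f (bv 0), f (bv 3), -f (bv 2)], fun x => ?_⟩
  have hs : ∀ (k : ZMod 3) (v : V), f (k • v) = k * f v := by
    intro k v
    let F : V →+ ZMod 3 := AddMonoidHom.mk' f hf
    show F (k • v) = k * F v
    rw [ZMod.map_smul, smul_eq_mul]
  conv_lhs => rw [vec_sum x]
  simp only [hf, hs, B]
  simp
  ring

theorem eq_zero_of_B : ∀ w : V, (∀ i, B w (bv i) = 0) → w = 0 := by decide +kernel

theorem quat_card : (Finset.univ.filter fun a : S => S.Quat a).card = 8 := by decide +kernel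

set_option synthInstance.maxSize 2000 in
set_option synthInstance.maxHeartbeats 100000 in
theorem S_invol : ∀ a : S, a.mul a = S.one → a = S.one ∨ a = S.neg := by decide +kernel


end Cfsg.Agent.Spor.USixThree
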