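import Cfsg.Agent.Lib.Spor.USixThree.Signal
import Cfsg.Agent.Lib.Solv.Cores
import Cfsg.Agent.Lib.Solv.Basic
import Cfsg.Prelude.Def_Solvable
import Cfsg.Prelude.Def_CaseTheorems

/-!
No nontrivial normal three-subgroup, and trivial odd core.
-/

set_option autoImplicit false
set_option linter.unusedSectionVars false
set_option linter.style.haveILetI false

namespace Cfsg.Agent.Spor.USixThree

universe u

/-- the adjugate -/
def S.inv (a : S) : S :=
  ⟨(a.1.2.2.2, -a.1.2.1, -a.1.2.2.1, a.1.1), by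
    obtain ⟨⟨a1, a2, a3, a4⟩, ha⟩ := a
    simp only at ha ⊢
    linear_combination ha⟩

theorem S.inv_unique : ∀ a b : S, a.mul b = S.one → b = a.inv := by decide +kernel

theorem S.comm_quat : ∀ a s : S, a.Quat → (((a.mul s).mul a.inv).mul s.inv).Quat := by decide +kernel

theorem S.comm_one : ∀ a s : S, ((a.mul s).mul a.inv).mul s.inv = S.one → a.mul s = s.mul a := by decide +kernel

set_option synthInstance.maxSize 2000 in
set_option synthInstance.maxHeartbeats 200000 in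
theorem S.centre_quat : ∀ s : S, (∀ a : S, a.Quat → a.mul s = s.mul a) → s.mul s = S.one := by decide +kernel

theorem S.one_quat : S.one.Quat := by decide

theorem zm_val : ∀ t : ZMod 3, t ≠ 0 → t.val = 1 ∨ t.val = 2 := by decide

namespace Frame

variable {G : Type u} [Group G] {z : G} (F : Frame z)
include F

theorem mem_of_pow {x : G} {m : ℕ} (hm : m.Coprime (orderOf x)) (h : x ^ m ∈ F.Q) : x ∈ F.Q := by
  obtain ⟨k, hk⟩ := exists_pow_eq_self_of_coprime hm
  rw [← hk]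
  exact F.Q.pow_mem h k

theorem top_false {x : G} (hx : Commute x z) (ho : Odd (orderOf x)) : (F.top x).1 = false := by
  rcases hb : (F.top x).1 with _ | _
  · rfl
  exfalso
  have key : ∀ k : ℕ, (F.top (x ^ k)).1 = decide (k % 2 = 1) := by
    intro k
    induction k with
    | zero => simp [F.top_one, Top.one]
    | succ k ih =>
      rw [pow_succ', F.top_mul hx (hx.pow_left k)]
      simp only [Top.mul, hb]
      rw [ih]
      rcases Nat.mod_two_eq_zero_or_one k with h | h <;> simp [Nat.add_mod, h]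
  have := key (orderOf x)
  rw [pow_orderOf_eq_one, F.top_one, Nat.odd_iff.mp ho] at this
  simp [Top.one] at this

theorem top_inv_eq {x : G} (hx : Commute x z) (hb : (F.top x).1 = false) :
    F.top x⁻¹ = (false, (F.top x).2.1.inv, (F.top x).2.2.inv) := by
  have h := F.top_mul hx hx.inv_left
  rw [mul_inv_cancel, F.top_one] at h
  rcases e : F.top x with ⟨t, a, b⟩
  rcases e' : F.top x⁻¹ with ⟨t', a', b'⟩
  rw [e] at hb
  subst hb
  rw [e, e'] at h
  simp only [Top.mul, Top.one, Prod.mk.injEq] at h ⊢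
  exact ⟨h.1.symm, S.inv_unique _ _ h.2.1.symm, S.inv_unique _ _ h.2.2.symm⟩

/-- a subgroup of odd order normalised by the centraliser lies in the extraspecial group -/
theorem odd_le {P : Subgroup G} (hP : ∀ x ∈ P, Commute x z) (ho : ∀ x ∈ P, Odd (orderOf x))
    (hn : ∀ c, Commute c z → ∀ x ∈ P, c * x * c⁻¹ ∈ P) : P ≤ F.Q := by
  intro x hx
  have hxz := hP x hx
  have hf := F.top_false hxz (ho x hx)
  rcases e : F.top x with ⟨t, s, s'⟩
  rw [e] at hf
  subst hf
  have hcom : ∀ a b : S, a.Quat → b.Quat → a.mul s = s.mul a ∧ b.mul s' = s'.mul b := by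
    intro a b ha hb
    obtain ⟨d, hd, htop⟩ := F.top_surj a b ha hb
    have hdi := F.top_inv_eq hd (by rw [htop])
    have hxi := F.top_inv_eq hxz (by rw [e])
    rw [htop] at hdi
    rw [e] at hxi
    have hdxd := (hd.mul_left hxz).mul_left hd.inv_left
    have hk : d * x * d⁻¹ * x⁻¹ ∈ P := P.mul_mem (hn d hd x hx) (P.inv_mem hx)
    have hkt : F.top (d * x * d⁻¹ * x⁻¹) =
        (false, ((a.mul s).mul a.inv).mul s.inv, ((b.mul s').mul b.inv).mul s'.inv) := by
      rw [F.top_mul hdxd hxz.inv_left, F.top_mul (hd.mul_left hxz) hd.inv_left, F.top_mul hd hxz, htop, e,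
        hdi, hxi]
      rfl
    have hk4 : (d * x * d⁻¹ * x⁻¹) ^ 4 ∈ F.Q := by
      have hkz := hP _ hk
      rw [F.mem_Q_iff (hkz.pow_left 4),
        show (d * x * d⁻¹ * x⁻¹) ^ 4 = (d * x * d⁻¹ * x⁻¹ * (d * x * d⁻¹ * x⁻¹)) *
          (d * x * d⁻¹ * x⁻¹ * (d * x * d⁻¹ * x⁻¹)) by rw [pow_succ, pow_succ, pow_two, mul_assoc],
        F.top_mul (hkz.mul_left hkz) (hkz.mul_left hkz), F.top_mul hkz hkz, hkt]
      simp only [Top.mul, Top.one, Prod.mk.injEq]
      exact ⟨trivial, S.comm_quat a s ha, S.comm_quat b s' hb⟩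
    have hkQ := F.top_Q (F.mem_of_pow (m := 4) ((Nat.coprime_pow_left_iff two_pos 2 _).mpr ((Nat.coprime_two_left).mpr (ho _ hk))) hk4)
    rw [hkt] at hkQ
    simp only [Top.one, Prod.mk.injEq] at hkQ
    exact ⟨S.comm_one a s hkQ.2.1, S.comm_one b s' hkQ.2.2⟩
  refine F.mem_of_pow (m := 2) (Nat.coprime_two_left.mpr (ho x hx)) ?_
  rw [F.mem_Q_iff (hxz.pow_left 2), pow_two, F.top_mul hxz hxz, e]
  simp only [Top.mul, Top.one, Prod.mk.injEq]
  exact ⟨trivial, S.centre_quat s fun a ha => (hcom a S.one ha S.one_quat).1,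
    S.centre_quat s' fun b hb => (hcom S.one b S.one_quat hb).2⟩

variable [Finite G]

/-- a normal subgroup of odd order has order prime to three -/
theorem normal_odd (hwc : ∀ g : G, g * z * g⁻¹ ∈ F.Q → g * z * g⁻¹ ∈ Subgroup.zpowers z)
    (hnwc : ∃ g : G, Commute (g * z * g⁻¹) z ∧ g * z * g⁻¹ ∉ F.Q)
    {K : Subgroup G} [hKn : K.Normal] (hK : Odd (Nat.card K)) : ¬ 3 ∣ Nat.card K := by
  haveI : Fact (Nat.Prime 3) := ⟨Nat.prime_three⟩
  intro hdvd
  obtain ⟨g, hg, hgQ⟩ := hnwc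
  obtain ⟨P, hP⟩ : ∃ P, P = K ⊓ Subgroup.centralizer ({z} : Set G) := ⟨_, rfl⟩
  have hPz : ∀ x ∈ P, Commute x z := fun x hx =>
    Subgroup.mem_centralizer_singleton_iff.mp (hP ▸ hx : x ∈ K ⊓ _).2
  have hPQ : P ≤ F.Q := by
    refine F.odd_le hPz (fun x hx => hK.of_dvd_nat ?_) fun c hc x hx => ?_
    · rw [← Subgroup.orderOf_mk x (hP ▸ hx : x ∈ K ⊓ _).1]
      exact orderOf_dvd_natCard _
    · rw [hP] at hx ⊢
      exact ⟨hKn.conj_mem x hx.1 c, Subgroup.mem_centralizer_singleton_iff.mpr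
        ((hc.mul_left (Subgroup.mem_centralizer_singleton_iff.mp hx.2)).mul_left hc.inv_left).eq⟩
  suffices hz : z ∈ K by
    refine hgQ (hPQ ?_)
    rw [hP]
    exact ⟨hKn.conj_mem z hz g, Subgroup.mem_centralizer_singleton_iff.mpr hg.eq⟩
  have hPne : P ≠ ⊥ := by
    classical
    haveI : Fintype ↥K := Fintype.ofFinite _
    intro h
    let σ : Equiv.Perm ↥K :=
      { toFun := fun x => ⟨z * x * z⁻¹, hKn.conj_mem x x.2 z⟩
        invFun := fun x => ⟨z⁻¹ * x * z, by simpa using hKn.conj_mem x x.2 z⁻¹⟩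
        left_inv := fun x => Subtype.ext (by simp [mul_assoc])
        right_inv := fun x => Subtype.ext (by simp [mul_assoc]) }
    have hpow : ∀ (n : ℕ) (x : ↥K), (((σ ^ n) x : ↥K) : G) = z ^ n * x * (z ^ n)⁻¹ := by
      intro n x
      induction n with
      | zero => simp
      | succ n ih =>
        rw [pow_succ' σ, Equiv.Perm.mul_apply]
        show z * ((σ ^ n) x : G) * z⁻¹ = _
        rw [ih]; group
    obtain ⟨b, hb, hb1⟩ := σ.exists_fixed_point_of_prime' (p := 3) (n := 1) (by rwa [← Nat.card_eq_fintype_card])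
      (by
        ext x
        rw [pow_one, hpow, F.z_cube]; simp)
      (a := 1) (Subtype.ext (by show z * 1 * z⁻¹ = 1; simp))
    refine hb1 (Subtype.ext ?_)
    have hmem : (b : G) ∈ P := by
      rw [hP]
      refine ⟨b.2, Subgroup.mem_centralizer_singleton_iff.mpr ?_⟩
      have e : z * (b : G) * z⁻¹ = b := congrArg Subtype.val hb
      calc (b : G) * z = z * b * z⁻¹ * z := by rw [e]
        _ = z * b := by group
    rw [h, Subgroup.mem_bot] at hmem
    exact hmem
  by_contra hzK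
  refine hPne (eq_bot_iff.mpr fun x hx => ?_)
  obtain ⟨b, hb⟩ : ∃ b, b = F.ν x := ⟨_, rfl⟩
  have h0 : ∀ v, B v b = 0 := by
    intro v
    by_contra hv
    obtain ⟨y, hy, hyv⟩ := F.ν_surj v
    have hm : y * x * y⁻¹ * x⁻¹ ∈ K := K.mul_mem (hKn.conj_mem x (hP ▸ hx : x ∈ K ⊓ _).1 y) (K.inv_mem (hP ▸ hx : x ∈ K ⊓ _).1)
    rw [F.conj_eq hy (hPQ hx), mul_inv_cancel_right, hyv, ← hb] at hm
    refine hzK ?_
    have h2 : z = z ^ (B v b).val ∨ z = (z ^ (B v b).val) ^ 2 := by
      rcases zm_val _ hv with h | h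
      · exact Or.inl (by rw [h, pow_one])
      · exact Or.inr (by rw [h, ← pow_mul, show 2 * 2 = 3 + 1 from rfl, pow_succ, F.z_cube, one_mul])
    rcases h2 with h | h
    · exact h ▸ hm
    · exact h ▸ K.pow_mem hm 2
  have hb0 : b = 0 := by
    funext i
    have e0 := h0 (bv 0); have e1 := h0 (bv 1); have e2 := h0 (bv 2); have e3 := h0 (bv 3)
    simp [B, bv] at e0 e1 e2 e3
    fin_cases i <;> simp [← hb, e0, e1, e2, e3]
  obtain ⟨a, ha⟩ := F.mem_zpowers.mp ((F.ν_zero x (hPQ hx)).mp (hb ▸ hb0))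
  rw [Subgroup.mem_bot, ha, F.zpow_val_one]
  by_contra ha0
  refine hzK ?_
  have hxK : x ∈ K := (hP ▸ hx : x ∈ K ⊓ _).1
  rcases zm_val _ ha0 with h | h
  · rw [h, pow_one] at ha; exact ha ▸ hxK
  · rw [h] at ha
    have := K.pow_mem hxK 2
    rwa [ha, ← pow_mul, show 2 * 2 = 3 + 1 from rfl, pow_succ, F.z_cube, one_mul] at this

end Frame

namespace Mirror

variable {G : Type u} [Group G] [Finite G] {z : G} {C : Cfg z}

/-- the odd core is trivial -/
theorem oddCore_eq_bot (M : Mirror C) (F : Frame z)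
    (hwc : ∀ g : G, g * z * g⁻¹ ∈ F.Q → g * z * g⁻¹ ∈ Subgroup.zpowers z)
    (hnwc : ∃ g : G, Commute (g * z * g⁻¹) z ∧ g * z * g⁻¹ ∉ F.Q) : Cfsg.oddCore G = ⊥ := by
  refine sSup_eq_bot.mpr fun K hK => ?_
  obtain ⟨hKn, hKo⟩ := hK
  exact M.signalizer (F.normal_odd hwc hnwc (Nat.Coprime.odd_of_right hKo)) fun a _ k hk => hKn.conj_mem k hk a

end Mirror

end Cfsg.Agent.Spor.USixThree
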