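import Cfsg.Agent.Lib.Solv.EngelTwo
import Mathlib.GroupTheory.QuotientGroup.Basic
import Mathlib.GroupTheory.Commutator.Basic

/-!
A group of order prime to three acted on by an elementary abelian group of order nine two of whose
lines fix only a central involution: the fixed groups of the other two lines commute.
-/

set_option autoImplicit false
set_option linter.unusedSectionVars false
set_option linter.style.haveILetI false

namespace Cfsg.Agent.Spor.USixThree

open Cfsg.Agent.Solv.EngelTwo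

universe u

section Abstract

variable {H : Type*} [Group H] [Finite H]

theorem rc_comm_mul_left {a b c : H} (h : ∀ g : H, Commute (rc a c) g) : rc (a * b) c = rc a c * rc b c := by
  have e : rc (a * b) c = b⁻¹ * rc a c * b * rc b c := by simp only [rc]; group
  rw [e, mul_assoc b⁻¹, (h b).eq, inv_mul_cancel_left]

theorem rc_comm_mul_right {a b c : H} (h : ∀ g : H, Commute (rc a b) g) : rc a (b * c) = rc a c * rc a b := by
  have e : rc a (b * c) = rc a c * (c⁻¹ * rc a b * c) := by simp only [rc]; group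
  rw [e, mul_assoc c⁻¹, (h c).eq, inv_mul_cancel_left]

/-- the abstract form: the two fixed groups of commuting automorphisms commute -/
theorem commute_of_fpf (hH : (Nat.card H).Coprime 3) (σ τ : MulAut H) (hσ3 : ∀ x, σ (σ (σ x)) = x)
    (hτ3 : ∀ x, τ (τ (τ x)) = x) (hc : ∀ x, σ (τ x) = τ (σ x))
    (ha : ∀ x, σ (τ x) = x → x = 1) (hb : ∀ x, σ (τ (τ x)) = x → x = 1)
    {u v : H} (hu : σ u = u) (hv : τ v = v) : Commute u v := by
  have e1 := engel_of_fpf (σ.trans τ) (fun x => by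
    simp only [MulEquiv.trans_apply, hc, hσ3, hτ3]) (fun x h => ha x (by
      rw [hc]; exact h))
  have e2 := engel_of_fpf ((σ.trans τ).trans τ) (fun x => by
    simp only [MulEquiv.trans_apply, hc, hσ3, hτ3]) (fun x h => hb x (by
      simp only [MulEquiv.trans_apply, hc] at h ⊢; exact h))
  simp only [MulEquiv.trans_apply] at e1 e2
  have cube : ∀ f : H, f ^ 3 = 1 → f = 1 := fun f hf =>
    orderOf_eq_one_iff.1 (Nat.eq_one_of_dvd_coprimes hH (orderOf_dvd_natCard f)
      (orderOf_dvd_of_pow_eq_one hf))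
  have cen : ∀ x y g : H, Commute (rc x y) g := fun x y g =>
    commute_of_rc (cube _ (triple_cube e1.2 x y g))
  obtain ⟨w, hw⟩ : ∃ w, w = rc u v := ⟨_, rfl⟩
  have hmap : ∀ (φ : MulAut H) (x y : H), φ (rc x y) = rc (φ x) (φ y) := fun φ x y => by
    simp only [rc, map_mul, map_inv]
  have one_r : ∀ x : H, rc x 1 = 1 := fun x => by simp [rc]
  have one_l : ∀ x : H, rc 1 x = 1 := fun x => by simp [rc]
  have nσ : w * σ w * σ (σ w) = 1 := by
    have hs : v * σ v * σ (σ v) = 1 := by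
      have h := e1.1 v
      simpa only [← hc, hv] using h
    have := congrArg (rc u) hs
    rw [rc_comm_mul_right (fun g => cen _ _ g), rc_comm_mul_right (fun g => cen _ _ g), one_r] at this
    rw [hw, hmap, hmap, hu, hu, ← this]
    simp only [mul_assoc]
    rw [(cen u v _).eq, (cen u (σ v) _).eq, mul_assoc]
  have nτ : w * τ w * τ (τ w) = 1 := by
    have hs : u * τ u * τ (τ u) = 1 := by
      have h := e1.1 u
      rw [hu, hc, hu] at h
      exact h
    have : rc (u * τ u * τ (τ u)) v = rc 1 v := by rw [hs]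
    rw [rc_comm_mul_left (fun g => cen _ _ g), rc_comm_mul_left (fun g => cen _ _ g), one_l] at this
    rw [hw, hmap, hmap, hv, hv, ← this]
  have na := e1.1 w
  have nb := e2.1 w
  simp only [← hc, hτ3] at na nb
  -- the four norms multiply to the cube times the full norm
  have hcen : ∀ φ : MulAut H, φ w ∈ Subgroup.center H := fun φ => Subgroup.mem_center_iff.2 fun g => by
    rw [hw, hmap]; exact (cen _ _ g).eq.symm
  let c : MulAut H → Subgroup.center H := fun φ => ⟨φ w, hcen φ⟩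
  have q : ∀ (φ₁ φ₂ φ₃ : MulAut H), φ₁ w * φ₂ w * φ₃ w = 1 → c φ₁ * c φ₂ * c φ₃ = 1 :=
    fun _ _ _ h => Subtype.ext h
  have P0 := q 1 σ (σ * σ) nσ
  have P1 := q τ (τ * σ) (τ * (σ * σ)) (by
    have := congrArg τ nσ
    simpa only [map_mul, map_one, MulAut.mul_apply] using this)
  have P2 := q (τ * τ) (τ * (τ * σ)) (τ * (τ * (σ * σ))) (by
    have := congrArg (fun x => τ (τ x)) nσ
    simpa only [map_mul, map_one, MulAut.mul_apply] using this)
  have Nt := q 1 τ (τ * τ) nτ
  have Na := q 1 (τ * σ) (τ * (τ * (σ * σ))) (by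
    simpa only [MulAut.one_apply, MulAut.mul_apply, ← hc] using na)
  have Nb := q 1 (τ * (τ * σ)) (τ * (σ * σ)) (by
    simpa only [MulAut.one_apply, MulAut.mul_apply, ← hc] using nb)
  have key : c 1 * c 1 * c 1 * ((c 1 * c σ * c (σ * σ)) * (c τ * c (τ * σ) * c (τ * (σ * σ))) *
      (c (τ * τ) * c (τ * (τ * σ)) * c (τ * (τ * (σ * σ))))) =
      (c 1 * c σ * c (σ * σ)) * (c 1 * c τ * c (τ * τ)) * (c 1 * c (τ * σ) * c (τ * (τ * (σ * σ)))) *
      (c 1 * c (τ * (τ * σ)) * c (τ * (σ * σ))) := by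
    ac_rfl
  rw [P0, P1, P2, Nt, Na, Nb, one_mul, one_mul, mul_one] at key
  have h3 : w ^ 3 = 1 := by
    have := congrArg Subtype.val key
    simpa [c, pow_succ] using this
  refine commute_of_rc ?_
  rw [← hw]
  exact cube w h3

end Abstract

variable {G : Type u} [Group G] [Finite G]

/-- the fixed groups of two points commute -/
theorem pair_commute (K : Subgroup G) (z y t : G) (hK : (Nat.card K).Coprime 3) (hz3 : z ^ 3 = 1)
    (hy3 : y ^ 3 = 1) (hzy : Commute z y) (hzK : ∀ k ∈ K, z * k * z⁻¹ ∈ K) (hyK : ∀ k ∈ K, y * k * y⁻¹ ∈ K)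
    (htK : t ∈ K) (htc : ∀ k ∈ K, Commute t k) (htz : Commute t z) (hty : Commute t y) (ht2 : t * t = 1)
    (h1 : ∀ k ∈ K, Commute k (z * y) → k = 1 ∨ k = t) (h2 : ∀ k ∈ K, Commute k (z * y * y) → k = 1 ∨ k = t)
    {u v : G} (hu : u ∈ K) (hv : v ∈ K) (huz : Commute u z) (hvy : Commute v y) : Commute u v := by
  classical
  let T : Subgroup K := Subgroup.zpowers ⟨t, htK⟩
  have hTc : T ≤ Subgroup.center K := Subgroup.zpowers_le.2
    (Subgroup.mem_center_iff.2 fun k => Subtype.ext (htc k k.2).eq.symm)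
  haveI : T.Normal := ⟨fun x hx k => by
    rw [Subgroup.mem_center_iff.1 (hTc hx) k, mul_inv_cancel_right]; exact hx⟩
  have memT : ∀ {x : K}, x ∈ T → (x : G) = 1 ∨ (x : G) = t := by
    intro x hx
    obtain ⟨i, rfl⟩ := Subgroup.mem_zpowers_iff.1 hx
    rcases Int.even_or_odd i with ⟨j, rfl⟩ | ⟨j, rfl⟩
    · left
      rw [SubgroupClass.coe_zpow, ← two_mul, zpow_mul, show t ^ (2 : ℤ) = 1 by rw [zpow_two, ht2], one_zpow]
    · right
      rw [SubgroupClass.coe_zpow, zpow_add, zpow_mul, show t ^ (2 : ℤ) = 1 by rw [zpow_two, ht2], one_zpow,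
        one_mul, zpow_one]
  have mk_eq : ∀ {x x' : K}, (x : K ⧸ T) = x' → (x : G) = x' ∨ (x : G) = x' * t := by
    intro x x' h
    have h' := memT (QuotientGroup.eq.1 h.symm)
    simp only [Subgroup.coe_mul, Subgroup.coe_inv] at h'
    rcases h' with h' | h'
    · exact Or.inl (inv_mul_eq_one.1 h').symm
    · exact Or.inr (inv_mul_eq_iff_eq_mul.1 h')
  -- the induced automorphisms
  have mkAut : ∀ g : G, (∀ k ∈ K, g * k * g⁻¹ ∈ K) → Commute t g → g ^ 3 = 1 →
      ∃ φ : MulAut (K ⧸ T), ∀ (k : K) (k' : K), (k' : G) = g * k * g⁻¹ → φ (k : K ⧸ T) = (k' : K ⧸ T) := by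
    intro g hg htg hg3
    let ψ : K →* K :=
      MonoidHom.mk' (fun k => ⟨g * k * g⁻¹, hg k k.2⟩) fun a b => Subtype.ext (by
        simp only [Subgroup.coe_mul]; group)
    have hψ : Function.Bijective ψ := Finite.injective_iff_bijective.1 fun a b h =>
      Subtype.ext (mul_left_cancel (mul_right_cancel (congrArg Subtype.val h : g * a * g⁻¹ = g * b * g⁻¹)))
    have hmap : T.map (MulEquiv.ofBijective ψ hψ : K →* K) = T := by
      rw [MonoidHom.map_zpowers]
      congr 1
      exact Subtype.ext (show g * t * g⁻¹ = t by rw [htg.symm.eq, mul_inv_cancel_right])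
    refine ⟨QuotientGroup.congr T T (MulEquiv.ofBijective ψ hψ) hmap, fun k k' h => ?_⟩
    show ((ψ k : K) : K ⧸ T) = _
    rw [show ψ k = k' from Subtype.ext h.symm]
  obtain ⟨σ, hσ⟩ := mkAut z hzK htz hz3
  obtain ⟨τ, hτ⟩ := mkAut y hyK hty hy3
  let cz : K → K := fun k => ⟨z * k * z⁻¹, hzK k k.2⟩
  let cy : K → K := fun k => ⟨y * k * y⁻¹, hyK k k.2⟩
  have hσ' : ∀ k : K, σ (k : K ⧸ T) = (cz k : K ⧸ T) := fun k => hσ k _ rfl
  have hτ' : ∀ k : K, τ (k : K ⧸ T) = (cy k : K ⧸ T) := fun k => hτ k _ rfl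
  have fixed : ∀ g : G, g ^ 3 = 1 → Commute t g → ∀ k k' : K, (k' : G) = g * k * g⁻¹ →
      (k' : K ⧸ T) = k → Commute (k : G) g := by
    intro g hg3 htg k k' hk' h
    rcases mk_eq h with e | e <;> rw [hk'] at e
    · exact (mul_inv_eq_iff_eq_mul.1 e).symm
    · have ht1 : g * t * g⁻¹ = t := by rw [htg.symm.eq, mul_inv_cancel_right]
      have e2 : g * g * k * (g * g)⁻¹ = k := by
        rw [show g * g * (k : G) * (g * g)⁻¹ = g * (g * k * g⁻¹) * g⁻¹ by group, e,
          show g * ((k : G) * t) * g⁻¹ = g * k * g⁻¹ * (g * t * g⁻¹) by group, e, ht1, mul_assoc, ht2, mul_one]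
      rw [show g * g = g⁻¹ from eq_inv_of_mul_eq_one_left (by rw [← pow_two, ← pow_succ, hg3]), inv_inv] at e2
      have hc1 : Commute g⁻¹ (k : G) := mul_inv_eq_iff_eq_mul.1 (by rw [inv_inv]; exact e2)
      exact (by simpa using hc1.inv_left : Commute g (k : G)).symm
  have hfree : ∀ g : G, g ^ 3 = 1 → Commute t g → (∀ k ∈ K, Commute k g → k = 1 ∨ k = t) →
      ∀ (k k' : K), (k' : G) = g * k * g⁻¹ → (k' : K ⧸ T) = k → (k : K ⧸ T) = 1 := by
    intro g hg3 htg hg k k' hk' h
    refine (QuotientGroup.eq_one_iff k).2 ?_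
    rcases hg k k.2 (fixed g hg3 htg k k' hk' h) with e | e
    · rw [show k = 1 from Subtype.ext e]; exact T.one_mem
    · rw [show k = ⟨t, htK⟩ from Subtype.ext e]; exact Subgroup.mem_zpowers _
  have hcube : ∀ (g : G), g ^ 3 = 1 → ∀ k : G, g * (g * (g * k * g⁻¹) * g⁻¹) * g⁻¹ = k := by
    intro g hg k
    rw [show g * (g * (g * k * g⁻¹) * g⁻¹) * g⁻¹ = g ^ 3 * k * (g ^ 3)⁻¹ by
      simp only [pow_succ, pow_zero, one_mul, mul_inv_rev, mul_assoc], hg, one_mul, inv_one, mul_one]
  have hp3 : (z * y) ^ 3 = 1 := by rw [hzy.mul_pow, hz3, hy3, one_mul]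
  have hq3 : (z * y * y) ^ 3 = 1 := by rw [(hzy.mul_left (Commute.refl y)).mul_pow, hp3, hy3, one_mul]
  have hH : (Nat.card (K ⧸ T)).Coprime 3 := hK.coprime_dvd_left (Subgroup.card_quotient_dvd_card T)
  have comm : ∀ {p q : K ⧸ T}, σ p = p → τ q = q → Commute p q := fun {p q} => commute_of_fpf hH σ τ (fun x => by
      obtain ⟨k, rfl⟩ := QuotientGroup.mk_surjective x
      rw [hσ', hσ', hσ']
      exact congrArg _ (Subtype.ext (hcube z hz3 k)))
    (fun x => by
      obtain ⟨k, rfl⟩ := QuotientGroup.mk_surjective x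
      rw [hτ', hτ', hτ']
      exact congrArg _ (Subtype.ext (hcube y hy3 k)))
    (fun x => by
      obtain ⟨k, rfl⟩ := QuotientGroup.mk_surjective x
      rw [hτ', hσ', hσ', hτ']
      refine congrArg _ (Subtype.ext ?_)
      show z * (y * k * y⁻¹) * z⁻¹ = y * (z * k * z⁻¹) * y⁻¹
      rw [show z * (y * (k : G) * y⁻¹) * z⁻¹ = z * y * k * (z * y)⁻¹ by group, hzy.eq]
      group)
    (fun x hx => by
      obtain ⟨k, rfl⟩ := QuotientGroup.mk_surjective x
      rw [hτ', hσ'] at hx
      exact hfree (z * y) hp3 (htz.mul_right hty) h1 k _ (by show z * (y * k * y⁻¹) * z⁻¹ = _; group) hx)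
    (fun x hx => by
      obtain ⟨k, rfl⟩ := QuotientGroup.mk_surjective x
      rw [hτ', hτ', hσ'] at hx
      exact hfree (z * y * y) hq3 ((htz.mul_right hty).mul_right hty) h2 k _
        (by show z * (y * (y * k * y⁻¹) * y⁻¹) * z⁻¹ = _; group) hx)
  -- the commutator lies in the central group
  have hcomm : ∀ a b : K, Commute (a : G) z → Commute (b : G) y → rc a b ∈ T := by
    intro a b ha hb
    have hq : Commute (a : K ⧸ T) (b : K ⧸ T) := by
      refine comm ?_ ?_
      · rw [hσ']; exact congrArg _ (Subtype.ext (show z * a * z⁻¹ = a by rw [ha.symm.eq, mul_inv_cancel_right]))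
      · rw [hτ']; exact congrArg _ (Subtype.ext (show y * b * y⁻¹ = b by rw [hb.symm.eq, mul_inv_cancel_right]))
    rw [← QuotientGroup.eq_one_iff]
    have := rc_eq_one hq
    simpa [rc] using this
  let a : K := ⟨u, hu⟩
  let b : K := ⟨v, hv⟩
  have hbz : ∀ c : K, Commute (c : G) y → Commute (cz c : G) y := by
    intro c hc
    show Commute (z * c * z⁻¹) y
    exact (hzy.mul_left hc).mul_left hzy.inv_left
  have hcz : ∀ c : K, cz (rc a c) = rc a (cz c) := by
    intro c
    refine Subtype.ext ?_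
    have e : z * u * z⁻¹ = u := by rw [huz.symm.eq, mul_inv_cancel_right]
    have e' : z * u⁻¹ * z⁻¹ = u⁻¹ := by rw [huz.inv_left.symm.eq, mul_inv_cancel_right]
    simp only [cz, rc, Subgroup.coe_mul, Subgroup.coe_inv, a]
    calc z * (u⁻¹ * (c : G)⁻¹ * u * c) * z⁻¹
        = z * u⁻¹ * z⁻¹ * (z * c * z⁻¹)⁻¹ * (z * u * z⁻¹) * (z * c * z⁻¹) := by group
      _ = _ := by rw [e, e']
  have hfixT : ∀ x ∈ T, cz x = x := fun x hx => Subtype.ext (by
    show z * x * z⁻¹ = x
    rcases memT hx with e | e <;> rw [e]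
    · group
    · rw [htz.symm.eq, mul_inv_cancel_right])
  have hT := hcomm a b huz hvy
  have hrc : ∀ c : K, Commute (c : G) y → ∀ g : K, Commute (rc a c) g := fun c hc g =>
    (Subgroup.mem_center_iff.1 (hTc (hcomm a c huz hc)) g).symm
  have e1 : rc a (cz b) = rc a b := by rw [← hcz, hfixT _ hT]
  have e2 : rc a (cz (cz b)) = rc a b := by rw [← hcz, e1, hfixT _ hT]
  -- the orbit product of `b` is central
  have horb : b * cz b * cz (cz b) ∈ T := by
    rw [← QuotientGroup.eq_one_iff, QuotientGroup.mk_mul, QuotientGroup.mk_mul, ← hσ', ← hσ']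
    have hb' : τ (b : K ⧸ T) = b := by
      rw [hτ']; exact congrArg _ (Subtype.ext (show y * v * y⁻¹ = v by rw [hvy.symm.eq, mul_inv_cancel_right]))
    have hfp : ∀ x, (σ.trans τ) x = x → x = 1 := fun x hx => by
      obtain ⟨k, rfl⟩ := QuotientGroup.mk_surjective x
      simp only [MulEquiv.trans_apply] at hx
      rw [hσ', hτ'] at hx
      refine hfree (z * y) hp3 (htz.mul_right hty) h1 k _ ?_ hx
      show y * (z * k * z⁻¹) * y⁻¹ = _
      rw [show y * (z * (k : G) * z⁻¹) * y⁻¹ = y * z * k * (y * z)⁻¹ by group, ← hzy.eq]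
    have hcc : ∀ x, σ (τ x) = τ (σ x) := fun x => by
      obtain ⟨k, rfl⟩ := QuotientGroup.mk_surjective x
      rw [hτ', hσ', hσ', hτ']
      refine congrArg _ (Subtype.ext ?_)
      show z * (y * k * y⁻¹) * z⁻¹ = y * (z * k * z⁻¹) * y⁻¹
      rw [show z * (y * (k : G) * y⁻¹) * z⁻¹ = z * y * k * (z * y)⁻¹ by group, hzy.eq]
      group
    have h3 : ∀ x, (σ.trans τ) ((σ.trans τ) ((σ.trans τ) x)) = x := fun x => by
      obtain ⟨k, rfl⟩ := QuotientGroup.mk_surjective x
      simp only [MulEquiv.trans_apply, hσ', hτ']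
      refine congrArg _ (Subtype.ext ?_)
      show y * (z * (y * (z * (y * (z * k * z⁻¹) * y⁻¹) * z⁻¹) * y⁻¹) * z⁻¹) * y⁻¹ = k
      rw [show y * (z * (y * (z * (y * (z * (k : G) * z⁻¹) * y⁻¹) * z⁻¹) * y⁻¹) * z⁻¹) * y⁻¹ =
        (y * z) ^ 3 * k * ((y * z) ^ 3)⁻¹ by simp only [pow_succ, pow_zero, one_mul, mul_inv_rev, mul_assoc],
        hzy.symm.mul_pow, hz3, hy3]
      group
    have h := (engel_of_fpf (σ.trans τ) h3 hfp).1 (b : K ⧸ T)
    simp only [MulEquiv.trans_apply, ← hcc, hb'] at h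
    simpa only [← hσ'] using h
  have e3 : rc a (b * cz b * cz (cz b)) = 1 := by
    refine rc_eq_one ?_
    exact Subgroup.mem_center_iff.1 (hTc horb) a
  rw [rc_comm_mul_right (hrc (b * cz b) (by
      exact (show Commute ((b : G) * (cz b : G)) y from Commute.mul_left hvy (hbz b hvy)))),
    rc_comm_mul_right (hrc b hvy), e1, e2] at e3
  refine commute_of_rc ?_
  have hrt : (rc a b : K) = 1 := by
    rcases memT hT with e | e
    · exact Subtype.ext e
    · have h' := congrArg Subtype.val e3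
      simp only [Subgroup.coe_mul, Subgroup.coe_one, e, ht2] at h'
      exact Subtype.ext (e.trans (by simpa using h'))
  have := congrArg Subtype.val hrt
  simpa [rc, a, b] using this

end Cfsg.Agent.Spor.USixThree
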