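import Cfsg.Agent.Lib.Spor.USixThree.Config

/-!
The elementary abelian group of order 81 spanned by two commuting conjugates, its ten points, and its
centraliser.
-/

set_option autoImplicit false
set_option linter.unusedSectionVars false

set_option synthInstance.maxSize 2000
set_option synthInstance.maxHeartbeats 200000
set_option maxRecDepth 100000
set_option maxHeartbeats 400000

namespace Cfsg.Agent.Spor.USixThree

universe u

theorem stab_axis : ∀ a : S, a.Cube → a ≠ S.one → ∀ c : S, ∀ p : ZMod 3 × ZMod 3, a.app p ≠ p →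
    c.app (a.app p - p) = a.app p - p → ∃ i, c = a.pw i := by
  decide +kernel

theorem orient_pw : ∀ a b : S, a.Cube → b.Cube → a ≠ S.one → b ≠ S.one → a.orient = b.orient →
    ∀ i k : ZMod 3, i ≠ 0 → k ≠ 0 → (a.pw i).orient = (b.pw k).orient → i = k := by
  decide +kernel

variable {G : Type u} [Group G]

/-- three elements with commuting powers -/
theorem pow_three_split {d z y : G} (h1 : Commute d z) (h2 : Commute d y) (h3 : Commute z y) (n : ℕ) (a b : ℕ) :
    (d * z ^ a * y ^ b) ^ n = d ^ n * z ^ (a * n) * y ^ (b * n) := by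
  rw [((h2.pow_right b).mul_left (h3.pow_pow a b)).mul_pow, ((h1.pow_right a)).mul_pow, pow_mul, pow_mul]

namespace Link

variable {z y : G} {C : Cfg z} {D : Cfg y} (L : Link C D)
include L

theorem D_comm {d e : G} (hd : d ∈ C.Q) (hd' : d ∈ D.Q) (he : e ∈ C.Q) (he' : e ∈ D.Q) : Commute d e :=
  L.commute_W hd he (D.QC d hd') (D.QC e he')

/-- the group `A` -/
def A : Subgroup G where
  carrier := {x | ∃ d : G, ∃ j m : ZMod 3, d ∈ C.Q ∧ d ∈ D.Q ∧ x = d * z ^ j.val * y ^ m.val}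
  one_mem' := ⟨1, 0, 0, C.Q.one_mem, D.Q.one_mem, by simp⟩
  mul_mem' := by
    rintro _ _ ⟨d, j, m, hd, hd', rfl⟩ ⟨e, j', m', he, he', rfl⟩
    refine ⟨d * e, j + j', m + m', C.Q.mul_mem hd he, D.Q.mul_mem hd' he', ?_⟩
    rw [C.toFrame.zpow_val_add, D.toFrame.zpow_val_add]
    have c1 : Commute (y ^ m.val) e := ((D.QC e he').symm).pow_left _
    have c2 : Commute (z ^ j.val) e := ((C.QC e he).symm).pow_left _
    have c3 : Commute (y ^ m.val) (z ^ j'.val) := (L.comm.symm).pow_pow _ _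
    calc d * z ^ j.val * y ^ m.val * (e * z ^ j'.val * y ^ m'.val)
        = d * z ^ j.val * (y ^ m.val * e) * z ^ j'.val * y ^ m'.val := by group
      _ = d * (z ^ j.val * e) * (y ^ m.val * z ^ j'.val) * y ^ m'.val := by rw [c1.eq]; group
      _ = _ := by rw [c2.eq, c3.eq]; group
  inv_mem' := by
    rintro _ ⟨d, j, m, hd, hd', rfl⟩
    refine ⟨d⁻¹, -j, -m, C.Q.inv_mem hd, D.Q.inv_mem hd', ?_⟩
    rw [C.toFrame.zpow_val_neg, D.toFrame.zpow_val_neg, mul_inv_rev, mul_inv_rev]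
    have c1 : Commute (y ^ m.val)⁻¹ ((z ^ j.val)⁻¹) := ((L.comm.symm).pow_pow _ _).inv_inv
    have c2 : Commute ((z ^ j.val)⁻¹) d⁻¹ := (((C.QC d hd).symm).pow_left _).inv_inv
    have c3 : Commute (y ^ m.val)⁻¹ d⁻¹ := (((D.QC d hd').symm).pow_left _).inv_inv
    rw [← mul_assoc, c1.eq, mul_assoc, c3.eq, ← mul_assoc, c2.eq]

theorem mem_A {x : G} : x ∈ L.A ↔ ∃ d : G, ∃ j m : ZMod 3, d ∈ C.Q ∧ d ∈ D.Q ∧ x = d * z ^ j.val * y ^ m.val :=
  Iff.rfl

theorem z_mem_A : z ∈ L.A := ⟨1, 1, 0, C.Q.one_mem, D.Q.one_mem, by simp [show (1 : ZMod 3).val = 1 from rfl]⟩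

theorem y_mem_A : y ∈ L.A := ⟨1, 0, 1, C.Q.one_mem, D.Q.one_mem, by simp [show (1 : ZMod 3).val = 1 from rfl]⟩

theorem inter_mem_A {d : G} (hd : d ∈ C.Q) (hd' : d ∈ D.Q) : d ∈ L.A := ⟨d, 0, 0, hd, hd', by simp⟩

theorem A_comm {x w : G} (hx : x ∈ L.A) (hw : w ∈ L.A) : Commute x w := by
  obtain ⟨d, j, m, hd, hd', rfl⟩ := hx
  obtain ⟨e, j', m', he, he', rfl⟩ := hw
  have hde := L.D_comm hd hd' he he'
  have g1 : ∀ v, Commute v e → Commute v z → Commute v y → Commute v (e * z ^ j'.val * y ^ m'.val) :=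
    fun v a b c => (a.mul_right (b.pow_right _)).mul_right (c.pow_right _)
  exact ((g1 d hde (C.QC d hd) (D.QC d hd')).mul_left
    ((g1 z (C.QC e he).symm (Commute.refl z) L.comm).pow_left _)).mul_left
      ((g1 y (D.QC e he').symm L.comm.symm (Commute.refl y)).pow_left _)

theorem A_cube {x : G} (hx : x ∈ L.A) : x ^ 3 = 1 := by
  obtain ⟨d, j, m, hd, hd', rfl⟩ := hx
  rw [pow_three_split (C.QC d hd) (D.QC d hd') L.comm, C.toFrame.cube hd, mul_comm j.val 3, mul_comm m.val 3,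
    pow_mul, pow_mul, C.toFrame.z_cube, D.toFrame.z_cube]
  simp

theorem A_le {x : G} (hx : x ∈ L.A) : Commute x z := L.A_comm hx L.z_mem_A

theorem W_mem_A {x : G} (hx : x ∈ C.Q) (hxy : Commute x y) : x ∈ L.A := by
  obtain ⟨j, hj⟩ := L.commute_split hx hxy
  refine ⟨x * z ^ j.val, -j, 0, C.Q.mul_mem hx (C.toFrame.zpow_mem j), hj, ?_⟩
  rw [mul_assoc x, ← C.toFrame.zpow_val_add, add_neg_cancel]
  simp

/-- every element of the common part is a displacement -/
theorem exists_disp {d : G} (hd : d ∈ C.Q) (hd' : d ∈ D.Q) :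
    ∃ x ∈ C.Q, ∃ j : ZMod 3, x⁻¹ * y * x = y * (d * z ^ j.val) := by
  obtain ⟨a, b, e, ha, hb, -, -, xL, xR, hxL, hxR, p, q, eL, eR, -, -, -, -, wL, wR, -, -, hspan⟩ := L.axes
  obtain ⟨m, n, hmn⟩ := hspan (C.ν d) (L.fixed_of_commute hd (D.QC d hd'))
  obtain ⟨x, hx, ex⟩ := C.ν_surj (m • C.ν xL + n • C.ν xR)
  obtain ⟨d', j, h1, h2, h3, h4⟩ := L.disp_split hx
  refine ⟨x, hx, j, ?_⟩
  rw [L.inter_eq hd hd' h1 h2]
  · exact h4
  rw [h3, ex, hmn, ← wL, ← wR, (L.disp hxL).2.1, (L.disp hxR).2.1, act_add, act_smul, act_smul, smul_sub, smul_sub]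
  abel

/-- a conjugate in `y ^ m * ⟨z⟩` lies in `⟨y⟩` -/
theorem point_zero {m k : ZMod 3} (hm : m ≠ 0) (h : IsConj z (y ^ m.val * z ^ k.val)) : k = 0 := by
  by_contra hk
  obtain ⟨-, hexp⟩ := L.orient_and_exponents
  have hnz : ∀ k m : ZMod 3, k ≠ 0 → m ≠ 0 → -k * m⁻¹ ≠ 0 := by decide +kernel
  obtain ⟨x, hx, d, hd, hd', hν, hcj⟩ := hexp (-k * m⁻¹) (hnz k m hk hm)
  have hzx : x⁻¹ * z ^ k.val * x = z ^ k.val := by
    rw [((C.QC x hx).inv_left.pow_right k.val).eq]; group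
  have e : x⁻¹ * (y ^ m.val * z ^ k.val) * x = y ^ m.val * d ^ m.val := by
    have hp : x⁻¹ * y ^ m.val * x = (y * (d * z ^ (-k * m⁻¹).val)) ^ m.val := by
      have h' := conj_pow (a := x⁻¹) (b := y) (i := m.val)
      rw [inv_inv, hcj] at h'
      exact h'.symm
    have c1 : Commute y (d * z ^ (-k * m⁻¹).val) := (D.QC d hd').symm.mul_right (L.comm.symm.pow_right _)
    calc x⁻¹ * (y ^ m.val * z ^ k.val) * x = x⁻¹ * y ^ m.val * x * (x⁻¹ * z ^ k.val * x) := by group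
      _ = y ^ m.val * d ^ m.val * ((z ^ (-k * m⁻¹).val) ^ m.val * z ^ k.val) := by
        rw [hp, hzx, c1.mul_pow, ((C.QC d hd).pow_right _).mul_pow]; simp only [mul_assoc]
      _ = _ := by
        rw [← pow_mul, ← pow_add]
        have : ((-k * m⁻¹).val * m.val + k.val) % 3 = 0 := by
          revert hm; clear hk h hzx hp c1 hcj; revert k m; decide +kernel
        rw [← pow_mod_orderOf z, C.hz, this, pow_zero, mul_one]
  have hm' := D.conj_mem (L.conj.symm.trans (h.trans (isConj_iff.mpr ⟨x⁻¹, by rw [inv_inv]; exact e⟩)))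
    (D.Q.mul_mem (D.toFrame.zpow_mem m) (D.Q.pow_mem hd' _))
  obtain ⟨l, hl⟩ := D.toFrame.mem_zpowers.mp hm'
  have hdm : d ^ m.val = y ^ (l - m).val := by
    rw [sub_eq_add_neg, add_comm, D.toFrame.zpow_val_add, D.toFrame.zpow_val_neg, ← hl, inv_mul_cancel_left]
  have hlm : l - m = 0 := by
    by_contra h0
    refine L.out ?_
    have e2 : (y ^ (l - m).val) ^ (l - m).val = y := by
      rw [← pow_mul]
      conv_rhs => rw [← pow_one y]
      rw [pow_inj_mod, D.hz]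
      have : ∀ a : ZMod 3, a ≠ 0 → a.val * a.val % 3 = 1 % 3 := by decide
      exact this _ h0
    rw [← e2, ← hdm]
    exact C.Q.pow_mem (C.Q.pow_mem hd _) _
  rw [hlm] at hdm
  refine hν ?_
  have h' := C.toFrame.ν_pow hd m.val
  rw [hdm, ZMod.val_zero, pow_zero, C.toFrame.ν_one, ← Nat.cast_smul_eq_nsmul (ZMod 3),
    ZMod.natCast_zmod_val] at h'
  exact (smul_eq_zero.mp h'.symm).resolve_left hm

/-- the conjugates in `A` -/
theorem points {p : G} (hp : p ∈ L.A) (h : IsConj z p) :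
    p ∈ Subgroup.zpowers z ∨ ∃ x ∈ C.Q, ∃ m : ZMod 3, m ≠ 0 ∧ p = (x⁻¹ * y * x) ^ m.val := by
  obtain ⟨d, j, m, hd, hd', rfl⟩ := hp
  by_cases hm : m = 0
  · subst hm
    refine Or.inl (C.conj_mem h ?_)
    simpa using C.Q.mul_mem hd (C.toFrame.zpow_mem j)
  refine Or.inr ?_
  obtain ⟨x, hx, e, hx'⟩ := L.exists_disp (C.Q.pow_mem hd m.val) (D.Q.pow_mem hd' m.val)
  have hc : (x⁻¹ * y * x) ^ m.val = d * z ^ (e * m).val * y ^ m.val := by
    have c1 : Commute y (d ^ m.val * z ^ e.val) :=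
      ((D.QC d hd').symm.pow_right _).mul_right (L.comm.symm.pow_right _)
    rw [hx', c1.mul_pow, (((C.QC d hd).pow_left _).pow_right _).mul_pow, ← pow_mul, ← pow_mul]
    have e1 : d ^ (m.val * m.val) = d := by
      conv_rhs => rw [← pow_one d]
      by_cases hd1 : d = 1
      · simp [hd1]
      have hsq : ∀ a : ZMod 3, a ≠ 0 → a.val * a.val % 3 = 1 % 3 := by decide
      have hd3 : orderOf d = 3 :=
        @orderOf_eq_prime _ _ _ _ ⟨Nat.prime_three⟩ (C.toFrame.cube hd) hd1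
      rw [pow_inj_mod, hd3]
      exact hsq _ hm
    have e2 : z ^ (e.val * m.val) = z ^ (e * m).val := by
      rw [pow_inj_mod, C.hz, ZMod.val_mul, Nat.mod_mod]
    rw [e1, e2, ((D.QC d hd').symm.pow_left m.val).mul_right ((L.comm.symm).pow_pow m.val (e * m).val) |>.eq]
  have hsplit : d * z ^ j.val * y ^ m.val = (x⁻¹ * y * x) ^ m.val * z ^ (j - e * m).val := by
    rw [hc, mul_assoc (d * z ^ (e * m).val), (L.comm.symm.pow_pow m.val (j - e * m).val).eq, ← mul_assoc,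
      mul_assoc d (z ^ (e * m).val), ← C.toFrame.zpow_val_add, add_sub_cancel]
  have hzero : j - e * m = 0 := by
    refine L.point_zero hm (h.trans (isConj_iff.mpr ⟨x, ?_⟩))
    rw [hsplit]
    have hz' : x * z ^ (j - e * m).val * x⁻¹ = z ^ (j - e * m).val := by
      rw [((C.QC x hx).pow_right _).eq, mul_inv_cancel_right]
    calc x * ((x⁻¹ * y * x) ^ m.val * z ^ (j - e * m).val) * x⁻¹
        = x * (x⁻¹ * y * x) ^ m.val * x⁻¹ * (x * z ^ (j - e * m).val * x⁻¹) := by group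
      _ = _ := by
        rw [← conj_pow, hz']; congr 2; group
  refine ⟨x, hx, m, hm, ?_⟩
  rw [hsplit, hzero]
  simp

theorem conj_point_mem {x : G} (hx : x ∈ C.Q) : x⁻¹ * y * x ∈ L.A := by
  obtain ⟨d, j, hd, hd', -, h⟩ := L.disp_split hx
  rw [h]
  exact L.A.mul_mem L.y_mem_A (L.A.mul_mem (L.inter_mem_A hd hd') (Subgroup.pow_mem _ L.z_mem_A _))

/-- the extraspecial group normalises `A` -/
theorem Q_normalises {x a : G} (hx : x ∈ C.Q) (ha : a ∈ L.A) : x⁻¹ * a * x ∈ L.A := by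
  obtain ⟨d, j, m, hd, hd', rfl⟩ := ha
  have hd2 : x⁻¹ * d * x ∈ L.A := by
    have := C.toFrame.conj_eq (C.Q.inv_mem hx) hd
    rw [inv_inv] at this
    rw [this]
    exact L.A.mul_mem (Subgroup.pow_mem _ L.z_mem_A _) (L.inter_mem_A hd hd')
  have hz2 : x⁻¹ * z ^ j.val * x = z ^ j.val := by
    rw [((C.QC x hx).inv_left.pow_right j.val).eq]; group
  have hy2 : x⁻¹ * y ^ m.val * x = (x⁻¹ * y * x) ^ m.val := by
    have h' := conj_pow (a := x⁻¹) (b := y) (i := m.val)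
    rw [inv_inv] at h'
    exact h'.symm
  rw [show x⁻¹ * (d * z ^ j.val * y ^ m.val) * x =
    (x⁻¹ * d * x) * (x⁻¹ * z ^ j.val * x) * (x⁻¹ * y ^ m.val * x) by group, hz2, hy2]
  exact L.A.mul_mem (L.A.mul_mem hd2 (Subgroup.pow_mem _ L.z_mem_A _))
    (Subgroup.pow_mem _ (L.conj_point_mem hx) _)

/-- the top of an element centralising `A` -/
theorem cent_top {c : G} (hc : ∀ w ∈ L.A, Commute c w) {a b : S} (e : C.top y = (false, a, b)) :
    ∃ i k : ZMod 3, C.top c = (false, a.pw i, b.pw k) := by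
  obtain ⟨a', b', e', ha, hb, ha1, hb1, xL, xR, hxL, hxR, p, q, eL, eR, -, -, -, -, wL, wR, hpne, hqne, -⟩ := L.axes
  rw [e] at e'
  simp only [Prod.mk.injEq, true_and] at e'
  obtain ⟨rfl, rfl⟩ := e'
  have hfix : ∀ x ∈ C.Q, act (C.top c) (C.ν (x⁻¹ * (y * x * y⁻¹))) = C.ν (x⁻¹ * (y * x * y⁻¹)) := by
    intro x hx
    obtain ⟨hm, -, hcy, -⟩ := L.disp hx
    rw [← C.ν_act c (hc z L.z_mem_A) _ hm]
    congr 1
    rw [(hc _ (L.W_mem_A hm hcy)).eq, mul_inv_cancel_right]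
  have hL := hfix xL hxL
  have hR := hfix xR hxR
  rw [wL] at hL
  rw [wR] at hR
  rcases h : C.top c with ⟨t, c1, c2⟩
  rw [h] at hL hR
  cases t
  · rw [act_inL] at hL
    rw [act_inR] at hR
    have h1 : c1.app (a.app p - p) = a.app p - p := Prod.ext (by
      have := congrFun hL 0; simpa [inL] using this) (by have := congrFun hL 1; simpa [inL] using this)
    have h2 : c2.app (b.app q - q) = b.app q - q := Prod.ext (by
      have := congrFun hR 2; simpa [inR] using this) (by have := congrFun hR 3; simpa [inR] using this)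
    obtain ⟨i, rfl⟩ := stab_axis a ha ha1 c1 p hpne h1
    obtain ⟨k, rfl⟩ := stab_axis b hb hb1 c2 q hqne h2
    exact ⟨i, k, rfl⟩
  · exfalso
    have h0 := congrFun hL 0
    have h1 := congrFun hL 1
    simp [act, inL] at h0 h1
    exact hpne (Prod.ext (sub_eq_zero.mp h0.symm) (sub_eq_zero.mp h1.symm))

theorem pow_top_y {a b : S} (e : C.top y = (false, a, b)) (j : ZMod 3) :
    C.top (y ^ j.val) = (false, a.pw j, b.pw j) := by
  by_cases hj : j = 0
  · subst hj; rw [ZMod.val_zero, pow_zero, C.toFrame.top_one]; rfl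
  rcases zm_one j hj with rfl | rfl
  · rw [show (1 : ZMod 3).val = 1 from rfl, pow_one, e]; rfl
  · rw [show (2 : ZMod 3).val = 2 from rfl, pow_two, C.toFrame.pow_top L.comm.symm e]; rfl

/-- with equal exponents it lies in `A` -/
theorem cent_diag {c : G} (hc : ∀ w ∈ L.A, Commute c w) {a b : S} (e : C.top y = (false, a, b)) {i : ZMod 3}
    (h : C.top c = (false, a.pw i, b.pw i)) : c ∈ L.A := by
  obtain ⟨a', b', e', ha, hb, -, -⟩ := L.top_pair
  rw [e] at e'
  simp only [Prod.mk.injEq, true_and] at e'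
  obtain ⟨rfl, rfl⟩ := e'
  have hcz := hc z L.z_mem_A
  have hcy := hc y L.y_mem_A
  have hy : Commute (y ^ (-i).val) z := L.comm.symm.pow_left _
  have hm : c * y ^ (-i).val ∈ C.Q := (C.toFrame.mem_Q_iff (hcz.mul_left hy)).mpr (by
    rw [C.toFrame.top_mul hcz hy, h, L.pow_top_y e]
    simp only [Top.mul, S.pw_add a ha, S.pw_add b hb, add_neg_cancel]
    rfl)
  have := L.A.mul_mem (L.W_mem_A hm (hcy.mul_left ((Commute.refl y).pow_left _)))
    (Subgroup.pow_mem _ L.y_mem_A i.val)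
  rwa [mul_assoc, ← D.toFrame.zpow_val_add, neg_add_cancel, ZMod.val_zero, pow_zero, mul_one] at this

/-- conjugates centralising `A` lie in it -/
theorem cent_conj_mem {p : G} (hc : ∀ w ∈ L.A, Commute p w) (hp : IsConj z p) : p ∈ L.A := by
  by_cases hQ : p ∈ C.Q
  · exact L.W_mem_A hQ (hc y L.y_mem_A)
  obtain ⟨g, rfl⟩ := isConj_iff.mp hp
  have L' : Link C (C.conj g) := ⟨hp, (hc z L.z_mem_A).symm, hQ⟩
  obtain ⟨a, b, e, ha, hb, ha1, hb1⟩ := L.top_pair
  obtain ⟨i, k, h⟩ := L.cent_top hc e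
  have ho := L'.orient_and_exponents.1
  have hns := L'.not_oneSided
  rw [OneSided, h] at hns
  rw [h] at ho
  push Not at hns
  have hoy := L.orient_and_exponents.1
  rw [e] at hoy
  simp only at hns ho hoy
  have := orient_pw a b ha hb ha1 hb1 hoy i k (fun e => hns.1 (by rw [e]; rfl)) (fun e => hns.2 (by rw [e]; rfl)) ho
  subst this
  exact L.cent_diag hc e h

/-- correcting an element of the centraliser of `z` to centralise `A` -/
theorem exists_cent {c : G} (hcz : Commute c z) {a b : S} (e : C.top y = (false, a, b)) {i k : ZMod 3}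
    (h : C.top c = (false, a.pw i, b.pw k)) : ∃ q ∈ C.Q, ∀ w ∈ L.A, Commute (c * q) w := by
  obtain ⟨a', b', e', ha, hb, ha1, hb1, xL, xR, hxL, hxR, p, q, eL, eR, hp, hq, hpo, hqo, wL, wR, hpne, hqne, hspan⟩ :=
    L.axes
  rw [e] at e'
  simp only [Prod.mk.injEq, true_and] at e'
  obtain ⟨rfl, rfl⟩ := e'
  have pfix : ∀ a : S, a.Cube → ∀ i : ZMod 3, ∀ p : ZMod 3 × ZMod 3,
      (a.pw i).app (a.app p - p) = a.app p - p := by decide +kernel
  have hfixv : ∀ v, act (C.top y) v = v → act (C.top c) v = v := by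
    intro v hv
    obtain ⟨m, n, rfl⟩ := hspan v hv
    rw [h, act_add, act_smul, act_smul, act_inL, act_inR, pfix a ha, pfix b hb]
  obtain ⟨mL, -, cL, -⟩ := L.disp hxL
  obtain ⟨mR, -, cR, -⟩ := L.disp hxR
  obtain ⟨uL, huL⟩ : ∃ u, u = xL⁻¹ * (y * xL * y⁻¹) := ⟨_, rfl⟩
  obtain ⟨uR, huR⟩ : ∃ u, u = xR⁻¹ * (y * xR * y⁻¹) := ⟨_, rfl⟩
  rw [← huL] at mL cL wL
  rw [← huR] at mR cR wR
  obtain ⟨lL, hlL⟩ := C.toFrame.conj_comm hcz mL (hfixv _ (L.fixed_of_commute mL cL))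
  obtain ⟨lR, hlR⟩ := C.toFrame.conj_comm hcz mR (hfixv _ (L.fixed_of_commute mR cR))
  -- an inner correction
  obtain ⟨q0, hq0, eq0⟩ := C.ν_surj ((-lL * a.orient⁻¹) • C.ν xL + (-lR * b.orient⁻¹) • C.ν xR)
  have hLL : B (C.ν xL) (C.ν uL) = a.orient := by rw [eL, wL, ← hp]; simp [B, inL, det2]; ring
  have hRR : B (C.ν xR) (C.ν uR) = b.orient := by rw [eR, wR, ← hq]; simp [B, inR, det2]; ring
  have hLR : B (C.ν xL) (C.ν uR) = 0 := by rw [eL, wR]; simp [B, inL, inR]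
  have hRL : B (C.ν xR) (C.ν uL) = 0 := by rw [eR, wL]; simp [B, inL, inR]
  have Blin : ∀ (s t : ZMod 3) (u v w : V), B (s • u + t • v) w = s * B u w + t * B v w := by
    intro s t u v w; simp [B]; ring
  have hinv : ∀ o l : ZMod 3, o ≠ 0 → -l * o⁻¹ * o = -l := by decide +kernel
  have fixes : ∀ u ∈ C.Q, ∀ l : ZMod 3, c * u * c⁻¹ = u * z ^ l.val → B (C.ν q0) (C.ν u) = -l →
      Commute (c * q0) u := by
    intro u hu l hl hB
    rw [commute_iff_eq, ← mul_inv_eq_iff_eq_mul]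
    calc c * q0 * u * (c * q0)⁻¹ = c * (q0 * u * q0⁻¹) * c⁻¹ := by group
      _ = c * z ^ (-l).val * c⁻¹ * (c * u * c⁻¹) := by rw [C.toFrame.conj_eq hq0 hu, hB]; group
      _ = u * (z ^ l.val * z ^ (-l).val) := by
        rw [(hcz.pow_right (-l).val).eq, mul_inv_cancel_right, hl, ← mul_assoc,
          ((C.QC u hu).pow_right (-l).val).symm.eq, mul_assoc, (Commute.pow_pow (Commute.refl z) _ _).eq]
      _ = u := by rw [← C.toFrame.zpow_val_add, add_neg_cancel]; simp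
  have fL : Commute (c * q0) uL :=
    fixes uL mL lL hlL (by rw [eq0, Blin, hLL, hRL, hinv _ _ hpo]; ring)
  have fR : Commute (c * q0) uR :=
    fixes uR mR lR hlR (by rw [eq0, Blin, hLR, hRR, hinv _ _ hqo]; ring)
  have hcz' : Commute (c * q0) z := hcz.mul_left (C.QC q0 hq0)
  have fW : ∀ u ∈ C.Q, Commute u y → Commute (c * q0) u := by
    intro u hu huy
    obtain ⟨m, n, hmn⟩ := hspan (C.ν u) (L.fixed_of_commute hu huy)
    have hm := C.Q.mul_mem (C.Q.pow_mem mL m.val) (C.Q.pow_mem mR n.val)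
    obtain ⟨l, rfl⟩ := (C.toFrame.ν_eq hu hm).mp (by
      rw [C.ν_mul _ (C.Q.pow_mem mL _) _ (C.Q.pow_mem mR _), C.toFrame.ν_pow mL, C.toFrame.ν_pow mR, wL, wR, hmn,
        ← Nat.cast_smul_eq_nsmul (ZMod 3), ← Nat.cast_smul_eq_nsmul (ZMod 3), ZMod.natCast_zmod_val,
        ZMod.natCast_zmod_val])
    exact ((fL.pow_right _).mul_right (fR.pow_right _)).mul_right (hcz'.pow_right _)
  -- the image of `y` is a point of `A`
  obtain ⟨c', hc'⟩ : ∃ c', c' = c * q0 := ⟨_, rfl⟩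
  rw [← hc'] at fW hcz'
  have htop : C.top c' = (false, a.pw i, b.pw k) := by
    rw [hc', C.toFrame.top_mul hcz (C.QC q0 hq0), C.toFrame.top_Q hq0, h]
    simp only [Top.mul, Top.one, (S_mul_one _).1]
  have hty : C.top (c' * y * c'⁻¹) = C.top y := by
    have e1 : C.top (c' * y) = C.top (y * c') := by
      rw [C.toFrame.top_mul hcz' L.comm.symm, C.toFrame.top_mul L.comm.symm hcz', htop, e]
      have : ∀ a : S, a.Cube → ∀ i, (a.pw i).mul a = a.mul (a.pw i) := by decide +kernel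
      simp only [Top.mul, this a ha, this b hb]
    rw [C.toFrame.top_mul (hcz'.mul_left L.comm.symm) hcz'.inv_left, e1,
      ← C.toFrame.top_mul (L.comm.symm.mul_left hcz') hcz'.inv_left, mul_inv_cancel_right]
  have hy'z : Commute (c' * y * c'⁻¹) z := (hcz'.mul_left L.comm.symm).mul_left hcz'.inv_left
  obtain ⟨u, hu⟩ : ∃ u, u = y⁻¹ * (c' * y * c'⁻¹) := ⟨_, rfl⟩
  have huQ : u ∈ C.Q := by
    rw [hu, C.toFrame.mem_Q_iff (L.comm.symm.inv_left.mul_left hy'z), C.toFrame.top_mul L.comm.symm.inv_left hy'z,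
      hty, ← C.toFrame.top_mul L.comm.symm.inv_left L.comm.symm, inv_mul_cancel, C.toFrame.top_one]
  -- it commutes with the fixed group, so lies in it
  have hself : ∀ w, w ∈ C.Q → Commute w y → Commute u w := by
    intro w hw hwy
    have h1 : Commute (c' * y * c'⁻¹) w :=
      ((fW w hw hwy).mul_left hwy.symm).mul_left (fW w hw hwy).inv_left
    rw [hu]
    exact hwy.symm.inv_left.mul_left h1
  have huy : Commute u y := by
    refine L.commute_of_fixed huQ ?_
    have bL := (C.toFrame.commute_iff huQ mL).mp (hself uL mL cL)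
    have bR := (C.toFrame.commute_iff huQ mR).mp (hself uR mR cR)
    rw [wL] at bL
    rw [wR] at bR
    have lag : ∀ a : S, a.Cube → ∀ p x : ZMod 3 × ZMod 3, a.app p ≠ p →
        det2 x (a.app p - p) = 0 → a.app x = x := by decide +kernel
    have h1 : det2 (C.ν u 0, C.ν u 1) (a.app p - p) = 0 := by simpa [B, inL, det2] using bL
    have h2 : det2 (C.ν u 2, C.ν u 3) (b.app q - q) = 0 := by simpa [B, inR, det2] using bR
    rw [e, split_vec (C.ν u), act_add, act_inL, act_inR, lag a ha p _ hpne h1, lag b hb q _ hqne h2]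
  have hy'A : c' * y * c'⁻¹ ∈ L.A := by
    rw [show c' * y * c'⁻¹ = y * u by rw [hu]; group]
    exact L.A.mul_mem L.y_mem_A (L.W_mem_A huQ huy)
  obtain ⟨j, hj⟩ := L.commute_split huQ huy
  obtain ⟨d0, hd0⟩ : ∃ d0, d0 = u * z ^ j.val := ⟨_, rfl⟩
  rw [← hd0] at hj
  have hd0Q : d0 ∈ C.Q := hd0 ▸ C.Q.mul_mem huQ (C.toFrame.zpow_mem j)
  have hy' : c' * y * c'⁻¹ = y * (d0 * z ^ (-j).val) := by
    rw [hd0, mul_assoc u, ← C.toFrame.zpow_val_add, add_neg_cancel, hu]; simp [mul_assoc]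
  -- the exponent of a displacement is determined
  have uniq : ∀ (d : G) (s t : ZMod 3), d ∈ C.Q → d ∈ D.Q → IsConj y (y * (d * z ^ s.val)) →
      IsConj y (y * (d * z ^ t.val)) → s = t := by
    intro d s t hd hd' hs ht
    obtain ⟨x, hx, r, hr⟩ := L.exists_disp hd hd'
    have hone : ∀ s : ZMod 3, IsConj y (y * (d * z ^ s.val)) → s = r := by
      intro s hs
      have hh : IsConj z (y ^ (1 : ZMod 3).val * z ^ (s - r).val) := by
        refine L.conj.trans (hs.trans (isConj_iff.mpr ⟨x, ?_⟩))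
        rw [show (1 : ZMod 3).val = 1 from rfl, pow_one]
        have e1 : y * (d * z ^ s.val) = x⁻¹ * y * x * z ^ (s - r).val := by
          rw [hr, mul_assoc y, mul_assoc d, ← C.toFrame.zpow_val_add, add_sub_cancel]
        rw [e1, show x * (x⁻¹ * y * x * z ^ (s - r).val) * x⁻¹ = y * (x * z ^ (s - r).val * x⁻¹) by group,
          ((C.QC x hx).pow_right _).eq, mul_inv_cancel_right]
      exact sub_eq_zero.mp (L.point_zero one_ne_zero hh)
    rw [hone s hs, hone t ht]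
  have hd0y : IsConj y (y * (d0 * z ^ (-j).val)) := isConj_iff.mpr ⟨c', hy'⟩
  have hzero : ∀ x ∈ C.Q, B (C.ν x) (C.ν d0) = 0 := by
    intro x hx
    obtain ⟨d, r, hd, hd', -, hr⟩ := L.disp_split hx
    obtain ⟨x0, hx0, r0, hr0⟩ := L.exists_disp hd0Q hj
    have hr0j : r0 = -j := uniq d0 r0 (-j) hd0Q hj (isConj_iff.mpr ⟨x0⁻¹, by rw [inv_inv, hr0]⟩) hd0y
    -- through the element fixing the group
    have h1 : IsConj y (y * (d * d0 * z ^ (r0 + r).val)) := by
      refine (isConj_iff.mpr ⟨c' * x⁻¹, ?_⟩)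
      have hfd : c' * d * c'⁻¹ = d := by rw [(fW d hd (D.QC d hd')).eq, mul_inv_cancel_right]
      have hfz : c' * z ^ r.val * c'⁻¹ = z ^ r.val := by rw [(hcz'.pow_right r.val).eq, mul_inv_cancel_right]
      calc c' * x⁻¹ * y * (c' * x⁻¹)⁻¹ = c' * (x⁻¹ * y * x) * c'⁻¹ := by group
        _ = c' * y * c'⁻¹ * (c' * d * c'⁻¹) * (c' * z ^ r.val * c'⁻¹) := by rw [hr]; group
        _ = y * (d0 * z ^ (-j).val) * d * z ^ r.val := by rw [hfd, hfz, hy']
        _ = _ := by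
          rw [hr0j, C.toFrame.zpow_val_add, mul_assoc y, mul_assoc y, mul_assoc d0,
            ← ((C.QC d hd).pow_right (-j).val).eq, ← mul_assoc d0, ← (L.D_comm hd hd' hd0Q hj).eq]
          simp only [mul_assoc]
    have h2 := L.disp_mul hx hd0Q hr0 hr
    have h3 : IsConj y (y * (d * d0 * z ^ (r0 + r + B (-C.ν x) (C.ν d0)).val)) :=
      isConj_iff.mpr ⟨(x0 * x)⁻¹, by rw [inv_inv]; exact h2⟩
    have h4 := uniq _ _ _ (C.Q.mul_mem hd hd0Q) (D.Q.mul_mem hd' hj) h1 h3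
    simp only [B, Pi.neg_apply] at h4 ⊢
    linear_combination h4
  have hν0 : C.ν d0 = 0 := by
    refine eq_zero_of_B _ fun l => ?_
    obtain ⟨x, hx, ex⟩ := C.ν_surj (bv l)
    have := hzero x hx
    rw [ex] at this
    simp only [B] at this ⊢
    linear_combination -this
  have hd01 := L.inter_central hd0Q hj hν0
  have hfy : Commute c' y := by
    have hj0 : (-j : ZMod 3) = 0 := by
      refine uniq d0 _ _ hd0Q hj hd0y ?_
      rw [hd01]; simpa using IsConj.refl y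
    rw [hd01, hj0] at hy'
    simpa [commute_iff_eq, mul_inv_eq_iff_eq_mul] using hy'
  refine ⟨q0, hq0, fun w hw => ?_⟩
  obtain ⟨d, s, m, hd, hd', rfl⟩ := hw
  rw [← hc']
  exact ((fW d hd (D.QC d hd')).mul_right (hcz'.pow_right _)).mul_right (hfy.pow_right _)

end Link

end Cfsg.Agent.Spor.USixThree
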