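import Cfsg.Agent.Lib.Spor.USixThree.Points

/-!
The exponent of a displacement is the quadratic form `B (v, t v)`, elements of order three in the coset
`y Q` centralise the fixed group, and a suitable point `y` is interchanged with `z` by one element.
-/

set_option autoImplicit false
set_option linter.unusedSectionVars false

set_option synthInstance.maxSize 2000
set_option synthInstance.maxHeartbeats 200000
set_option maxRecDepth 100000
set_option maxHeartbeats 400000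

namespace Cfsg.Agent.Spor.USixThree

universe u

theorem det_app : ∀ a : S, a.Cube → ∀ p : ZMod 3 × ZMod 3,
    det2 p (a.app p) = if a.app p = p then 0 else a.orient := by decide +kernel

theorem phi_key : ∀ o : ZMod 3, o ≠ 0 → o + o ≠ 0 := by decide

theorem forced_exp : ∀ j φ : ZMod 3, j ≠ 0 → φ ≠ 0 → j + j - φ ≠ 0 → j = φ := by decide

variable {G : Type u} [Group G]

/-- a pair of commuting conjugates that one element interchanges, with positive orientation -/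
structure Pair {z : G} (C : Cfg z) where
  g : G
  comm : Commute z (g * z * g⁻¹)
  out : g * z * g⁻¹ ∉ C.Q
  back : g * (g * z * g⁻¹) * g⁻¹ = z
  orient : ((C.top (g * z * g⁻¹)).2.1).orient = 1
  fixR : ∃ d : G, d ∈ C.Q ∧ C.ν d 0 = 0 ∧ C.ν d 1 = 0 ∧ C.ν d ≠ 0 ∧ Commute d g ∧
    Commute d (g * z * g⁻¹)

namespace Pair

variable {z : G} {C : Cfg z} (P : Pair C)

/-- the second point -/
def y : G := P.g * z * P.g⁻¹

theorem link : Link C (C.conj P.g) := ⟨isConj_iff.mpr ⟨P.g, rfl⟩, P.comm, P.out⟩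

end Pair

namespace Link

variable {z y : G} {C : Cfg z} {D : Cfg y} (L : Link C D)
include L

/-- the quadratic form of a displacement vanishes only on fixed vectors -/
theorem phi_ne {v : V} (h : act (C.top y) v ≠ v) : B v (act (C.top y) v) ≠ 0 := by
  obtain ⟨a, b, e, ha, hb, ha1, hb1⟩ := L.top_pair
  have ho := L.orient_and_exponents.1
  rw [e] at ho h ⊢
  simp only at ho
  obtain ⟨-, -, -, hb0, -⟩ : True ∧ True ∧ True ∧ b.orient ≠ 0 ∧ True := by
    obtain ⟨p, -, -, h0, -⟩ := axis_exists b hb hb1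
    exact ⟨trivial, trivial, trivial, h0, trivial⟩
  have key : B v (act (false, a, b) v) =
      det2 (v 0, v 1) (a.app (v 0, v 1)) + det2 (v 2, v 3) (b.app (v 2, v 3)) := by
    simp [B, act, det2, S.app]
  rw [key, det_app a ha, det_app b hb, ho]
  by_cases h1 : a.app (v 0, v 1) = (v 0, v 1) <;> by_cases h2 : b.app (v 2, v 3) = (v 2, v 3) <;>
    simp only [h1, h2, if_true, if_false, zero_add, add_zero]
  · refine absurd ?_ h
    funext l
    fin_cases l
    · simpa [act, S.app] using congrArg Prod.fst h1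
    · simpa [act, S.app] using congrArg Prod.snd h1
    · simpa [act, S.app] using congrArg Prod.fst h2
    · simpa [act, S.app] using congrArg Prod.snd h2
  · exact hb0
  · exact hb0
  · exact phi_key _ hb0

/-- the two parts of a displacement are unique -/
theorem split_unique {d d' : G} {j j' : ZMod 3} (hd : d ∈ C.Q) (hd' : d ∈ D.Q) (he : d' ∈ C.Q) (he' : d' ∈ D.Q)
    (h : d * z ^ j.val = d' * z ^ j'.val) : d = d' ∧ j = j' := by
  have hν : C.ν d = C.ν d' := by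
    have h' := congrArg C.ν h
    rwa [C.ν_mul _ hd _ (C.toFrame.zpow_mem j), C.ν_mul _ he _ (C.toFrame.zpow_mem j'), C.toFrame.ν_zpow,
      C.toFrame.ν_zpow, add_zero, add_zero] at h'
  obtain rfl := L.inter_eq hd hd' he he' hν
  exact ⟨rfl, C.toFrame.zpow_val_eq.mp (mul_left_cancel h)⟩

/-- the vector and the exponent of a displacement -/
theorem disp_exp {x d : G} {j : ZMod 3} (hx : x ∈ C.Q) (hd : d ∈ C.Q) (hd' : d ∈ D.Q)
    (h : x⁻¹ * y * x = y * (d * z ^ j.val)) :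
    C.ν d = act (C.top y) (C.ν x) - C.ν x ∧ j = B (C.ν x) (act (C.top y) (C.ν x)) := by
  obtain ⟨d₀, j₀, h₀, h₀', hν₀, e₀⟩ := L.disp_split hx
  obtain ⟨rfl, rfl⟩ := L.split_unique hd hd' h₀ h₀' (mul_left_cancel (h.symm.trans e₀))
  refine ⟨hν₀, ?_⟩
  by_cases hfix : act (C.top y) (C.ν x) = C.ν x
  · have hνd : C.ν d = 0 := by rw [hν₀, hfix, sub_self]
    have hd1 : d = 1 := L.inter_central hd hd' hνd
    have hc : Commute x y := L.commute_of_fixed hx hfix
    rw [mul_assoc, ← hc.eq, inv_mul_cancel_left, hd1, one_mul, left_eq_mul, C.toFrame.zpow_val_one] at h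
    rw [h, hfix]
    simp [B]
    ring
  · have hn : C.ν d ≠ 0 := by rw [hν₀]; exact sub_ne_zero.mpr hfix
    have h2 := L.disp_mul hx hd h h
    have hn2 : C.ν (d * d) ≠ 0 := by
      rw [C.ν_mul _ hd _ hd]
      intro h'
      refine hn (funext fun l => ?_)
      have h'' := congrFun h' l
      have : ∀ t : ZMod 3, t + t = 0 → t = 0 := by decide
      exact this _ h''
    have hne := L.exp_ne (C.Q.mul_mem hd hd) (D.Q.mul_mem hd' hd') hn2 h2
    have hb : B (-C.ν x) (C.ν d) = -B (C.ν x) (act (C.top y) (C.ν x)) := by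
      rw [hν₀]; simp [B]; ring
    rw [hb, ← sub_eq_add_neg] at hne
    exact forced_exp j _ (L.exp_ne hd hd' hn h) (L.phi_ne hfix) hne

/-- the inverse element gives the inverse displacement -/
theorem disp_inv {x d : G} {j : ZMod 3} (hx : x ∈ C.Q) (hd : d ∈ C.Q) (hd' : d ∈ D.Q)
    (h : x⁻¹ * y * x = y * (d * z ^ j.val)) : x * y * x⁻¹ = y * (d⁻¹ * z ^ j.val) := by
  obtain ⟨d₀, j₀, h₀, h₀', -, e₀⟩ := L.disp_split (C.Q.inv_mem hx)
  obtain ⟨hν, hj⟩ := L.disp_exp hx hd hd' h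
  obtain ⟨hν₀, hj₀⟩ := L.disp_exp (C.Q.inv_mem hx) h₀ h₀' e₀
  rw [C.toFrame.ν_inv hx, act_neg] at hν₀ hj₀
  have e1 : d₀ = d⁻¹ := L.inter_eq h₀ h₀' (C.Q.inv_mem hd) (D.Q.inv_mem hd') (by
    rw [hν₀, C.toFrame.ν_inv hd, hν]; abel)
  have e2 : j₀ = j := by rw [hj₀, hj]; simp [B]
  rw [← e1, ← e2, ← e₀, inv_inv]

/-- elements of order three in the coset of `y` centralise the fixed group -/
theorem coset_cube {q : G} (hq : q ∈ C.Q) (h : (y * q) ^ 3 = 1) : Commute q y := by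
  obtain ⟨hm, hν, hc, -⟩ := L.disp hq
  obtain ⟨w, hw⟩ : ∃ w, w = q⁻¹ * (y * q * y⁻¹) := ⟨_, rfl⟩
  rw [← hw] at hm hν hc
  have e1 : y * q * y⁻¹ = q * w := by rw [hw]; group
  have e2 : y * (q * w) * y⁻¹ = q * w * w := by
    rw [show y * (q * w) * y⁻¹ = y * q * y⁻¹ * (y * w * y⁻¹) by group, e1, ← hc.eq, mul_inv_cancel_right]
  obtain ⟨β, hβ⟩ : ∃ β, β = B (C.ν w) (C.ν q) := ⟨_, rfl⟩
  have hwq : w * q = z ^ β.val * (q * w) := by rw [hβ]; exact C.ν_comm w hm q hq
  have hzw : Commute w (z ^ β.val) := (C.QC w hm).pow_right _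
  have hzq : Commute q (z ^ β.val) := (C.QC q hq).pow_right _
  have hz3 : z ^ β.val * (z ^ β.val * (z ^ β.val * z ^ β.val)) = z ^ β.val := by
    rw [← C.toFrame.zpow_val_add, ← C.toFrame.zpow_val_add, ← C.toFrame.zpow_val_add]
    congr 2
    have : ∀ t : ZMod 3, t + (t + (t + t)) = t := by decide
    exact this β
  have step : (y * q) ^ 3 = z ^ β.val := by
    have hy3 : y * (y * y) = 1 := by rw [← pow_two, ← pow_succ', D.toFrame.z_cube]
    have hq3 : q * (q * q) = 1 := by rw [← pow_two, ← pow_succ', C.toFrame.cube hq]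
    have hw3 : w * (w * w) = 1 := by rw [← pow_two, ← pow_succ', C.toFrame.cube hm]
    calc (y * q) ^ 3 = (y * q * y⁻¹) * (y * (y * q * y⁻¹) * y⁻¹) * (y * (y * y) * q) := by
          rw [pow_succ, pow_two]; group
      _ = q * w * (q * w * w) * q := by rw [e1, e2, hy3, one_mul]
      _ = q * (w * q) * (w * (w * q)) := by simp only [mul_assoc]
      _ = q * (z ^ β.val * (q * w)) * (w * (z ^ β.val * (q * w))) := by rw [hwq]
      _ = z ^ β.val * z ^ β.val * (q * (q * w) * (w * (q * w))) := by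
        rw [← mul_assoc w (z ^ β.val), hzw.eq, mul_assoc (z ^ β.val) w, ← mul_assoc q (z ^ β.val), hzq.eq]
        have hc' : Commute (z ^ β.val) (q * (q * w)) :=
          hzq.symm.mul_right (hzq.symm.mul_right hzw.symm)
        simp only [mul_assoc] at hc' ⊢
        congr 1
        have e := congrArg (· * (w * (q * w))) hc'.eq
        simp only [mul_assoc] at e
        exact e.symm
      _ = z ^ β.val * z ^ β.val * (q * q * ((w * (w * q)) * w)) := by simp only [mul_assoc]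
      _ = z ^ β.val * z ^ β.val * (q * q * (w * (z ^ β.val * (q * w)) * w)) := by rw [hwq]
      _ = z ^ β.val * z ^ β.val * (z ^ β.val * z ^ β.val) * (q * (q * q) * (w * (w * w))) := by
        rw [← mul_assoc w (z ^ β.val), hzw.eq, mul_assoc (z ^ β.val) w, ← mul_assoc w q, hwq]
        have hc' : Commute (z ^ β.val) (q * q) := hzq.symm.mul_right hzq.symm
        simp only [mul_assoc]
        congr 2
        rw [← mul_assoc q q, ← mul_assoc q q, ← mul_assoc (q * q) (z ^ β.val), ← hc'.eq,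
          mul_assoc (z ^ β.val) (q * q)]
        congr 1
        rw [← mul_assoc (q * q) (z ^ β.val), ← hc'.eq]
        simp only [mul_assoc]
      _ = z ^ β.val := by rw [hq3, hw3, mul_one, mul_one, mul_assoc, hz3]
  rw [h, eq_comm, C.toFrame.zpow_val_one, hβ, hν] at step
  refine L.commute_of_fixed hq (by_contra fun hf => L.phi_ne hf ?_)
  simp only [B, Pi.sub_apply] at step ⊢
  linear_combination -step

/-- the common part does not depend on the coordinates at `y` -/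
theorem inter_indep {D' : Cfg y} (L' : Link C D') {d : G} (hd : d ∈ C.Q) (hd' : d ∈ D.Q) : d ∈ D'.Q := by
  obtain ⟨x, hx, j, h⟩ := L.exists_disp hd hd'
  obtain ⟨k, hk⟩ := L'.commute_split hd (D.QC d hd')
  obtain ⟨-, hj⟩ := L.disp_exp hx hd hd' h
  have h' : x⁻¹ * y * x = y * (d * z ^ k.val * z ^ (j - k).val) := by
    rw [mul_assoc d, ← C.toFrame.zpow_val_add, add_sub_cancel, h]
  obtain ⟨-, hj'⟩ := L'.disp_exp hx (C.Q.mul_mem hd (C.toFrame.zpow_mem k)) hk h'
  rw [← hj] at hj'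
  rw [sub_eq_self.mp hj', ZMod.val_zero, pow_zero, mul_one] at hk
  exact hk

/-- a point with both coordinates: the two decompositions agree -/
theorem point_match {d : G} {j : ZMod 3} (hd : d ∈ C.Q) (hd' : d ∈ D.Q)
    (hc : IsConj z (y * (d * z ^ j.val))) (hj : j ≠ 0) :
    ∃ x' ∈ D.Q, ∃ m : ZMod 3, m = j ∧ y * (d * z ^ j.val) = (x'⁻¹ * z * x') ^ m.val := by
  have hA : y * (d * z ^ j.val) ∈ L.symm.A :=
    L.symm.A.mul_mem L.symm.z_mem_A (L.symm.A.mul_mem (L.symm.inter_mem_A hd' hd)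
      (Subgroup.pow_mem _ L.symm.y_mem_A _))
  rcases L.symm.points hA (L.conj.symm.trans hc) with h | ⟨x', hx', m, hm, e⟩
  · exfalso
    refine hj ?_
    obtain ⟨k, hk⟩ := D.toFrame.mem_zpowers.mp h
    have hdz : d * z ^ j.val = y ^ (k - 1).val := by
      rw [sub_eq_add_neg, add_comm, D.toFrame.zpow_val_add, D.toFrame.zpow_val_neg, ← hk,
        show (1 : ZMod 3).val = 1 from rfl, pow_one, inv_mul_cancel_left]
    by_contra hj0
    refine L.out' ?_
    have hzj : z ^ j.val ∈ D.Q := by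
      rw [show z ^ j.val = d⁻¹ * y ^ (k - 1).val by rw [← hdz, inv_mul_cancel_left]]
      exact D.Q.mul_mem (D.Q.inv_mem hd') (D.toFrame.zpow_mem _)
    have e2 : (z ^ j.val) ^ j.val = z := by
      rw [← pow_mul]
      conv_rhs => rw [← pow_one z]
      rw [pow_inj_mod, C.hz]
      have : ∀ a : ZMod 3, a ≠ 0 → a.val * a.val % 3 = 1 % 3 := by decide
      exact this _ hj0
    rw [← e2]
    exact D.Q.pow_mem hzj _
  refine ⟨x', hx', m, ?_, e⟩
  obtain ⟨d', k, hd₁, hd₁', -, hk⟩ := L.symm.disp_split hx'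
  rw [hk] at e
  have c1 : Commute z (d' * y ^ k.val) :=
    ((C.QC d' hd₁').symm).mul_right (L.comm.pow_right _)
  rw [c1.mul_pow, ((D.QC d' hd₁).pow_right _).mul_pow] at e
  have hmem : z ^ (j - m).val ∈ D.Q := by
    have he : z ^ (j - m).val = d⁻¹ * d' ^ m.val * (y⁻¹ * (y ^ k.val) ^ m.val) := by
      have cy : Commute y (d * z ^ j.val) := (D.QC d hd').symm.mul_right (L.comm.symm.pow_right _)
      rw [cy.eq] at e
      have e' : z ^ j.val = d⁻¹ * (z ^ m.val * (d' ^ m.val * (y ^ k.val) ^ m.val)) * y⁻¹ := by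
        rw [← e]; group
      rw [sub_eq_add_neg, C.toFrame.zpow_val_add, C.toFrame.zpow_val_neg, e']
      have cz : Commute (z ^ m.val)⁻¹ (d' ^ m.val * (y ^ k.val) ^ m.val * y⁻¹) :=
        ((((C.QC d' hd₁').symm.pow_right _).mul_right ((L.comm.pow_right _).pow_right _)).mul_right
          L.comm.inv_right).pow_left m.val |>.inv_left
      have cd : Commute d⁻¹ (z ^ m.val) := (C.QC d hd).inv_left.pow_right _
      have cy2 : Commute y⁻¹ ((y ^ k.val) ^ m.val) :=
        (((Commute.refl y).pow_right _).pow_right _).inv_left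
      calc d⁻¹ * (z ^ m.val * (d' ^ m.val * (y ^ k.val) ^ m.val)) * y⁻¹ * (z ^ m.val)⁻¹
          = d⁻¹ * z ^ m.val * (d' ^ m.val * (y ^ k.val) ^ m.val * y⁻¹ * (z ^ m.val)⁻¹) := by group
        _ = d⁻¹ * z ^ m.val * (z ^ m.val)⁻¹ * (d' ^ m.val * ((y ^ k.val) ^ m.val * y⁻¹)) := by
          rw [← cz.eq]; group
        _ = _ := by rw [← cy2.eq]; group
    rw [he]
    exact D.Q.mul_mem (D.Q.mul_mem (D.Q.inv_mem hd') (D.Q.pow_mem hd₁ _))
      (D.Q.mul_mem (D.Q.inv_mem D.zQ) (D.Q.pow_mem (D.toFrame.zpow_mem k) _))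
  by_contra hne
  refine L.out' ?_
  have e2 : (z ^ (j - m).val) ^ (j - m).val = z := by
    rw [← pow_mul]
    conv_rhs => rw [← pow_one z]
    rw [pow_inj_mod, C.hz]
    have : ∀ a : ZMod 3, a ≠ 0 → a.val * a.val % 3 = 1 % 3 := by decide
    exact this _ (sub_ne_zero.mpr (Ne.symm hne))
  rw [← e2]
  exact D.Q.pow_mem hmem _

/-- an interchanged pair with positive orientation, from one with positive orientation -/
theorem exists_pair_pos (ho : ((C.top y).2.1).orient = 1) : ∃ P : Pair C, P.y = y := by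
  obtain ⟨a, b, e, ha, hb, ha1, hb1, xL, xR, hxL, hxR, p, q, eL, eR, hp, -, -, -, -, -, hpne, hqne, -⟩ := L.axes
  obtain ⟨dR, jR, hdR, hdR', νR, -⟩ := L.disp_split hxR
  rw [eR, e, act_inR] at νR
  have hφ : B (C.ν xL) (act (C.top y) (C.ν xL)) = 1 := by
    rw [e] at ho ⊢
    rw [eL, act_inL, B_inL, hp]
    exact ho
  obtain ⟨d, j, hd, hd', -, hx⟩ := L.disp_split hxL
  obtain ⟨hνd, hj⟩ := L.disp_exp hxL hd hd' hx
  rw [hφ] at hj
  subst hj
  obtain ⟨x', hx', m, rfl, hm⟩ :=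
    L.point_match hd hd' (L.conj.trans (isConj_iff.mpr ⟨xL⁻¹, by rw [inv_inv]; exact hx⟩)) one_ne_zero
  simp only [show (1 : ZMod 3).val = 1 from rfl, pow_one] at hm hx
  have hx'' : x'⁻¹ * z * x' = z * (d * y ^ (1 : ZMod 3).val) := by
    rw [← hm, show (1 : ZMod 3).val = 1 from rfl, pow_one]
    have c1 : Commute y z := L.comm.symm
    rw [← mul_assoc, (D.QC d hd').symm.eq, mul_assoc, c1.eq, ← mul_assoc, (C.QC d hd).eq, mul_assoc]
  have hinv := L.symm.disp_inv hx' hd' hd hx''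
  have hinv2 := L.disp_inv hxL hd hd' (by rw [show (1 : ZMod 3).val = 1 from rfl, pow_one]; exact hx)
  rw [show (1 : ZMod 3).val = 1 from rfl, pow_one] at hinv hinv2
  have hq : x' * z * x'⁻¹ = xL * y * xL⁻¹ := by
    rw [hinv, hinv2]
    have c1 : Commute y z := L.comm.symm
    rw [← mul_assoc, ← ((C.QC d hd).inv_left).eq, mul_assoc, ← c1.eq, ← mul_assoc,
      ((D.QC d hd').inv_left).eq, mul_assoc]
  have hxz : xL⁻¹ * z * xL = z := by
    rw [((C.QC xL hxL).inv_left).eq, inv_mul_cancel_right]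
  have hg : xL⁻¹ * x' * xL⁻¹ * z * (xL⁻¹ * x' * xL⁻¹)⁻¹ = y := by
    calc xL⁻¹ * x' * xL⁻¹ * z * (xL⁻¹ * x' * xL⁻¹)⁻¹ = xL⁻¹ * (x' * (xL⁻¹ * z * xL) * x'⁻¹) * xL := by group
      _ = xL⁻¹ * (xL * y * xL⁻¹) * xL := by rw [hxz, hq]
      _ = y := by group
  have hb' : xL⁻¹ * x' * xL⁻¹ * y * (xL⁻¹ * x' * xL⁻¹)⁻¹ = z := by
    calc xL⁻¹ * x' * xL⁻¹ * y * (xL⁻¹ * x' * xL⁻¹)⁻¹ = xL⁻¹ * (x' * (xL⁻¹ * y * xL) * x'⁻¹) * xL := by group
      _ = xL⁻¹ * (x' * (x'⁻¹ * z * x') * x'⁻¹) * xL := by rw [hx, hm]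
      _ = xL⁻¹ * z * xL := by group
      _ = z := hxz
  have cLR : Commute dR xL := (C.toFrame.commute_iff hdR hxL).mpr (by
    rw [νR, eL]; simp [B, inL, inR])
  obtain ⟨β, hβ⟩ : ∃ β : ZMod 3, x' * dR * x'⁻¹ = y ^ β.val * dR := ⟨_, D.toFrame.conj_eq hx' hdR'⟩
  have hxd : xL⁻¹ * dR * xL = dR := by rw [← cLR.inv_right.eq]; group
  have hgd : xL⁻¹ * x' * xL⁻¹ * dR * (xL⁻¹ * x' * xL⁻¹)⁻¹ = (xL⁻¹ * y * xL) ^ β.val * dR := by
    have e1 : (xL⁻¹ * y * xL) ^ β.val = xL⁻¹ * y ^ β.val * xL := by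
      have h' := conj_pow (a := xL⁻¹) (b := y) (i := β.val)
      rwa [inv_inv] at h'
    calc xL⁻¹ * x' * xL⁻¹ * dR * (xL⁻¹ * x' * xL⁻¹)⁻¹ = xL⁻¹ * (x' * (xL⁻¹ * dR * xL) * x'⁻¹) * xL := by group
      _ = xL⁻¹ * (y ^ β.val * dR) * xL := by rw [hxd, hβ]
      _ = xL⁻¹ * y ^ β.val * xL * (xL⁻¹ * dR * xL) := by group
      _ = _ := by rw [hxd, e1]
  obtain ⟨g, hgdef⟩ : ∃ g, g = xL⁻¹ * x' * xL⁻¹ := ⟨_, rfl⟩
  rw [← hgdef] at hg hb' hgd
  have hgQ : ∀ w ∈ (C.conj g).Q, g * w * g⁻¹ ∈ C.Q := by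
    rintro _ ⟨w, hw, rfl⟩
    have hg2 : Commute (g * g) z := by
      rw [commute_iff_eq, ← mul_inv_eq_iff_eq_mul, show g * g * z * (g * g)⁻¹ = g * (g * z * g⁻¹) * g⁻¹ by group,
        hg, hb']
    have hw' := C.normQ _ hg2 w hw
    simpa [mul_assoc] using hw'
  have L' : Link C (C.conj g) := ⟨isConj_iff.mpr ⟨g, rfl⟩, by rw [hg]; exact L.comm, by rw [hg]; exact L.out⟩
  have hdR2 : dR ∈ (C.conj g).Q := by
    have : ∀ (w : G) (D' : Cfg w), Link C D' → w = y → dR ∈ D'.Q := by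
      rintro w D' hD' rfl
      exact L.inter_indep hD' hdR hdR'
    exact this _ _ L' hg
  have hβ0 : β = 0 := by
    have h1 := hgQ _ hdR2
    rw [hgd, hx] at h1
    have cy : Commute y (d * z) := (D.QC d hd').symm.mul_right L.comm.symm
    rw [cy.mul_pow, mul_assoc] at h1
    have h2 : y ^ β.val ∈ C.Q :=
      (C.Q.mul_mem_cancel_right (C.Q.mul_mem (C.Q.pow_mem (C.Q.mul_mem hd C.zQ) _) hdR)).mp h1
    by_contra h0
    refine L.out ?_
    have e2 : (y ^ β.val) ^ β.val = y := by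
      rw [← pow_mul]
      conv_rhs => rw [← pow_one y]
      rw [pow_inj_mod, D.hz]
      have : ∀ a : ZMod 3, a ≠ 0 → a.val * a.val % 3 = 1 % 3 := by decide
      exact this _ h0
    rw [← e2]
    exact C.Q.pow_mem h2 _
  rw [hβ0, ZMod.val_zero, pow_zero, one_mul] at hgd
  refine ⟨⟨g, ?_, ?_, ?_, ?_, dR, hdR, ?_, ?_, ?_, ?_, ?_⟩, hg⟩
  · rw [hg]; exact L.comm
  · rw [hg]; exact L.out
  · rw [hg]; exact hb'
  · rw [hg]; exact ho
  · rw [νR]; simp [inR]
  · rw [νR]; simp [inR]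
  · rw [νR]; intro h
    refine hqne (Prod.ext ?_ ?_)
    · have := congrFun h 2; simp [inR] at this; exact sub_eq_zero.mp this
    · have := congrFun h 3; simp [inR] at this; exact sub_eq_zero.mp this
  · exact (mul_inv_eq_iff_eq_mul.mp hgd).symm
  · rw [hg]; exact D.QC dR hdR'

/-- an interchanged pair -/
theorem exists_pair : Nonempty (Pair C) := by
  obtain ⟨a, b, e, ha, hb, ha1, hb1, xL, xR, hxL, -, p, q, eL, -, hp, -, hpo, -, -, -, hpne, -, -⟩ := L.axes
  by_cases ho : a.orient = 1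
  · obtain ⟨P, -⟩ := L.exists_pair_pos (by rw [e]; exact ho)
    exact ⟨P⟩
  have ho2 : a.orient = 2 := (zm_one _ hpo).resolve_left ho
  have hφ : B (C.ν xL) (act (C.top y) (C.ν xL)) = 2 := by
    rw [e, eL, act_inL, B_inL, hp]
    exact ho2
  obtain ⟨d, j, hd, hd', -, hx⟩ := L.disp_split hxL
  obtain ⟨-, hj⟩ := L.disp_exp hxL hd hd' hx
  rw [hφ] at hj
  subst hj
  have hzP : IsConj z (y * (d * z ^ (2 : ZMod 3).val)) :=
    L.conj.trans (isConj_iff.mpr ⟨xL⁻¹, by rw [inv_inv]; exact hx⟩)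
  obtain ⟨x', hx', m, rfl, hm⟩ := L.point_match hd hd' hzP (by decide)
  rw [show (2 : ZMod 3).val = 2 from rfl] at hm hzP
  have hzinv : IsConj z (z ^ 2) := by
    rw [hm] at hzP
    refine hzP.trans (isConj_iff.mpr ⟨x', ?_⟩)
    rw [← conj_pow]
    group
  obtain ⟨h₁, hh₁⟩ := isConj_iff.mp L.conj
  have hy : IsConj z (y ^ 2) := hzinv.trans (isConj_iff.mpr ⟨h₁, by rw [← conj_pow, hh₁]⟩)
  obtain ⟨g, hg⟩ := isConj_iff.mp hy
  have hout : g * z * g⁻¹ ∉ C.Q := by
    rw [hg]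
    intro hh
    refine L.out ?_
    have := C.Q.pow_mem hh 2
    rwa [← pow_mul, show 2 * 2 = 3 + 1 by norm_num, pow_succ, D.toFrame.z_cube, one_mul] at this
  have L' : Link C (C.conj g) := ⟨isConj_iff.mpr ⟨g, rfl⟩, by rw [hg]; exact L.comm.pow_right _, hout⟩
  obtain ⟨P, -⟩ := L'.exists_pair_pos (by
    rw [hg, pow_two, C.toFrame.pow_top L.comm.symm e]
    simp only
    rw [orient_sq a ha ha1, ho2]
    decide)
  exact ⟨P⟩

end Link

end Cfsg.Agent.Spor.USixThree
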