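import Cfsg.Agent.Lib.Lie.PSpFourThreeFull.Assembly
import Cfsg.Agent.Lib.Spor.USixThree.PairCommute

/-!
In a group with a centraliser `3^{1+2}:SL₂(3)` the quaternion groups of two commuting conjugates centralising one
involution commute.
-/

set_option autoImplicit false
set_option linter.unusedSectionVars false
set_option linter.style.haveILetI false
set_option maxRecDepth 100000
set_option synthInstance.maxSize 4000
set_option synthInstance.maxHeartbeats 400000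

namespace Cfsg.Agent.Lie.PSpFourThreeFull

open Cfsg.Agent.Lie.PSpFourThreeAmalgam
open Cfsg.Agent.Small.ShapeThree (M)

theorem invol_tm : ∀ m : M, m * m = 1 → m ≠ 1 →
    ∃ v : Fin 2 → ZMod 3, (⟨0, v, 1⟩ : M) * m = tm * ⟨0, v, 1⟩ := by decide +kernel

theorem radical_J : ∀ (v : Fin 2 → ZMod 3) (w : V3), inJ ((⟨0, v, 1⟩ : M) * jc w * (⟨0, v, 1⟩ : M)⁻¹) := by
  decide +kernel

theorem three_fixed : ∀ m : M, m * tm = tm * m → m * m * m = 1 → ∃ g : M, g * tm = tm * g ∧ inJ (g * m * g⁻¹) := by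
  decide +kernel

theorem smap_pair : ∀ p, mT (smap p dia) = smap p dia →
    smap p dia = dia ∨ smap p dia = -dia ∨ smap p dia = sgC dia ∨ smap p dia = -(sgC dia) := by decide +kernel

theorem act_pair : ∀ i, mT (act i (1, 1, 1)) = act i (1, 1, 1) →
    act i (1, 1, 1) = (1, 1, 1) ∨ act i (1, 1, 1) = (2, 2, 1) := by decide +kernel

theorem one_three_ne : ((1, 1, 1) : V3) ≠ 0 := by decide

theorem pair_sums : ((1, 1, 1) : V3) + (2, 2, 1) = (0, 0, 2) ∧
    ((1, 1, 1) : V3) + (2, 2, 1) + (2, 2, 1) = (2, 2, 0) ∧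
    (2 : ZMod 3) • ((0, 0, 2) : V3) = (0, 0, 1) ∧ (2 : ZMod 3) • ((2, 2, 0) : V3) = (1, 1, 0) := by decide +kernel

theorem conj_comm_mem {G : Type*} [Group G] {g x y : G} (h : x * y = y * x) :
    g * x * g⁻¹ * (g * y * g⁻¹) = g * y * g⁻¹ * (g * x * g⁻¹) := by
  simp [mul_assoc, ← mul_assoc x, h]

namespace Conf

variable {G : Type*} [Group G] [Finite G] (T : Conf G)

/-- Conjugation in the centraliser brings an involution and a commuting element of order three to a given place. -/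
theorem normalise {r t b : G} (hr2 : r * r = 1) (hr1 : r ≠ 1) (hra : r * T.a = T.a * r)
    (ht2 : t * t = 1) (ht1 : t ≠ 1) (hta : t * T.a = T.a * t) (hb3 : b ^ 3 = 1) (hba : b * T.a = T.a * b)
    (hrb : r * b = b * r) :
    ∃ g, g * T.a = T.a * g ∧ g * r * g⁻¹ = t ∧ g * b * g⁻¹ ∈ T.J := by
  obtain ⟨mr, rfl⟩ := T.cent_a.1 hra
  obtain ⟨mt, rfl⟩ := T.cent_a.1 hta
  obtain ⟨mb, rfl⟩ := T.cent_a.1 hba
  have hmr : mr * mr = 1 := T.inj (by rw [map_mul, hr2, map_one])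
  have hmt : mt * mt = 1 := T.inj (by rw [map_mul, ht2, map_one])
  obtain ⟨v, hv⟩ := invol_tm mr hmr (fun h => hr1 (by rw [h, map_one]))
  obtain ⟨w, hw⟩ := invol_tm mt hmt (fun h => ht1 (by rw [h, map_one]))
  obtain ⟨p, hp⟩ : ∃ p : M, p = ⟨0, v, 1⟩ := ⟨_, rfl⟩
  obtain ⟨p', hp'⟩ : ∃ p : M, p = ⟨0, w, 1⟩ := ⟨_, rfl⟩
  rw [← hp] at hv
  rw [← hp'] at hw
  have hrm : mr * mb = mb * mr := T.inj (by rw [map_mul, map_mul]; exact hrb)
  have htm : tm = p * mr * p⁻¹ := by rw [hv, mul_inv_cancel_right]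
  have h1 : p * mb * p⁻¹ * tm = tm * (p * mb * p⁻¹) := by
    rw [htm]
    exact conj_comm_mem hrm.symm
  have hb : mb ^ 3 = 1 := T.inj (by rw [map_pow, hb3, map_one])
  have h3 : p * mb * p⁻¹ * (p * mb * p⁻¹) * (p * mb * p⁻¹) = 1 := by
    rw [← pow_two, ← pow_succ, conj_pow, hb, mul_one, mul_inv_cancel]
  obtain ⟨g, hg, hgJ⟩ := three_fixed _ h1 h3
  refine ⟨T.φ (p'⁻¹ * g * p), T.cent_a.2 ⟨_, rfl⟩, ?_, ?_⟩
  · rw [← map_inv, ← map_mul, ← map_mul]
    refine congrArg T.φ ?_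
    calc p'⁻¹ * g * p * mr * (p'⁻¹ * g * p)⁻¹ = p'⁻¹ * (g * (p * mr * p⁻¹) * g⁻¹) * p' := by group
      _ = p'⁻¹ * tm * p' := by rw [← htm, hg, mul_inv_cancel_right]
      _ = mt := by rw [mul_assoc, ← hw, inv_mul_cancel_left]
  · rw [← map_inv, ← map_mul, ← map_mul]
    obtain ⟨u, hu⟩ := (inJ_iff _).1 hgJ
    refine ⟨_, mem_Jm.2 ?_, rfl⟩
    rw [show p'⁻¹ * g * p * mb * (p'⁻¹ * g * p)⁻¹ = p'⁻¹ * (g * (p * mb * p⁻¹) * g⁻¹) * p' by group, ← hu, hp']
    have e : ∀ x : Fin 2 → ZMod 3, ((⟨0, x, 1⟩ : M))⁻¹ = ⟨0, -x, 1⟩ := by decide +kernel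
    have := radical_J (-w) u
    rw [← e, inv_inv] at this
    exact this

/-- The frame with signs keeps the subgroup and the element. -/
theorem exists_signed_same (T : Conf G) (hn : -dia ∈ T.wdata.orb) (h8 : T.wdata.orb.card = 8) :
    ∃ T' : Conf G, T'.a = T.a ∧ T'.J = T.J ∧ T'.Signed := by
  obtain ⟨l, hdir, hall⟩ := T.wdata.signed_monomial hn h8
  obtain ⟨T', ha, hJ, -, hq⟩ := T.exists_straight l
  have hN : Subgroup.normalizer (T'.J : Set G) = Subgroup.normalizer (T.J : Set G) := by rw [hJ]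
  refine ⟨T', ha, hJ, ⟨fun g hg => ?_, fun i => ?_, fun i => ?_⟩⟩
  · obtain ⟨i, hi⟩ := hdir _ ⟨⟨g, hN ▸ hg⟩, rfl⟩
    refine ⟨i, hi.imp (fun h v => ?_) fun h v => ?_⟩
    · rw [hq, T.conjPerm_spec ⟨g, hN ▸ hg⟩, h, hq]
    · rw [hq, T.conjPerm_spec ⟨g, hN ▸ hg⟩, h, hq, sh_negv]
  · obtain ⟨⟨_, ⟨g, rfl⟩, hg⟩, -⟩ := hall i
    exact ⟨g, hN.symm ▸ g.2, fun v => by rw [hq, T.conjPerm_spec, hg, hq]⟩
  · obtain ⟨-, _, ⟨g, rfl⟩, hg⟩ := hall i
    exact ⟨g, hN.symm ▸ g.2, fun v => by rw [hq, T.conjPerm_spec, hg, hq, sh_negv]⟩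

/-- The signed case. -/
theorem Signed.quat_commute {T : Conf G} (hS : T.Signed) {b u v : G} (hb : b ∈ T.J)
    (hbc : ∃ g, g * T.a * g⁻¹ = b) (hne : b ∉ Subgroup.zpowers T.a) (hbt : T.φ tm * b = b * T.φ tm)
    (hua : u * T.a = T.a * u) (hut : u * T.φ tm = T.φ tm * u) (hu3 : (orderOf u).Coprime 3)
    (hvb : v * b = b * v) (hvt : v * T.φ tm = T.φ tm * v) (hv3 : (orderOf v).Coprime 3) : Commute u v := by
  have hc : hS.Comm := by
    rcases hS.axis_cent with hA | ⟨π, hs, hk⟩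
    · exact hS.comm_A hA
    · obtain ⟨hL⟩ := hS.exists_label π hs hk
      exact hL.comm
  obtain ⟨w, rfl⟩ := T.mem_J.1 hb
  obtain ⟨g, hg⟩ := hbc
  obtain ⟨n, hn, hna⟩ := T.fusion (g := g) (hg ▸ T.q_mem w)
  obtain ⟨p, hp⟩ := hS.acts_smap hn
  rw [hg, ← T.q_dia, hp] at hna
  have hwp := T.q_inj hna
  have hw : mT w = w := (Acts.comm_iff T T.tm_acts).1 hbt
  rw [← hwp] at hw
  have hcase := smap_pair p hw
  rw [hwp] at hcase
  have hRa : hS.R * T.a * hS.R⁻¹ = T.q (sgC dia) := by rw [← T.q_dia, hS.R_acts]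
  have hvR : v * T.q (sgC dia) = T.q (sgC dia) * v := by
    rcases hcase with h | h | h | h
    · exact absurd (h ▸ T.q_dia ▸ Subgroup.mem_zpowers _) hne
    · exact absurd (by rw [h, T.q_neg, T.q_dia]; exact Subgroup.inv_mem _ (Subgroup.mem_zpowers _)) hne
    · exact h ▸ hvb
    · rw [h, T.q_neg] at hvb
      simpa using (show Commute v (T.q (sgC dia))⁻¹ from hvb).inv_right.eq
  obtain ⟨x, hx⟩ : ∃ x, x = hS.R * v * hS.R := ⟨_, rfl⟩
  have hxQ : x ∈ T.Qg := by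
    refine T.mem_Qg_of ?_ ?_ ?_
    · have h := conj_comm_mem (g := hS.R) hvR
      rw [← hRa, hS.R_inv] at h
      have e : hS.R * (hS.R * T.a * hS.R) * hS.R = T.a := by
        rw [← mul_assoc, ← mul_assoc, hS.R_invol, one_mul, mul_assoc, hS.R_invol, mul_one]
      rwa [e, ← hx] at h
    · have h := conj_comm_mem (g := hS.R) hvt
      rwa [hS.R_inv, hS.R_phi_tm, ← hx] at h
    · have e : x = MulAut.conj hS.R v := by rw [hx, MulAut.conj_apply, hS.R_inv]
      rwa [e, MulEquiv.orderOf_eq]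
  have huQ := T.mem_Qg_of hua hut hu3
  -- the conjugate of the first commutes with the generators
  have hR : ∀ y z, hS.R * (hS.R * y * hS.R * z) * hS.R = y * (hS.R * z * hS.R) := fun y z => by
    rw [← mul_assoc, ← mul_assoc, ← mul_assoc, hS.R_invol, one_mul]
    group
  have hgen : ∀ j, hS.R * T.φ (qe j) * hS.R * u = u * (hS.R * T.φ (qe j) * hS.R) := fun j =>
    T.comm_Qg_of (by rw [← qe_zero]; exact (hS.comm_shift hc 0 j).symm.eq) (hS.comm_shift hc 1 j).symm.eq huQ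
  have hu' : ∀ j, hS.R * u * hS.R * T.φ (qe j) = T.φ (qe j) * (hS.R * u * hS.R) := fun j => by
    have h := conj_comm_mem (g := hS.R) (hgen j).symm
    have e : hS.R * (hS.R * T.φ (qe j) * hS.R) * hS.R = T.φ (qe j) := by
      rw [← mul_assoc, ← mul_assoc, hS.R_invol, one_mul, mul_assoc, hS.R_invol, mul_one]
    rwa [hS.R_inv, e] at h
  have hux := T.comm_Qg_of (by rw [← qe_zero]; exact hu' 0) (hu' 1) hxQ
  have h := conj_comm_mem (g := hS.R) hux
  have e : ∀ y : G, hS.R * (hS.R * y * hS.R) * hS.R = y := fun y => by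
    rw [← mul_assoc, ← mul_assoc, hS.R_invol, one_mul, mul_assoc, hS.R_invol, mul_one]
  rw [hS.R_inv, hx, e, e] at h
  exact h

/-- The case of an orbit of four vectors. -/
theorem four_quat_commute (hn : ¬ ∃ g : G, g * T.a * g⁻¹ = T.a⁻¹) (h4 : T.wdata.orb.card = 4)
    (hR : Cfsg.IsExtraspecial 3 (Cfsg.pCore 3 T.φ.range)) {r b u v : G}
    (hr2 : r * r = 1) (hr1 : r ≠ 1) (hra : r * T.a = T.a * r) (hb3 : b ^ 3 = 1)
    (hba : b * T.a = T.a * b) (hbc : ∃ g, g * T.a * g⁻¹ = b) (hne : b ∉ Subgroup.zpowers T.a)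
    (hrb : r * b = b * r)
    (hua : u * T.a = T.a * u) (hur : u * r = r * u) (hu3 : (orderOf u).Coprime 3)
    (hvb : v * b = b * v) (hvr : v * r = r * v) (hv3 : (orderOf v).Coprime 3) : Commute u v := by
  haveI : Fact (Nat.Prime 3) := ⟨Nat.prime_three⟩
  obtain ⟨A, hA1, hA2⟩ := T.exists_amal hn h4 hR
  obtain ⟨F⟩ := exists_frame A
  have hJQ : T.J = A.Q₁ := by
    refine Subgroup.eq_of_le_of_card_ge ?_ (by rw [A.c₁, T.card_J])
    have hJN : T.J ≤ A.A₁ := hA1 ▸ Subgroup.le_normalizer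
    haveI : (T.J.subgroupOf A.A₁).Normal := by rw [hA1]; infer_instance
    rw [A.hQ₁, Cfsg.pCoreOf]
    intro x hx
    exact ⟨⟨x, hJN hx⟩, Cfsg.Agent.Fusion.le_pCore (N := T.J.subgroupOf A.A₁) (IsPGroup.of_card (n := 3) (by
      rw [Nat.card_congr (Subgroup.subgroupOfEquivOfLe hJN).toEquiv, T.card_J]; norm_num)) hx, rfl⟩
  -- the central element
  obtain ⟨z, hz⟩ : ∃ z, z = F.q (1, 1, 1) := ⟨_, rfl⟩
  have hzr : ∀ g : G, g * z = z * g ↔ g * T.a = T.a * g := fun g => by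
    rw [hz, F.mem_cent_z, hA2, T.cent_a]
  have hza : z ∈ Subgroup.zpowers T.a := by
    obtain ⟨m, hm⟩ := T.cent_a.1 ((hzr z).1 rfl)
    obtain ⟨k, rfl⟩ := M.center_eq m fun x => T.inj (by
      rw [map_mul, map_mul, hm]
      exact (hzr (T.φ x)).2 (T.cent_a.2 ⟨x, rfl⟩))
    refine ⟨(k.val : ℤ), ?_⟩
    show T.a ^ (k.val : ℤ) = z
    rw [zpow_natCast, show T.a = T.φ M.c from rfl, ← map_pow, ← hm, ← M.c_pow]
  obtain ⟨k, hk⟩ : ∃ k : ℕ, T.a ^ k = z := by
    obtain ⟨k, hk⟩ := mem_powers_iff_mem_zpowers.2 hza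
    exact ⟨k, hk⟩
  have hz1 : z ≠ 1 := fun h => by
    rw [hz, F.q_eq_one] at h
    exact one_three_ne h
  obtain ⟨g, hga, hgr, hgJ⟩ := T.normalise hr2 hr1 hra F.t_sq F.t_ne
    ((hzr _).1 (hz ▸ F.plane_comm_t 1 1).symm) hb3 hba hrb
  have hgz : g * z * g⁻¹ = z := mul_inv_eq_iff_eq_mul.2 ((hzr g).2 hga)
  -- move everything
  suffices Commute (g * u * g⁻¹) (g * v * g⁻¹) from (Commute.conj_iff g).1 this
  obtain ⟨w, hw⟩ := F.surj ((g * b * g⁻¹) ^ k) (A.Q₁.pow_mem (by rw [← hJQ]; exact hgJ) k)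
  have hbc' : ∃ h, h * T.a * h⁻¹ = g * b * g⁻¹ := by
    obtain ⟨h, hh⟩ := hbc
    exact ⟨g * h, by rw [← hh]; group⟩
  obtain ⟨h, hh⟩ := hbc'
  obtain ⟨n, hnN, hna⟩ := T.fusion (g := h) (hh ▸ hgJ)
  obtain ⟨i, hi⟩ := F.rep n (hA1 ▸ hnN)
  have hwi : act i (1, 1, 1) = w := by
    refine F.inj _ _ ?_
    rw [← hi, ← hz, hw, ← hk, ← conj_pow, hna, hh]
  have hwt : F.t * F.q w = F.q w * F.t := by
    rw [hw, ← hgr]
    exact ((show Commute (g * r * g⁻¹) (g * b * g⁻¹) from conj_comm_mem hrb).pow_right k).eq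
  rw [F.t_comm_iff, ← hwi] at hwt
  have hvw : g * v * g⁻¹ * F.q w = F.q w * (g * v * g⁻¹) := by
    rw [hw]
    exact ((show Commute (g * v * g⁻¹) (g * b * g⁻¹) from conj_comm_mem hvb).pow_right k).eq
  rcases act_pair i hwt with h' | h'
  · exfalso
    apply hne
    rw [hwi] at h'
    rw [h', ← hz, conj_pow] at hw
    have e1 : b ^ k = T.a ^ k := by
      rw [hk]
      refine mul_left_cancel (a := g) (mul_right_cancel (b := g⁻¹) ?_)
      rw [← hw, hgz]
    have hk3 : k % 3 ≠ 0 := fun h0 => hz1 (by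
      rw [← hk, ← Nat.div_add_mod k 3, h0, add_zero, pow_mul, T.a_cube, one_pow])
    have hbk : b ^ (k % 3) = T.a ^ (k % 3) := by
      rw [← Nat.div_add_mod k 3] at e1
      rwa [pow_add, pow_add, pow_mul, pow_mul, hb3, T.a_cube, one_pow, one_mul, one_mul] at e1
    rcases (by omega : k % 3 = 1 ∨ k % 3 = 2) with e | e <;> rw [e] at hbk
    · rw [pow_one, pow_one] at hbk
      rw [hbk]; exact Subgroup.mem_zpowers _
    · have : b = T.a := by
        calc b = b ^ 2 * b ^ 2 := by rw [← pow_add, show 2 + 2 = 3 + 1 from rfl, pow_succ, hb3, one_mul]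
          _ = T.a ^ 2 * T.a ^ 2 := by rw [hbk]
          _ = T.a := by rw [← pow_add, show 2 + 2 = 3 + 1 from rfl, pow_succ, T.a_cube, one_mul]
      rw [this]; exact Subgroup.mem_zpowers _
  rw [hwi] at h'
  subst h'
  obtain ⟨s, hsA, hs2, hst, hsq⟩ := F.exists_sigma
  obtain ⟨O, hOt, hOn, hOco, htO, hOf, hOd, hdec, -, hOE⟩ := F.exists_core hsA hs2 hst hsq
  have hsz : s * z * s⁻¹ = F.q (2, 2, 1) := by rw [hz, hsq, mS_z.2]
  have hsz2 : s * F.q (2, 2, 1) * s⁻¹ = z := by rw [hz, hsq, mS_z.1]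
  -- elements of order prime to three centralising a point lie in the core
  have hin : ∀ x : G, x * F.t = F.t * x → x * z = z * x → (orderOf x).Coprime 3 → x ∈ O := by
    intro x hxt hxz hx3
    obtain ⟨o, ho, a, c, j, hj, he⟩ := hdec _ hxt
    interval_cases j
    · rw [pow_zero, mul_one] at he
      have hgen : ∀ m : ℕ, x ^ m * (F.q (a, a, c) ^ m)⁻¹ ∈ O := by
        intro m
        induction m with
        | zero => simp [O.one_mem]
        | succ m ih =>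
          rw [pow_succ, pow_succ]
          nth_rw 2 [he]
          rw [show x ^ m * (o * F.q (a, a, c)) * (F.q (a, a, c) ^ m * F.q (a, a, c))⁻¹ =
            (x ^ m * (F.q (a, a, c) ^ m)⁻¹) * (F.q (a, a, c) ^ m * o * (F.q (a, a, c) ^ m)⁻¹) by group]
          exact O.mul_mem ih (hOn _ ((show Commute (F.q (a, a, c)) F.t from F.plane_comm_t a c).pow_left m).eq _ ho)
      have h1 := hgen (orderOf x)
      rw [pow_orderOf_eq_one, one_mul] at h1
      have hmem : F.q (a, a, c) ^ orderOf x ∈ O := O.inv_mem_iff.1 h1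
      have hq : F.q (a, a, c) ∈ O := by
        have hc3 : orderOf x % 3 ≠ 0 := fun h0 => by
          have := Nat.eq_one_of_dvd_coprimes hx3 (Nat.dvd_of_mod_eq_zero h0) (dvd_refl 3)
          omega
        rw [← Nat.div_add_mod (orderOf x) 3, pow_add, pow_mul, F.q_cube, one_pow, one_mul] at hmem
        rcases (by omega : orderOf x % 3 = 1 ∨ orderOf x % 3 = 2) with e | e <;> rw [e] at hmem
        · rwa [pow_one] at hmem
        · have := O.mul_mem hmem hmem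
          rwa [← pow_add, show 2 + 2 = 3 + 1 from rfl, pow_succ, F.q_cube, one_mul] at this
      rw [he, hOE a c hq, mul_one]
      exact ho
    · exfalso
      rw [pow_one] at he
      have h5 : o * F.q (a, a, c) * s * z * (o * F.q (a, a, c) * s)⁻¹ = z := by
        rw [← he]; exact mul_inv_eq_iff_eq_mul.2 hxz
      rw [show o * F.q (a, a, c) * s * z * (o * F.q (a, a, c) * s)⁻¹ =
          o * (F.q (a, a, c) * (s * z * s⁻¹) * (F.q (a, a, c))⁻¹) * o⁻¹ by group, hsz,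
        F.q_comm, mul_inv_cancel_right] at h5
      have h6 : o * F.q (2, 2, 1) * o⁻¹ * (F.q (2, 2, 1))⁻¹ ∈ O := by
        rw [mul_assoc, mul_assoc, ← mul_assoc (F.q (2, 2, 1))]
        exact O.mul_mem ho (hOn _ (F.plane_comm_t 2 1) _ (O.inv_mem ho))
      rw [h5, hz, ← F.q_neg, ← F.add, plane_minus.1] at h6
      exact plane_minus.2 (F.q_eq_one.1 (hOE 2 0 h6))
  have hut' : g * u * g⁻¹ * F.t = F.t * (g * u * g⁻¹) := hgr ▸ conj_comm_mem hur
  have huz : g * u * g⁻¹ * z = z * (g * u * g⁻¹) := by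
    have h := conj_comm_mem (g := g) ((hzr u).2 hua)
    rwa [hgz] at h
  have hu3' : (orderOf (g * u * g⁻¹)).Coprime 3 := by
    rwa [show g * u * g⁻¹ = MulAut.conj g u from rfl, MulEquiv.orderOf_eq]
  have hv3' : (orderOf (g * v * g⁻¹)).Coprime 3 := by
    rwa [show g * v * g⁻¹ = MulAut.conj g v from rfl, MulEquiv.orderOf_eq]
  have hvt' : g * v * g⁻¹ * F.t = F.t * (g * v * g⁻¹) := hgr ▸ conj_comm_mem hvr
  have huO := hin _ hut' huz hu3'
  have hvO : g * v * g⁻¹ ∈ O := by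
    have h2 : s * (g * v * g⁻¹) * s⁻¹ ∈ O := by
      refine hin _ ?_ ?_ ?_
      · have h := conj_comm_mem (g := s) hvt'
        rwa [mul_inv_eq_iff_eq_mul.2 hst] at h
      · have h := conj_comm_mem (g := s) hvw
        rwa [hsz2] at h
      · rwa [show s * (g * v * g⁻¹) * s⁻¹ = MulAut.conj s (g * v * g⁻¹) from rfl, MulEquiv.orderOf_eq]
    have h3 := hOn s hst _ h2
    rwa [inv_eq_of_mul_eq_one_right hs2, ← mul_assoc, ← mul_assoc, hs2, one_mul, mul_assoc, hs2, mul_one] at h3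
  have hfix : ∀ (x : G), x ∈ O → ∀ (e e' : V3), (2 : ZMod 3) • e = e' →
      x * F.q e = F.q e * x → x * F.q e' = F.q e' * x := fun x _ e e' he h => he ▸ F.comm_conj h 2
  refine Cfsg.Agent.Spor.USixThree.pair_commute O z (F.q (2, 2, 1)) F.t hOco (hz ▸ F.q_cube _) (F.q_cube _)
    (hz ▸ F.q_comm _ _) (fun x hx => hOn z (hz ▸ F.plane_comm_t 1 1) x hx)
    (fun x hx => hOn _ (F.plane_comm_t 2 1) x hx) htO (fun x hx => (hOt x hx).symm)
    ((hz ▸ F.plane_comm_t 1 1 : z * F.t = F.t * z).symm) (F.plane_comm_t 2 1).symm F.t_sq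
    (fun x hx hc => hOd x hx ?_) (fun x hx hc => hOf x hx ?_) huO hvO huz hvw
  · refine hfix x hx _ _ pair_sums.2.2.1 ?_
    rw [← pair_sums.1, F.add, ← hz]
    exact hc.eq
  · refine hfix x hx _ _ pair_sums.2.2.2 ?_
    rw [← pair_sums.2.1, F.add, F.add, ← hz]
    exact hc.eq

/-- The quaternion groups of two commuting conjugates centralising an involution commute. -/
theorem quat_commute (hR : Cfsg.IsExtraspecial 3 (Cfsg.pCore 3 T.φ.range)) {r b u v : G}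
    (hr2 : r * r = 1) (hr1 : r ≠ 1) (hra : r * T.a = T.a * r)
    (hba : b * T.a = T.a * b) (hbc : ∃ g, g * T.a * g⁻¹ = b) (hne : b ∉ Subgroup.zpowers T.a)
    (hrb : r * b = b * r)
    (hua : u * T.a = T.a * u) (hur : u * r = r * u) (hu3 : (orderOf u).Coprime 3)
    (hvb : v * b = b * v) (hvr : v * r = r * v) (hv3 : (orderOf v).Coprime 3) : Commute u v := by
  have hb3 : b ^ 3 = 1 := by
    obtain ⟨g, rfl⟩ := hbc
    rw [conj_pow, T.a_cube, mul_one, mul_inv_cancel]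
  have htm1 : T.φ tm ≠ 1 := fun h => by
    have h' : tm = 1 := T.inj (h.trans T.φ.map_one.symm)
    exact absurd h' (by decide +kernel)
  have hta : T.φ tm * T.a = T.a * T.φ tm := T.cent_a.2 ⟨_, rfl⟩
  -- the point of the orbit
  have horb : ∀ w, (∃ h : G, h * T.a * h⁻¹ = T.q w) → w ∈ T.wdata.orb := by
    rintro w ⟨h, hh⟩
    obtain ⟨n, hn, hna⟩ := T.fusion (g := h) (hh ▸ T.q_mem w)
    refine T.wdata.mem_orb.2 ⟨_, ⟨⟨n, hn⟩, rfl⟩, T.conjPerm_eq ?_⟩
    show n * T.q dia * n⁻¹ = _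
    rw [T.q_dia, hna, hh]
  obtain ⟨g, hga, hgr, hgJ⟩ := T.normalise hr2 hr1 hra T.tm_invol htm1 hta hb3 hba hrb
  obtain ⟨w, hw⟩ := T.mem_J.1 hgJ
  have hgne : ∀ x, g * x * g⁻¹ ∈ Subgroup.zpowers T.a → x ∈ Subgroup.zpowers T.a := by
    rintro x ⟨m, hm⟩
    refine ⟨m, ?_⟩
    show T.a ^ m = x
    change T.a ^ m = g * x * g⁻¹ at hm
    calc T.a ^ m = g⁻¹ * (g * T.a ^ m) := by group
      _ = g⁻¹ * (T.a ^ m * g) := by rw [((show Commute g T.a from hga).zpow_right m).eq]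
      _ = x := by rw [hm]; group
  have hworb : w ∈ T.wdata.orb := horb w (by
    obtain ⟨h, hh⟩ := hbc
    exact ⟨g * h, by rw [hw, ← hh]; group⟩)
  have hwne : w ≠ dia ∧ w ≠ -dia := by
    constructor <;> intro h <;> apply hne <;> apply hgne <;> rw [← hw, h]
    · rw [T.q_dia]; exact Subgroup.mem_zpowers _
    · rw [T.q_neg, T.q_dia]; exact Subgroup.inv_mem _ (Subgroup.mem_zpowers _)
  rcases T.wdata.card_cases with ⟨hnn, h1 | h4⟩ | ⟨hn, h2 | h8⟩
  · exact absurd (Finset.card_le_one.1 h1.le _ hworb _ T.wdata.dia_mem) hwne.1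
  · exact T.four_quat_commute (fun h => hnn (T.neg_mem_orb_iff.2 h)) h4 hR hr2 hr1 hra hb3 hba hbc hne hrb
      hua hur hu3 hvb hvr hv3
  · exfalso
    have hd : dia ≠ -dia := fun h => absurd (neg_self_V3 dia h.symm) (by decide +kernel)
    have hsub : ({dia, -dia} : Finset V3) = T.wdata.orb := by
      refine Finset.eq_of_subset_of_card_le ?_ (by rw [h2, Finset.card_pair hd])
      intro x hx
      simp only [Finset.mem_insert, Finset.mem_singleton] at hx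
      rcases hx with rfl | rfl
      · exact T.wdata.dia_mem
      · exact hn
    rw [← hsub] at hworb
    simp only [Finset.mem_insert, Finset.mem_singleton] at hworb
    exact hworb.elim hwne.1 hwne.2
  obtain ⟨T', ha, hJ, hS⟩ := T.exists_signed_same hn h8
  have hta' : T'.φ tm * T'.a = T'.a * T'.φ tm := T'.cent_a.2 ⟨_, rfl⟩
  have htm1' : T'.φ tm ≠ 1 := fun h => by
    have h' : tm = 1 := T'.inj (h.trans T'.φ.map_one.symm)
    exact absurd h' (by decide +kernel)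
  rw [← ha] at hra hba hbc hne hua
  obtain ⟨g', hg'a, hg'r, hg'J⟩ := T'.normalise hr2 hr1 hra T'.tm_invol htm1' hta' hb3 hba hrb
  have hfix : g' * T'.a * g'⁻¹ = T'.a := mul_inv_eq_iff_eq_mul.2 hg'a
  refine (Commute.conj_iff g').1 (hS.quat_commute hg'J ?_ ?_ ?_ ?_ ?_ ?_ ?_ ?_ ?_)
  · obtain ⟨h, hh⟩ := hbc
    exact ⟨g' * h, by rw [← hh]; group⟩
  · rintro ⟨m, hm⟩
    refine hne ⟨m, ?_⟩
    show T'.a ^ m = b
    change T'.a ^ m = g' * b * g'⁻¹ at hm
    calc T'.a ^ m = g'⁻¹ * (g' * T'.a ^ m) := by group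
      _ = g'⁻¹ * (T'.a ^ m * g') := by rw [((show Commute g' T'.a from hg'a).zpow_right m).eq]
      _ = b := by rw [hm]; group
  · rw [← hg'r]; exact conj_comm_mem hrb
  · have h := conj_comm_mem (g := g') hua
    rwa [hfix] at h
  · rw [← hg'r]; exact conj_comm_mem hur
  · rwa [show g' * u * g'⁻¹ = MulAut.conj g' u from rfl, MulEquiv.orderOf_eq]
  · exact conj_comm_mem hvb
  · rw [← hg'r]; exact conj_comm_mem hvr
  · rwa [show g' * v * g'⁻¹ = MulAut.conj g' v from rfl, MulEquiv.orderOf_eq]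

end Conf

end Cfsg.Agent.Lie.PSpFourThreeFull
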