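import Cfsg.Agent.Lib.Spor.USixThree.Quadric
import Mathlib.GroupTheory.Transfer

/-!
The involution `r` of the first block, chosen commuting with the interchanged pair, and the quaternion
group of the first block that centralises the second one.
-/

set_option autoImplicit false
set_option linter.unusedSectionVars false

set_option synthInstance.maxSize 2000
set_option synthInstance.maxHeartbeats 200000
set_option maxRecDepth 100000
set_option maxHeartbeats 400000

namespace Cfsg.Agent.Spor.USixThree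

universe u

theorem neg_comm : ∀ a : S, S.neg.mul a = a.mul S.neg := by decide +kernel

theorem neg_app : ∀ p : ZMod 3 × ZMod 3, S.neg.app p = (-p.1, -p.2) := by decide +kernel

theorem one_app : ∀ p : ZMod 3 × ZMod 3, S.one.app p = p := by decide +kernel

theorem neg_fix : ∀ p : ZMod 3 × ZMod 3, S.neg.app p = p → p = 0 := by decide +kernel

theorem quat_nine : ∀ a : S, a.Quat →
    (((a.mul a).mul a).mul ((a.mul a).mul a)).mul ((a.mul a).mul a) = a := by decide +kernel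

theorem quat_four : ∀ a : S, a.Quat → (a.mul a).mul (a.mul a) = S.one := fun _ h => h

theorem quat_mul : ∀ a b : S, a.Quat → b.Quat → (a.mul b).Quat := by decide +kernel

/-- a pair with an involution of the first block commuting with both points -/
structure Mirror {G : Type u} [Group G] {z : G} (C : Cfg z) extends Pair C where
  r : G
  dR : G
  rz : Commute r z
  ry : Commute r (g * z * g⁻¹)
  r2 : r * r = 1
  rtop : C.top r = (false, S.neg, S.one)
  gr : Commute g r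
  dQ : dR ∈ C.Q
  d0 : C.ν dR 0 = 0
  d1 : C.ν dR 1 = 0
  dne : C.ν dR ≠ 0
  dg : Commute dR g
  dy : Commute dR (g * z * g⁻¹)
  dr : Commute dR r

variable {G : Type u} [Group G] {z : G} {C : Cfg z}

theorem Frame.pow_three {F : Frame z} {c : G} (hc : Commute c z) {a b : S} (h : F.top c = (false, a, b)) :
    F.top (c ^ 3) = (false, (a.mul a).mul a, (b.mul b).mul b) := by
  rw [pow_succ, pow_two, F.top_mul (hc.mul_left hc) hc, F.top_mul hc hc, h]
  rfl

theorem Frame.top_vec_fixed {c : G} (hc : Commute c z) {x : G} (hx : x ∈ C.Q) (h : Commute c x) :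
    act (C.top c) (C.ν x) = C.ν x := by
  rw [← C.ν_act c hc x hx]
  congr 1
  rw [h.eq, mul_inv_cancel_right]

/-- an involution centralises a fixed vector exactly -/
theorem invol_fixed {c x : G} (hc : Commute c z) (h2 : c * c = 1) (hx : x ∈ C.Q)
    (h : act (C.top c) (C.ν x) = C.ν x) : Commute c x := by
  obtain ⟨l, hl⟩ := C.toFrame.conj_comm hc hx h
  have hci : c⁻¹ = c := inv_eq_of_mul_eq_one_right h2
  rw [hci] at hl
  have e : x * (z ^ l.val * z ^ l.val) = x := by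
    have hcz : c * z ^ l.val * c = z ^ l.val := by rw [(hc.pow_right _).eq, mul_assoc, h2, mul_one]
    calc x * (z ^ l.val * z ^ l.val) = c * x * c * z ^ l.val := by rw [hl, mul_assoc]
      _ = c * (x * z ^ l.val) * c := by
        rw [mul_assoc (c * x) c, show c * z ^ l.val = z ^ l.val * c from (hc.pow_right _).eq]
        simp only [mul_assoc]
      _ = c * (c * x * c) * c := by rw [← hl]
      _ = x := by
        rw [← mul_assoc c (c * x) c, ← mul_assoc c c x, h2, one_mul, mul_assoc, h2, mul_one]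
  rw [mul_eq_left, ← C.toFrame.zpow_val_add, C.toFrame.zpow_val_one] at e
  have : ∀ t : ZMod 3, t + t = 0 → t = 0 := by decide
  rw [this l e] at hl
  simp at hl
  rw [← hci] at hl
  nth_rw 2 [hci] at hl
  exact mul_inv_eq_iff_eq_mul.mp (by rw [hci] at hl ⊢; exact hl)

namespace Pair

variable (P : Pair C)

/-- an involution of the first block can be chosen to commute with the second point -/
theorem exists_refl : ∃ r : G, Commute r z ∧ Commute r P.y ∧ r * r = 1 ∧
    C.top r = (false, S.neg, S.one) := by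
  have L := P.link
  obtain ⟨a, b, e, ha, hb, -, -⟩ := L.top_pair
  obtain ⟨c, hc, hct⟩ := C.top_surj S.neg S.one (by decide) (by decide)
  obtain ⟨r₀, hr₀⟩ : ∃ r₀, r₀ = c ^ 3 := ⟨_, rfl⟩
  have hrz : Commute r₀ z := hr₀ ▸ hc.pow_left 3
  have hrt : C.top r₀ = (false, S.neg, S.one) := by
    rw [hr₀, Frame.pow_three (F := C.toFrame) hc hct]; decide
  have hc2 : c * c ∈ C.Q := (C.toFrame.mem_Q_iff (hc.mul_left hc)).mpr (by
    rw [C.toFrame.top_mul hc hc, hct]; decide)
  have hr2 : r₀ * r₀ = 1 := by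
    rw [hr₀, ← pow_add, show 3 + 3 = 2 * 3 by norm_num, pow_mul, pow_two, C.toFrame.cube hc2]
  have hri : r₀⁻¹ = r₀ := inv_eq_of_mul_eq_one_right hr2
  have hyz : Commute P.y z := P.comm.symm
  have hpz : Commute (r₀ * P.y * r₀) z := (hrz.mul_left hyz).mul_left hrz
  have hpt : C.top (r₀ * P.y * r₀) = C.top P.y := by
    rw [C.toFrame.top_mul (hrz.mul_left hyz) hrz, C.toFrame.top_mul hrz hyz, hrt]
    rw [show C.top P.y = (false, a, b) from e]
    simp only [Top.mul, neg_comm, (S_mul_one _).1, (S_mul_one _).2]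
    have : ∀ a : S, (a.mul S.neg).mul S.neg = a := by decide +kernel
    rw [this]
  have hy3 : P.y ^ 3 = 1 := (C.conj P.g).toFrame.z_cube
  have hq : P.y⁻¹ * (r₀ * P.y * r₀) ∈ C.Q := (C.toFrame.mem_Q_iff (hyz.inv_left.mul_left hpz)).mpr (by
    rw [C.toFrame.top_mul hyz.inv_left hpz, hpt, ← C.toFrame.top_mul hyz.inv_left hyz, inv_mul_cancel,
      C.toFrame.top_one])
  have hp3 : (r₀ * P.y * r₀) ^ 3 = 1 := by
    conv_lhs => arg 1; arg 2; rw [← hri]
    rw [conj_pow, hy3, mul_one, mul_inv_cancel]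
  have hcy := L.coset_cube hq (show (P.y * (P.y⁻¹ * (r₀ * P.y * r₀))) ^ 3 = 1 by
    rw [mul_inv_cancel_left, hp3])
  have hpA : r₀ * P.y * r₀ ∈ L.A := by
    rw [show r₀ * P.y * r₀ = P.y * (P.y⁻¹ * (r₀ * P.y * r₀)) by group]
    exact L.A.mul_mem L.y_mem_A (L.W_mem_A hq hcy)
  have hconj : IsConj z (r₀ * P.y * r₀) :=
    L.conj.trans (isConj_iff.mpr ⟨r₀, by rw [hri]; rfl⟩)
  rcases L.points hpA hconj with h | ⟨x, hx, m, hm, hxm⟩
  · exfalso
    refine P.out ?_
    have h1 : r₀ * P.y * r₀ ∈ C.Q := Subgroup.zpowers_le.mpr C.zQ h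
    have h2 : C.top P.y = Top.one := by rw [← hpt]; exact C.toFrame.top_Q h1
    exact (C.toFrame.mem_Q_iff hyz).mpr h2
  have hm1 : m = 1 := by
    rcases zm_one m hm with h | rfl
    · exact h
    exfalso
    have h2 : C.top (r₀ * P.y * r₀) = C.top (x⁻¹ * (P.y * P.y) * x) := by
      rw [hxm, show (2 : ZMod 3).val = 2 from rfl, pow_two]
      congr 1
      show x⁻¹ * P.y * x * (x⁻¹ * P.y * x) = _
      group
    have hxz : Commute x z := C.QC x hx
    rw [hpt, C.toFrame.top_mul (hxz.inv_left.mul_left (hyz.mul_left hyz)) hxz,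
      C.toFrame.top_mul hxz.inv_left (hyz.mul_left hyz), C.toFrame.top_Q hx, C.toFrame.top_Q (C.Q.inv_mem hx),
      C.toFrame.pow_top hyz e, show C.top P.y = (false, a, b) from e] at h2
    simp only [Top.mul, Top.one, (S_mul_one _).1, (S_mul_one _).2, Prod.mk.injEq] at h2
    have : ∀ a : S, a = a.mul a → a = S.one := by decide +kernel
    exact P.link.not_oneSided (Or.inl (by
      show (C.top P.y).2.1 = S.one
      rw [show C.top P.y = (false, a, b) from e]
      exact this a h2.2.1))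
  subst hm1
  rw [show (1 : ZMod 3).val = 1 from rfl, pow_one] at hxm
  change r₀ * P.y * r₀ = x⁻¹ * P.y * x at hxm
  have hsQ : r₀ * x * r₀ ∈ C.Q := by
    have := C.normQ r₀ hrz x hx
    rwa [hri] at this
  have hxs : Commute (x * (r₀ * x * r₀)) P.y := by
    rw [commute_iff_eq, ← mul_inv_eq_iff_eq_mul]
    calc x * (r₀ * x * r₀) * P.y * (x * (r₀ * x * r₀))⁻¹
        = x * (r₀ * (x * (r₀ * P.y * r₀⁻¹) * x⁻¹) * r₀⁻¹) * x⁻¹ := by rw [mul_inv_rev]; group
      _ = x * (r₀ * P.y * r₀) * x⁻¹ := by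
          rw [hri, hxm]; group
          rw [show x * r₀ * P.y * r₀ * x ^ (-1 : ℤ) = x * (r₀ * P.y * r₀) * x⁻¹ by group, hxm]
          group
      _ = P.y := by rw [hxm]; group
  have hfix := L.fixed_of_commute (C.Q.mul_mem hx hsQ) hxs
  have hw : Commute (x⁻¹ * (r₀ * x * r₀) * x⁻¹) P.y := by
    refine L.commute_of_fixed (C.Q.mul_mem (C.Q.mul_mem (C.Q.inv_mem hx) hsQ) (C.Q.inv_mem hx)) ?_
    have e1 : C.ν (x⁻¹ * (r₀ * x * r₀) * x⁻¹) = C.ν (x * (r₀ * x * r₀)) := by
      rw [C.ν_mul _ (C.Q.mul_mem (C.Q.inv_mem hx) hsQ) _ (C.Q.inv_mem hx),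
        C.ν_mul _ (C.Q.inv_mem hx) _ hsQ, C.ν_mul _ hx _ hsQ, C.toFrame.ν_inv hx]
      funext l
      simp only [Pi.add_apply, Pi.neg_apply]
      have : ∀ t s : ZMod 3, -t + s + -t = t + s := by decide
      exact this _ _
    rw [e1]; exact hfix
  have hfix' : r₀ * (x * P.y * x⁻¹) * r₀ = x * P.y * x⁻¹ := by
    calc r₀ * (x * P.y * x⁻¹) * r₀
        = (r₀ * x * r₀⁻¹) * (r₀ * P.y * r₀⁻¹) * (r₀ * x * r₀⁻¹)⁻¹ * (r₀ * r₀) := by group
      _ = x * ((x⁻¹ * (r₀ * x * r₀) * x⁻¹) * P.y * (x⁻¹ * (r₀ * x * r₀) * x⁻¹)⁻¹) * x⁻¹ := by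
        rw [hri, hxm, hr2]; group
      _ = _ := by rw [hw.eq]; group
  refine ⟨x⁻¹ * r₀ * x, ((C.QC x hx).inv_left.mul_left hrz).mul_left (C.QC x hx), ?_, ?_, ?_⟩
  · rw [commute_iff_eq]
    have h := congrArg (fun t => x⁻¹ * t * r₀ * x) hfix'
    calc x⁻¹ * r₀ * x * P.y = x⁻¹ * (r₀ * (x * P.y * x⁻¹) * (r₀ * r₀)) * x := by rw [hr2]; group
      _ = x⁻¹ * (r₀ * (x * P.y * x⁻¹) * r₀) * r₀ * x := by group
      _ = x⁻¹ * (x * P.y * x⁻¹) * r₀ * x := by rw [hfix']
      _ = P.y * (x⁻¹ * r₀ * x) := by group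
  · calc x⁻¹ * r₀ * x * (x⁻¹ * r₀ * x) = x⁻¹ * (r₀ * r₀) * x := by group
      _ = 1 := by rw [hr2]; group
  · have hxz : Commute x z := C.QC x hx
    rw [C.toFrame.top_mul (hxz.inv_left.mul_left hrz) hxz, C.toFrame.top_mul hxz.inv_left hrz, hrt,
      C.toFrame.top_Q hx, C.toFrame.top_Q (C.Q.inv_mem hx)]
    decide

theorem exists_mirror (P : Pair C) : Nonempty (Mirror C) := by
  have L := P.link
  obtain ⟨r, hrz, hry, hr2, hrt⟩ := P.exists_refl
  obtain ⟨d, hd, hd0, hd1, hdne, hdg, hdy⟩ := P.fixR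
  have hri : r⁻¹ = r := inv_eq_of_mul_eq_one_right hr2
  have hdr : Commute d r := by
    refine (invol_fixed hrz hr2 hd ?_).symm
    rw [hrt]
    funext l
    fin_cases l <;> simp [act, S.neg, S.one, hd0, hd1]
  obtain ⟨r', hr'⟩ : ∃ r', r' = P.g⁻¹ * r * P.g := ⟨_, rfl⟩
  have hyg : P.g⁻¹ * z * P.g = P.y := by
    calc P.g⁻¹ * z * P.g = P.g⁻¹ * (P.g * (P.g * z * P.g⁻¹) * P.g⁻¹) * P.g := by rw [P.back]
      _ = P.y := by rw [Pair.y]; group
  have hr'z : Commute r' z := by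
    have := hry.map (MulAut.conj P.g⁻¹).toMonoidHom
    rw [hr']
    simpa [mul_assoc, Pair.y] using this
  have hr'y : Commute r' P.y := by
    have := hrz.map (MulAut.conj P.g⁻¹).toMonoidHom
    rw [hr', ← hyg]
    simpa [mul_assoc] using this
  have hr'2 : r' * r' = 1 := by
    rw [hr']
    calc P.g⁻¹ * r * P.g * (P.g⁻¹ * r * P.g) = P.g⁻¹ * (r * r) * P.g := by group
      _ = 1 := by rw [hr2]; group
  have hdr' : Commute d r' := by
    rw [hr']; exact (hdg.inv_right.mul_right hdr).mul_right hdg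
  obtain ⟨a, b, e, ha, hb, ha1, hb1⟩ := L.top_pair
  have hfixd := Frame.top_vec_fixed (C := C) hr'z hd hdr'.symm
  have hr't : C.top r' = (false, S.neg, S.one) := by
    have hsq : Top.mul (C.top r') (C.top r') = Top.one := by
      rw [← C.toFrame.top_mul hr'z hr'z, hr'2, C.toFrame.top_one]
    have hne : C.top r' ≠ Top.one := by
      intro h
      have hq := (C.toFrame.mem_Q_iff hr'z).mpr h
      have h3 := C.toFrame.cube hq
      rw [pow_succ, pow_two, hr'2, one_mul] at h3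
      have h1 : r = 1 := by
        rw [show r = P.g * r' * P.g⁻¹ by rw [hr']; group, h3]; group
      rw [h1, C.toFrame.top_one] at hrt
      revert hrt; decide
    rcases ht : C.top r' with ⟨t, s, s'⟩
    rw [ht] at hsq hne hfixd
    have hv : (C.ν d 2, C.ν d 3) ≠ ((0 : ZMod 3), (0 : ZMod 3)) := by
      intro h
      simp only [Prod.mk.injEq] at h
      exact hdne (funext fun l => by fin_cases l <;> simp [hd0, hd1, h.1, h.2])
    cases t
    · simp only [Top.mul, Top.one, Prod.mk.injEq] at hsq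
      have hs' : s' = S.one := by
        refine (S_invol s' hsq.2.2).resolve_right ?_
        rintro rfl
        refine hv (neg_fix _ (Prod.ext ?_ ?_))
        · have := congrFun hfixd 2; simpa [act, S.app] using this
        · have := congrFun hfixd 3; simpa [act, S.app] using this
      subst hs'
      rcases S_invol s hsq.2.1 with rfl | rfl
      · exact absurd rfl hne
      · rfl
    · exfalso
      refine hv (Prod.ext ?_ ?_)
      · have := congrFun hfixd 2; simpa [act, hd0, hd1] using this.symm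
      · have := congrFun hfixd 3; simpa [act, hd0, hd1] using this.symm
  -- the two involutions differ by a conjugation inside the fixed group
  obtain ⟨q, hq⟩ : ∃ q, q = r * r' := ⟨_, rfl⟩
  have hqQ : q ∈ C.Q := (C.toFrame.mem_Q_iff (hq ▸ hrz.mul_left hr'z)).mpr (by
    rw [hq, C.toFrame.top_mul hrz hr'z, hrt, hr't]; decide)
  have hq3 : q ^ 3 = 1 := C.toFrame.cube hqQ
  have hqy : Commute q P.y := hq ▸ hry.mul_left hr'y
  have hrqr : r * q * r = q⁻¹ := by
    rw [hq, mul_inv_rev, hri, inv_eq_of_mul_eq_one_right hr'2, ← mul_assoc r r, hr2, one_mul]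
  have hqdR : Commute q d := hq ▸ (hdr.symm.mul_left hdr'.symm)
  obtain ⟨w, hw⟩ : ∃ w, w = q ^ 2 := ⟨_, rfl⟩
  have hwg : w * r' * w⁻¹ = r := by
    have e1 : r' = r * q := by rw [hq, ← mul_assoc, hr2, one_mul]
    have e2 : r * q = q⁻¹ * r := by
      calc r * q = r * q * (r * r) := by rw [hr2, mul_one]
        _ = r * q * r * r := by simp only [mul_assoc]
        _ = _ := by rw [hrqr]
    have e3 : r * q⁻¹ = q * r := by
      calc r * q⁻¹ = r * (r * q * r) := by rw [hrqr]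
        _ = r * r * q * r := by simp only [mul_assoc]
        _ = _ := by rw [hr2, one_mul]
    rw [e1, hw, pow_two]
    calc q * q * (r * q) * (q * q)⁻¹ = q * q * (r * q⁻¹) := by group
      _ = q * q * q * r := by rw [e3]; simp only [mul_assoc]
      _ = r := by rw [show q * q * q = q ^ 3 by rw [pow_succ, pow_two], hq3, one_mul]
  have hwz : Commute w z := hw ▸ (C.QC q hqQ).pow_left 2
  have hwy : Commute w P.y := hw ▸ hqy.pow_left 2
  obtain ⟨g', hg'⟩ : ∃ g', g' = P.g * w⁻¹ := ⟨_, rfl⟩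
  have hgz : g' * z * g'⁻¹ = P.y := by
    rw [hg', show P.g * w⁻¹ * z * (P.g * w⁻¹)⁻¹ = P.g * (w⁻¹ * z * w) * P.g⁻¹ by group,
      hwz.inv_left.eq, inv_mul_cancel_right]
    rfl
  refine ⟨⟨⟨g', ?_, ?_, ?_, ?_, ⟨d, hd, hd0, hd1, hdne, ?_, ?_⟩⟩, r, d, hrz, ?_, hr2, hrt, ?_, hd, hd0, hd1, hdne,
    ?_, ?_, hdr⟩⟩
  · rw [hgz]; exact P.comm
  · rw [hgz]; exact P.out
  · rw [hgz, hg', show P.g * w⁻¹ * P.y * (P.g * w⁻¹)⁻¹ = P.g * (w⁻¹ * P.y * w) * P.g⁻¹ by group,
      hwy.inv_left.eq, inv_mul_cancel_right]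
    exact P.back
  · rw [hgz]; exact P.orient
  · exact hg' ▸ hdg.mul_right (hw ▸ (hqdR.pow_left 2).symm.inv_right)
  · rw [hgz]; exact hdy
  · show Commute r (g' * z * g'⁻¹)
    rw [hgz]; exact hry
  · show Commute g' r
    rw [commute_iff_eq, ← mul_inv_eq_iff_eq_mul, hg']
    calc P.g * w⁻¹ * r * (P.g * w⁻¹)⁻¹ = P.g * (w⁻¹ * (w * r' * w⁻¹) * w) * P.g⁻¹ := by rw [hwg]; group
      _ = P.g * r' * P.g⁻¹ := by group
      _ = r := by rw [hr']; group
  · show Commute d g'
    exact hg' ▸ hdg.mul_right (hw ▸ (hqdR.pow_left 2).symm.inv_right)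
  · show Commute d (g' * z * g'⁻¹)
    rw [hgz]; exact hdy

end Pair

namespace Mirror

variable (M : Mirror C)

theorem pow_hom {K : Type*} [Group K] [Finite K] {n : ℕ} (h : (Subgroup.center K).index ∣ n) (x y : K) :
    (x * y) ^ n = x ^ n * y ^ n := by
  obtain ⟨k, rfl⟩ := h
  have e : ∀ w : K, w ^ (Subgroup.center K).index = (MonoidHom.transferCenterPow K w : K) :=
    fun w => (MonoidHom.transferCenterPow_apply w).symm
  rw [pow_mul, pow_mul, pow_mul, e, e, e, map_mul, Subgroup.coe_mul, Commute.mul_pow]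
  exact (Subgroup.mem_center_iff.mp (MonoidHom.transferCenterPow K y).2 _)

/-- elements of the first block fixing the centraliser of `r` in the extraspecial group -/
def K : Subgroup G where
  carrier := {c | Commute c z ∧ Commute c M.r ∧ (∀ x ∈ C.Q, Commute x M.r → Commute c x) ∧
    ∃ q : S, q.Quat ∧ C.top c = (false, q, S.one)}
  one_mem' := ⟨Commute.one_left _, Commute.one_left _, fun _ _ _ => Commute.one_left _,
    S.one, by decide, C.toFrame.top_one⟩
  mul_mem' := by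
    rintro c d ⟨hc, hcr, hcx, q, hq, eq⟩ ⟨hd, hdr, hdx, p, hp, ep⟩
    refine ⟨hc.mul_left hd, hcr.mul_left hdr, fun x hx hxr => (hcx x hx hxr).mul_left (hdx x hx hxr),
      q.mul p, quat_mul q p hq hp, ?_⟩
    rw [C.toFrame.top_mul hc hd, eq, ep]
    simp only [Top.mul, (S_mul_one _).1]
  inv_mem' := by
    rintro c ⟨hc, hcr, hcx, q, hq, eq⟩
    refine ⟨hc.inv_left, hcr.inv_left, fun x hx hxr => (hcx x hx hxr).inv_left, (q.mul q).mul q,
      quat_mul _ _ (quat_mul q q hq hq) hq, ?_⟩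
    have h := C.toFrame.top_inv hc
    refine C.toFrame.top_eq hc.inv_left fun x hx => ?_
    rw [C.ν_act _ hc.inv_left x hx]
    have : ∀ v, act (C.top c⁻¹) v = act (false, (q.mul q).mul q, S.one) v := fun v => by
      have e1 : act (C.top c) (act (false, (q.mul q).mul q, S.one) v) = v := by
        rw [eq, ← act_mul]
        simp only [Top.mul, (S_mul_one _).1]
        have : ∀ q : S, q.Quat → q.mul ((q.mul q).mul q) = S.one := by decide +kernel
        rw [this q hq]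
        exact act_one v
      conv_lhs => rw [← e1]
      rw [h]
    exact this _

variable [Finite G]

theorem mem_K_central {c : G} (hc : c ∈ M.K) (hQ : c ∈ C.Q) : c ∈ Subgroup.zpowers z := by
  obtain ⟨hcz, hcr, hcx, -, -, -⟩ := hc
  refine (C.ν_zero c hQ).mp (eq_zero_of_B _ fun l => ?_)
  have hf := Frame.top_vec_fixed (C := C) M.rz hQ hcr.symm
  rw [M.rtop] at hf
  have h0 := congrFun hf 0
  have h1 := congrFun hf 1
  simp [act, S.neg] at h0 h1
  have z2 : ∀ t : ZMod 3, 2 * t = t → t = 0 := by decide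
  have h0' := z2 _ h0
  have h1' := z2 _ h1
  fin_cases l
  · simp [B, bv, h0', h1']
  · simp [B, bv, h0', h1']
  all_goals
    obtain ⟨x, hx, ex⟩ := C.ν_surj (bv _)
    rw [← ex]
    refine (C.toFrame.commute_iff hQ hx).mp (hcx x hx (invol_fixed M.rz M.r2 hx ?_).symm)
    rw [M.rtop, ex]
    decide

theorem pow_four_mem {c : G} (hc : c ∈ M.K) : c ^ 4 ∈ Subgroup.zpowers z := by
  refine M.mem_K_central (M.K.pow_mem hc 4) ?_
  obtain ⟨hcz, -, -, q, hq, eq⟩ := hc
  rw [C.toFrame.mem_Q_iff (hcz.pow_left 4), show c ^ 4 = c * c * (c * c) by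
    rw [show (4 : ℕ) = 2 + 2 from rfl, pow_add, pow_two],
    C.toFrame.top_mul (hcz.mul_left hcz) (hcz.mul_left hcz), C.toFrame.top_mul hcz hcz, eq]
  simp only [Top.mul, Top.one, (S_mul_one _).1, quat_four q hq]

theorem K_index : (Subgroup.center M.K).index ∣ 8 := by
  classical
  have hzK : z ∈ M.K := ⟨Commute.refl z, M.rz.symm, fun x hx _ => (C.QC x hx).symm, S.one, by decide,
    C.toFrame.top_Q C.zQ⟩
  have hz : ∀ c : M.K, (c : G) ∈ C.Q → c ∈ Subgroup.center M.K := by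
    intro c hc
    refine Subgroup.mem_center_iff.mpr fun d => Subtype.ext ?_
    obtain ⟨k, hk⟩ := Subgroup.mem_zpowers_iff.mp (M.mem_K_central c.2 hc)
    rw [Subgroup.coe_mul, Subgroup.coe_mul, ← hk]
    exact (d.2.1.zpow_right k).eq
  let N : Subgroup M.K := C.Q.subgroupOf M.K
  have hN : N ≤ Subgroup.center M.K := fun c hc => hz c hc
  refine (Subgroup.index_dvd_of_le hN).trans ?_
  have : N.Normal := ⟨fun c hc d => by
    have := Subgroup.mem_center_iff.mp (hN hc) d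
    rwa [this, mul_inv_cancel_right]⟩
  have hp : IsPGroup 2 (M.K ⧸ N) := by
    intro x
    obtain ⟨c, rfl⟩ := QuotientGroup.mk_surjective x
    refine ⟨2, ?_⟩
    rw [← QuotientGroup.mk_pow, QuotientGroup.eq_one_iff]
    show ((c ^ 2 ^ 2 : M.K) : G) ∈ C.Q
    rw [Subgroup.coe_pow]
    exact Subgroup.zpowers_le.mpr C.zQ (M.pow_four_mem c.2)
  obtain ⟨k, hk⟩ := hp.exists_card_eq
  rw [← Subgroup.index_eq_card] at hk
  -- the top is injective on the quotient
  let f : M.K ⧸ N → {q : S // q.Quat} := fun x => ⟨_, x.out.2.2.2.2.choose_spec.1⟩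
  have hf : Function.Injective f := by
    intro x y h
    rw [← Quotient.out_eq x, ← Quotient.out_eq y]
    refine QuotientGroup.eq.mpr ?_
    have hx := x.out.2.2.2.2.choose_spec.2
    have hy := y.out.2.2.2.2.choose_spec.2
    have he : x.out.2.2.2.2.choose = y.out.2.2.2.2.choose := congrArg Subtype.val h
    rw [← he] at hy
    show ((x.out : G))⁻¹ * (y.out : G) ∈ C.Q
    rw [C.toFrame.mem_Q_iff (x.out.2.1.inv_left.mul_left y.out.2.1),
      C.toFrame.top_mul x.out.2.1.inv_left y.out.2.1, hy, ← hx, ← C.toFrame.top_mul x.out.2.1.inv_left x.out.2.1,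
      inv_mul_cancel, C.toFrame.top_one]
  have h8 : Nat.card (M.K ⧸ N) ≤ 8 := by
    refine (Nat.card_le_card_of_injective f hf).trans (le_of_eq ?_)
    rw [Nat.card_eq_fintype_card, Fintype.card_subtype]
    exact quat_card
  rw [← Subgroup.index_eq_card, hk] at h8
  rw [hk, show (8 : ℕ) = 2 ^ 3 from rfl]
  exact Nat.pow_dvd_pow 2 ((Nat.pow_le_pow_iff_right (by norm_num)).mp h8)

/-- the quaternion group of the first block -/
def R : Subgroup G where
  carrier := {c | c ∈ M.K ∧ c ^ 8 = 1}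
  one_mem' := ⟨M.K.one_mem, one_pow _⟩
  mul_mem' := by
    rintro c d ⟨hc, hc8⟩ ⟨hd, hd8⟩
    refine ⟨M.K.mul_mem hc hd, ?_⟩
    have h := congrArg Subtype.val (pow_hom M.K_index (⟨c, hc⟩ : M.K) ⟨d, hd⟩)
    simpa [hc8, hd8] using h
  inv_mem' := fun ⟨hc, hc8⟩ => ⟨M.K.inv_mem hc, by rw [inv_pow, hc8, inv_one]⟩

theorem mem_R {c : G} : c ∈ M.R ↔ c ∈ M.K ∧ c ^ 8 = 1 := Iff.rfl

theorem R_four {c : G} (hc : c ∈ M.R) : c ^ 4 = 1 := by
  obtain ⟨i, hi⟩ := C.toFrame.mem_zpowers.mp (M.pow_four_mem hc.1)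
  have h8 := hc.2
  rw [show (8 : ℕ) = 4 + 4 from rfl, pow_add, hi, ← C.toFrame.zpow_val_add, C.toFrame.zpow_val_one] at h8
  have : ∀ t : ZMod 3, t + t = 0 → t = 0 := by decide
  rw [hi, this i h8]
  simp

theorem r_mem_K : M.r ∈ M.K :=
  ⟨M.rz, Commute.refl _, fun _ _ hxr => hxr.symm, S.neg, by decide, M.rtop⟩

theorem r_mem : M.r ∈ M.R :=
  ⟨M.r_mem_K, by rw [show (8 : ℕ) = 2 * 4 from rfl, pow_mul, pow_two, M.r2, one_pow]⟩

theorem eq_one_of_Q {c : G} (hc : c ∈ M.R) (hQ : c ∈ C.Q) : c = 1 := by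
  have h4 := M.R_four hc
  have h3 := C.toFrame.cube hQ
  rwa [show (4 : ℕ) = 3 + 1 from rfl, pow_succ, h3, one_mul] at h4

theorem R_ext {c d : G} (hc : c ∈ M.R) (hd : d ∈ M.R) (h : C.top c = C.top d) : c = d := by
  have hm := M.R.mul_mem (M.R.inv_mem hc) hd
  refine inv_mul_eq_one.mp (M.eq_one_of_Q hm ?_)
  rw [C.toFrame.mem_Q_iff (hc.1.1.inv_left.mul_left hd.1.1), C.toFrame.top_mul hc.1.1.inv_left hd.1.1, ← h,
    ← C.toFrame.top_mul hc.1.1.inv_left hc.1.1, inv_mul_cancel, C.toFrame.top_one]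

theorem R_surj {q : S} (hq : q.Quat) : ∃ c ∈ M.R, C.top c = (false, q, S.one) := by
  obtain ⟨c₀, hc₀, he₀⟩ := C.top_surj q S.one hq (by decide)
  have hri : M.r⁻¹ = M.r := inv_eq_of_mul_eq_one_right M.r2
  obtain ⟨u, hu⟩ : ∃ u, u = M.r * (c₀ * M.r * c₀⁻¹) := ⟨_, rfl⟩
  have hsz : Commute (c₀ * M.r * c₀⁻¹) z := (hc₀.mul_left M.rz).mul_left hc₀.inv_left
  have hst : C.top (c₀ * M.r * c₀⁻¹) = C.top M.r := by
    rw [C.toFrame.top_mul (hc₀.mul_left M.rz) hc₀.inv_left]
    have e : C.top (c₀ * M.r) = C.top (M.r * c₀) := by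
      rw [C.toFrame.top_mul hc₀ M.rz, C.toFrame.top_mul M.rz hc₀, he₀, M.rtop]
      simp only [Top.mul, neg_comm]
    rw [e, ← C.toFrame.top_mul (M.rz.mul_left hc₀) hc₀.inv_left, mul_inv_cancel_right]
  have huQ : u ∈ C.Q := (C.toFrame.mem_Q_iff (hu ▸ M.rz.mul_left hsz)).mpr (by
    rw [hu, C.toFrame.top_mul M.rz hsz, hst, M.rtop]; decide)
  have hu3 := C.toFrame.cube huQ
  have hss : (c₀ * M.r * c₀⁻¹) * (c₀ * M.r * c₀⁻¹) = 1 := by
    calc (c₀ * M.r * c₀⁻¹) * (c₀ * M.r * c₀⁻¹) = c₀ * (M.r * M.r) * c₀⁻¹ := by group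
      _ = 1 := by rw [M.r2]; group
  have hru : M.r * u * M.r = u⁻¹ := by
    rw [hu, mul_inv_rev, hri, inv_eq_of_mul_eq_one_right hss, ← mul_assoc M.r M.r, M.r2, one_mul]
  obtain ⟨c₁, hc₁d⟩ : ∃ c₁, c₁ = u ^ 2 * c₀ := ⟨_, rfl⟩
  have hc₁ : Commute c₁ z := hc₁d ▸ ((C.QC u huQ).pow_left 2).mul_left hc₀
  have hc₁r : Commute c₁ M.r := by
    have e3 : M.r * u⁻¹ = u * M.r := by
      calc M.r * u⁻¹ = M.r * (M.r * u * M.r) := by rw [hru]
        _ = M.r * M.r * u * M.r := by simp only [mul_assoc]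
        _ = _ := by rw [M.r2, one_mul]
    rw [commute_iff_eq, ← mul_inv_eq_iff_eq_mul, hc₁d, pow_two]
    calc u * u * c₀ * M.r * (u * u * c₀)⁻¹ = u * u * (c₀ * M.r * c₀⁻¹) * (u * u)⁻¹ := by group
      _ = u * u * (M.r * u) * (u * u)⁻¹ := by rw [hu, ← mul_assoc M.r M.r, M.r2, one_mul]
      _ = u * u * (M.r * u⁻¹) := by group
      _ = u * u * u * M.r := by rw [e3]; simp only [mul_assoc]
      _ = M.r := by rw [show u * u * u = u ^ 3 by rw [pow_succ, pow_two], hu3, one_mul]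
  have he₁ : C.top c₁ = (false, q, S.one) := by
    rw [hc₁d, C.toFrame.top_mul ((C.QC u huQ).pow_left 2) hc₀, C.toFrame.top_Q (C.Q.pow_mem huQ 2), he₀]
    simp only [Top.mul, Top.one, (S_mul_one _).1, (S_mul_one _).2]
  have he9 : C.top (c₁ ^ 9) = (false, q, S.one) := by
    rw [show (9 : ℕ) = 3 * 3 from rfl, pow_mul,
      Frame.pow_three (F := C.toFrame) (hc₁.pow_left 3) (Frame.pow_three (F := C.toFrame) hc₁ he₁), quat_nine q hq]
    rfl
  have hK : c₁ ^ 9 ∈ M.K := by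
    refine ⟨hc₁.pow_left 9, hc₁r.pow_left 9, fun x hx hxr => ?_, q, hq, he9⟩
    have hfix : act (C.top c₁) (C.ν x) = C.ν x := by
      have h := Frame.top_vec_fixed (C := C) M.rz hx hxr.symm
      rw [M.rtop] at h
      have h0 := congrFun h 0
      have h1 := congrFun h 1
      simp [act, S.neg] at h0 h1
      have z2 : ∀ t : ZMod 3, 2 * t = t → t = 0 := by decide
      rw [he₁]
      funext l
      fin_cases l <;> simp [act, S.one, z2 _ h0, z2 _ h1]
    obtain ⟨l, hl⟩ := C.toFrame.conj_comm hc₁ hx hfix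
    have hn : ∀ n : ℕ, c₁ ^ n * x * (c₁ ^ n)⁻¹ = x * (z ^ l.val) ^ n := by
      intro n
      induction n with
      | zero => simp
      | succ n ih =>
        rw [pow_succ', show c₁ * c₁ ^ n * x * (c₁ * c₁ ^ n)⁻¹ = c₁ * (c₁ ^ n * x * (c₁ ^ n)⁻¹) * c₁⁻¹ by group,
          ih, show c₁ * (x * (z ^ l.val) ^ n) * c₁⁻¹ = c₁ * x * c₁⁻¹ * (c₁ * (z ^ l.val) ^ n * c₁⁻¹) by group, hl,
          ((hc₁.pow_right l.val).pow_right n).eq, mul_inv_cancel_right, mul_assoc, ← pow_succ']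
    have h9 := hn 9
    rw [← pow_mul, show l.val * 9 = 3 * (3 * l.val) by ring, pow_mul z 3, C.toFrame.z_cube,
      one_pow, mul_one] at h9
    exact mul_inv_eq_iff_eq_mul.mp h9
  refine ⟨(c₁ ^ 9) ^ 9, ⟨M.K.pow_mem hK 9, ?_⟩, ?_⟩
  · obtain ⟨i, hi⟩ := C.toFrame.mem_zpowers.mp (M.pow_four_mem hK)
    rw [← pow_mul (c₁ ^ 9), show 9 * 8 = 4 * (3 * 6) from rfl, pow_mul, hi, ← pow_mul, mul_comm i.val,
      mul_assoc, pow_mul, C.toFrame.z_cube, one_pow]
  · rw [show (c₁ ^ 9) ^ 9 = ((c₁ ^ 9) ^ 3) ^ 3 from pow_mul (c₁ ^ 9) 3 3,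
      Frame.pow_three (F := C.toFrame) ((hc₁.pow_left 9).pow_left 3)
        (Frame.pow_three (F := C.toFrame) (hc₁.pow_left 9) he9), quat_nine q hq]
    rfl

theorem card_R : Nat.card M.R = 8 := by
  classical
  let f : {q : S // q.Quat} → M.R := fun q => ⟨_, (M.R_surj q.2).choose_spec.1⟩
  have hf : Function.Bijective f := by
    constructor
    · intro q p h
      have hq := (M.R_surj q.2).choose_spec.2
      have hp := (M.R_surj p.2).choose_spec.2
      rw [show (M.R_surj q.2).choose = (M.R_surj p.2).choose from congrArg Subtype.val h, hp] at hq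
      simp only [Prod.mk.injEq] at hq
      exact Subtype.ext hq.2.1.symm
    · rintro ⟨c, hc⟩
      obtain ⟨-, -, -, q, hq, hcq⟩ := hc.1
      exact ⟨⟨q, hq⟩, Subtype.ext (M.R_ext (M.R_surj hq).choose_spec.1 hc
        ((M.R_surj hq).choose_spec.2.trans hcq.symm))⟩
  rw [← Nat.card_eq_of_bijective f hf, Nat.card_eq_fintype_card, Fintype.card_subtype]
  exact quat_card

end Mirror

end Cfsg.Agent.Spor.USixThree
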