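import Cfsg.Agent.Lib.Spor.USixThree.Coord

/-!
`A` normalises no nontrivial subgroup of order prime to three: every hyperplane of `A` contains a point.
-/

set_option autoImplicit false
set_option linter.unusedSectionVars false

set_option synthInstance.maxSize 2000
set_option synthInstance.maxHeartbeats 200000
set_option maxRecDepth 100000
set_option maxHeartbeats 400000

namespace Cfsg.Agent.Spor.USixThree

universe u

variable {G : Type u} [Group G] [Finite G] {z : G} {C : Cfg z}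

namespace Mirror

variable (M : Mirror C)

theorem e_nsmul (n : ℕ) (w : V) : M.e (n • w) = M.e w ^ n := by
  induction n with
  | zero => rw [zero_smul, M.e_zero, pow_zero]
  | succ n ih => rw [succ_nsmul, M.e_add, ih, pow_succ]

/-- a subgroup of `A` with cyclic quotient contains a point -/
theorem cyc_point {B : Subgroup G} (hB : B ∈ Solv.CycQuot M.link.A) : ∃ w, Pt w ∧ M.e w ∈ B := by
  classical
  obtain ⟨hBA, a, ha, hsup⟩ := hB
  obtain ⟨w₀, rfl⟩ := M.e_surj ha
  by_cases h0 : M.e w₀ ∈ B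
  · obtain ⟨w, hw, -⟩ := plane_point 0 0 0 0
    refine ⟨w, hw, ?_⟩
    have : M.link.A ≤ B := by
      conv_lhs => rw [← hsup]
      exact sup_le le_rfl (Subgroup.zpowers_le.mpr h0)
    exact this (M.e_mem w)
  have hsplit : ∀ w, ∃ t : ZMod 3, M.e (w - t.val • w₀) ∈ B := by
    intro w
    have hw : M.e w ∈ B ⊔ Subgroup.zpowers (M.e w₀) := hsup.symm ▸ M.e_mem w
    have hsub : Subgroup.zpowers (M.e w₀) ≤ Subgroup.normalizer (B : Set G) := by
      refine Subgroup.zpowers_le.mpr (Subgroup.mem_normalizer_iff.mpr fun b => ?_)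
      have hcomm : ∀ b' ∈ B, Commute (M.e w₀) b' := fun b' hb' => M.link.A_comm (M.e_mem _) (hBA hb')
      refine ⟨fun hb => by rw [(hcomm b hb).eq, mul_inv_cancel_right]; exact hb, fun hb => ?_⟩
      have e := (hcomm _ hb).eq
      have hb' : b = M.e w₀ * b * (M.e w₀)⁻¹ := by
        have : M.e w₀ * b * (M.e w₀)⁻¹ = (M.e w₀)⁻¹ * (M.e w₀ * b * (M.e w₀)⁻¹) * M.e w₀ := by
          rw [mul_assoc _ _ (M.e w₀), ← e]; group
        rw [this]; group
      rw [hb']; exact hb
    rw [sup_comm, ← SetLike.mem_coe, Subgroup.coe_mul_of_left_le_normalizer_right _ _ hsub, Set.mem_mul] at hw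
    obtain ⟨c, hc, b, hb, hcb⟩ := hw
    simp only [SetLike.mem_coe] at hc hb
    have hcA : c ∈ M.link.A := Subgroup.zpowers_le.mpr (M.e_mem w₀) hc
    have hbc : b * c = M.e w := by rw [(M.link.A_comm (hBA hb) hcA).eq, hcb]
    obtain ⟨k, rfl⟩ := Subgroup.mem_zpowers_iff.mp hc
    refine ⟨(k : ZMod 3), ?_⟩
    have hz : M.e w₀ ^ k = M.e w₀ ^ (k : ZMod 3).val := by
      rw [← zpow_natCast, zpow_eq_zpow_iff_modEq]
      have h3 : (orderOf (M.e w₀) : ℤ) ∣ 3 := by
        exact_mod_cast orderOf_dvd_of_pow_eq_one (M.link.A_cube (M.e_mem w₀))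
      refine Int.ModEq.of_dvd h3 ?_
      rw [show (3 : ℤ) = ((3 : ℕ) : ℤ) from rfl, ← ZMod.intCast_eq_intCast_iff]
      push_cast
      rw [ZMod.natCast_zmod_val]
    have he := M.e_add (w - (k : ZMod 3).val • w₀) ((k : ZMod 3).val • w₀)
    rw [sub_add_cancel, M.e_nsmul, ← hz, ← hbc] at he
    rw [← mul_right_cancel he]
    exact hb
  choose t ht using hsplit
  have uniq : ∀ w (s : ZMod 3), M.e (w - s.val • w₀) ∈ B → s = t w := by
    intro w s hs
    by_contra hne
    refine h0 ?_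
    have hd : M.e ((t w - s).val • w₀) ∈ B := by
      have e1 : w - s.val • w₀ = (w - (t w).val • w₀) + (t w - s).val • w₀ := by
        rw [← Nat.cast_smul_eq_nsmul (ZMod 3), ← Nat.cast_smul_eq_nsmul (ZMod 3), ← Nat.cast_smul_eq_nsmul (ZMod 3),
          ZMod.natCast_zmod_val, ZMod.natCast_zmod_val, ZMod.natCast_zmod_val, sub_smul]
        abel
      rw [e1, M.e_add] at hs
      exact (B.mul_mem_cancel_left (ht w)).mp hs
    have hp := B.pow_mem hd (t w - s).val
    rw [← M.e_nsmul, smul_smul] at hp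
    have : ∀ d : ZMod 3, d ≠ 0 → (d.val * d.val) % 3 = 1 := by decide
    have e2 : ((t w - s).val * (t w - s).val) • w₀ = w₀ := by
      rw [← Nat.cast_smul_eq_nsmul (ZMod 3), ← ZMod.natCast_mod, this _ (sub_ne_zero.mpr (Ne.symm hne)),
        Nat.cast_one, one_smul]
    rwa [e2] at hp
  let f : V →+ ZMod 3 := AddMonoidHom.mk' t fun x y => (uniq (x + y) (t x + t y) (by
    have e1 : x + y - (t x + t y).val • w₀ = (x - (t x).val • w₀) + (y - (t y).val • w₀) := by
      rw [← Nat.cast_smul_eq_nsmul (ZMod 3), ← Nat.cast_smul_eq_nsmul (ZMod 3), ← Nat.cast_smul_eq_nsmul (ZMod 3),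
        ZMod.natCast_zmod_val, ZMod.natCast_zmod_val, ZMod.natCast_zmod_val, add_smul]
      abel
    rw [e1, M.e_add]
    exact B.mul_mem (ht x) (ht y))).symm
  obtain ⟨w, hw, hlin⟩ := plane_point (t (bv 0)) (t (bv 1)) (t (bv 2)) (t (bv 3))
  refine ⟨w, hw, ?_⟩
  have htw : t w = 0 := by
    have h : f w = 0 := by
      rw [vec_sum w]
      simp only [map_add, ZMod.map_smul, smul_eq_mul]
      show w 0 * t (bv 0) + w 1 * t (bv 1) + w 2 * t (bv 2) + w 3 * t (bv 3) = 0
      linear_combination hlin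
    exact h
  have := ht w
  rwa [htw, ZMod.val_zero, zero_smul, sub_zero] at this

/-- `A` normalises no nontrivial subgroup of order prime to three -/
theorem signalizer {K : Subgroup G} (hK : ¬ 3 ∣ Nat.card K)
    (hA : ∀ a ∈ M.link.A, ∀ k ∈ K, a * k * a⁻¹ ∈ K) : K = ⊥ := by
  have hcomm : IsMulCommutative M.link.A := ⟨⟨fun a b => Subtype.ext (M.link.A_comm a.2 b.2).eq⟩⟩
  have hnorm : M.link.A ≤ Subgroup.normalizer (K : Set G) := fun a ha => by
    refine Subgroup.mem_normalizer_iff.mpr fun k => ⟨fun hk => hA a ha k hk, fun hk => ?_⟩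
    have := hA a⁻¹ (M.link.A.inv_mem ha) _ hk
    simpa [mul_assoc] using this
  have hco : (Nat.card M.link.A).Coprime (Nat.card K) := by
    rw [M.card_A, show (81 : ℕ) = 3 ^ 4 from rfl]
    exact ((Nat.prime_three.coprime_iff_not_dvd).mpr hK).pow_left 4
  rw [← Solv.gen_eq M.link.A K hcomm hnorm hco]
  refine iSup₂_eq_bot.mpr fun B hB => ?_
  obtain ⟨w, hw, hwB⟩ := M.cyc_point hB
  obtain ⟨g, hgA, hg⟩ := M.point_conj hw
  obtain ⟨K', hK'⟩ : ∃ K', K' = (K ⊓ Subgroup.centralizer (B : Set G)).map (MulAut.conj g⁻¹).toMonoidHom := ⟨_, rfl⟩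
  have hback : K' = ⊥ := by
    refine M.signalizer_z ?_ ?_ ?_
    · rw [hK', Subgroup.card_map_of_injective (MulAut.conj g⁻¹).injective]
      exact fun h => hK (h.trans (Subgroup.card_dvd_of_le inf_le_left))
    · intro a ha k hk
      rw [hK'] at hk ⊢
      obtain ⟨k₀, ⟨hk1, hk2⟩, rfl⟩ := hk
      refine ⟨g * a * g⁻¹ * k₀ * (g * a * g⁻¹)⁻¹, ⟨hA _ (hgA a ha) _ hk1, ?_⟩, by simp [mul_assoc]⟩
      refine Subgroup.mem_centralizer_iff.mpr fun b hb => ?_
      have hc : Commute b (g * a * g⁻¹) := M.link.A_comm (hB.1 hb) (hgA a ha)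
      have hk3 : Commute b k₀ := Subgroup.mem_centralizer_iff.mp hk2 b hb
      exact ((hc.mul_right hk3).mul_right hc.inv_right).eq
    · intro k hk
      rw [hK'] at hk
      obtain ⟨k₀, ⟨-, hk2⟩, rfl⟩ := hk
      have hk3 : Commute (M.e w) k₀ := Subgroup.mem_centralizer_iff.mp hk2 _ hwB
      have hk4 : Commute k₀ (g * z * g⁻¹) := by
        rcases hg with h | h
        · exact h ▸ hk3.symm
        · have h2 : (g * z * g⁻¹) = (g * z * g⁻¹) ^ 2 * (g * z * g⁻¹) ^ 2 := by
            rw [← pow_add, show 2 + 2 = 3 + 1 from rfl, pow_succ, conj_pow, C.toFrame.z_cube]; group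
          rw [h2, h]
          exact hk3.symm.mul_right hk3.symm
      have := hk4.map (MulAut.conj g⁻¹).toMonoidHom
      simpa [mul_assoc] using this
  rw [eq_bot_iff]
  intro k hk
  have hm : (MulAut.conj g⁻¹).toMonoidHom k ∈ K' := hK' ▸ Subgroup.mem_map_of_mem _ hk
  rw [hback, Subgroup.mem_bot] at hm
  exact Subgroup.mem_bot.mpr ((MulAut.conj g⁻¹).injective (hm.trans (map_one _).symm))

end Mirror

end Cfsg.Agent.Spor.USixThree
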