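import Cfsg.Agent.Lib.Spor.USixThree.Link
import Cfsg.Agent.Lib.LocalEven.YoshidaWeak
import Cfsg.Agent.Lib.Fusion.Cores
import Cfsg.Prelude.Def_BaumannBlocks

/-!
The normaliser of the centre controls the transfer into three-groups.
-/

set_option autoImplicit false
set_option linter.unusedSectionVars false
set_option linter.style.haveILetI false

namespace Cfsg.Agent.Spor.USixThree

universe u

open scoped commutatorElement

theorem tr_sq : ∀ a : ZMod 3, a ≠ 0 → a.val * a.val % 3 = 1 := by decide +kernel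

theorem tr_cube : ∀ k : ZMod 3, k.val ^ 3 % 3 = 1 → k = 1 := by decide +kernel

theorem tr_mul : ∀ b k : ZMod 3, b ≠ 0 → k.val % 3 = b.val * (b.val * k.val) % 3 := by decide +kernel

theorem tr_pow : ∀ a : Multiplicative (ZMod 3), a ^ 3 = 1 := by decide +kernel

namespace Frame

variable {G : Type u} [Group G] [Finite G] {z : G} (F : Frame z)
include F

theorem card_Q : Nat.card F.Q = 243 := by
  let φ : F.Q →* Multiplicative V :=
    { toFun := fun x => Multiplicative.ofAdd (F.ν x)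
      map_one' := by simp [F.ν_one]
      map_mul' := fun x y => by rw [Subgroup.coe_mul, F.ν_mul _ x.2 _ y.2, ofAdd_add] }
  have hk : φ.ker = (Subgroup.zpowers z).subgroupOf F.Q := by
    ext x
    rw [MonoidHom.mem_ker, Subgroup.mem_subgroupOf, ← F.ν_zero _ x.2]
    show Multiplicative.ofAdd (F.ν x) = 1 ↔ _
    exact ofAdd_eq_one
  have h := φ.ker.card_mul_index
  rw [Subgroup.index_ker, hk, Nat.card_congr (Subgroup.subgroupOfEquivOfLe (Subgroup.zpowers_le.mpr F.zQ)).toEquiv,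
    Nat.card_zpowers, F.hz, MonoidHom.range_eq_top.mpr (fun v => by
      obtain ⟨x, hx, e⟩ := F.ν_surj (Multiplicative.toAdd v)
      exact ⟨⟨x, hx⟩, by show Multiplicative.ofAdd (F.ν x) = v; rw [e, ofAdd_toAdd]⟩),
    Subgroup.card_top, Nat.card_eq_fintype_card, Fintype.card_multiplicative, Fintype.card_fun,
    ZMod.card, Fintype.card_fin] at h
  exact h.symm

theorem isPGroup_Q : IsPGroup 3 F.Q := fun x => ⟨1, Subtype.ext (F.cube x.2)⟩

theorem mem_center_Q {x : G} (hx : x ∈ F.Q) (h : ∀ y ∈ F.Q, Commute x y) : x ∈ Subgroup.zpowers z := by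
  refine (F.ν_zero x hx).mp (eq_zero_of_B _ fun i => ?_)
  obtain ⟨y, hy, e⟩ := F.ν_surj (bv i)
  rw [← e]
  exact (F.commute_iff hx hy).mp (h y hy)

/-- a Sylow three-subgroup containing the extraspecial group centralises its centre -/
theorem exists_sylow : ∃ S : Sylow 3 G, F.Q ≤ (S : Subgroup G) ∧ ∀ s ∈ (S : Subgroup G), Commute s z := by
  haveI : Fact (Nat.Prime 3) := ⟨Nat.prime_three⟩
  obtain ⟨S, hS⟩ := F.isPGroup_Q.exists_le_sylow
  haveI : Nontrivial ↥(S : Subgroup G) := by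
    refine (Subgroup.nontrivial_iff_ne_bot _).mpr fun h => F.z_ne ?_
    exact Subgroup.mem_bot.mp (h ▸ hS F.zQ)
  haveI := S.2.center_nontrivial
  obtain ⟨⟨c, hc⟩, hc1⟩ := exists_ne (1 : Subgroup.center ↥(S : Subgroup G))
  have hcomm : ∀ s ∈ (S : Subgroup G), Commute (c : G) s := fun s hs =>
    (congrArg Subtype.val (Subgroup.mem_center_iff.mp hc ⟨s, hs⟩)).symm
  have hcQ : (c : G) ∈ F.Q := F.self _ (hcomm z (hS F.zQ)) fun y hy => hcomm y (hS hy)
  obtain ⟨a, ha⟩ := F.mem_zpowers.mp (F.mem_center_Q hcQ fun y hy => hcomm y (hS hy))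
  have ha0 : a ≠ 0 := fun h => hc1 (Subtype.ext (Subtype.ext (by rw [ha, h]; simp)))
  refine ⟨S, hS, fun s hs => ?_⟩
  have h1 : Commute s (z ^ a.val) := ha ▸ (hcomm s hs).symm
  have hz : z = (z ^ a.val) ^ a.val := by
    conv_lhs => rw [← pow_one z]
    rw [← pow_mul, pow_inj_mod, F.hz, tr_sq a ha0]
  rw [hz]
  exact h1.pow_right _

theorem exists_noncomm {W : Subgroup ↥F.Q} (hW : 81 ≤ Nat.card W) :
    ∃ a ∈ W, ∃ b ∈ W, a * b ≠ b * a := by
  by_contra h
  push Not at h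
  obtain ⟨x, hx⟩ : ∃ x : ↥F.Q, ∀ w ∈ W, B (F.ν x) (F.ν (w : G)) = 0 → (w : G) ∈ Subgroup.zpowers z := by
    by_cases hWt : W = ⊤
    · refine ⟨1, fun w _ _ => F.mem_center_Q w.2 fun y hy => ?_⟩
      exact congrArg Subtype.val (h w (hWt ▸ trivial) ⟨y, hy⟩ (hWt ▸ trivial))
    obtain ⟨x, hx⟩ : ∃ x, x ∉ W := by
      by_contra hne
      push Not at hne
      exact hWt (eq_top_iff.mpr fun x _ => hne x)
    have hgen : W ⊔ Subgroup.zpowers x = ⊤ := by
      refine Subgroup.eq_top_of_le_card _ ?_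
      by_contra hlt
      push Not at hlt
      have hd : Nat.card ↥(W ⊔ Subgroup.zpowers x) ∣ 243 := F.card_Q ▸ Subgroup.card_subgroup_dvd_card _
      have hlt' : Nat.card W < Nat.card ↥(W ⊔ Subgroup.zpowers x) := by
        refine lt_of_le_of_ne (Nat.le_of_dvd Nat.card_pos (Subgroup.card_dvd_of_le le_sup_left)) fun e => hx ?_
        rw [Subgroup.eq_of_le_of_card_ge le_sup_left e.ge]
        exact Subgroup.mem_sup_right (Subgroup.mem_zpowers x)
      rw [show (243 : ℕ) = 3 ^ 5 from rfl, Nat.dvd_prime_pow Nat.prime_three] at hd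
      obtain ⟨k, hk, e⟩ := hd
      rw [F.card_Q, e] at hlt
      rw [e] at hlt'
      have h4 : 3 ^ 4 < 3 ^ k := by omega
      have h5 : 3 ^ k < 3 ^ 5 := by omega
      have := (Nat.pow_lt_pow_iff_right (by norm_num)).mp h4
      have := (Nat.pow_lt_pow_iff_right (by norm_num)).mp h5
      omega
    refine ⟨x, fun w hw hB => F.mem_center_Q w.2 fun y hy => ?_⟩
    have hle : W ⊔ Subgroup.zpowers x ≤ Subgroup.centralizer ({w} : Set ↥F.Q) :=
      sup_le (fun v hv => Subgroup.mem_centralizer_singleton_iff.mpr (h v hv w hw))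
        (Subgroup.zpowers_le.mpr (Subgroup.mem_centralizer_singleton_iff.mpr
          (Subtype.ext ((F.commute_iff x.2 w.2).mpr hB).eq)))
    exact (congrArg Subtype.val (Subgroup.mem_centralizer_singleton_iff.mp
      (hle (hgen ▸ Subgroup.mem_top (⟨y, hy⟩ : ↥F.Q))))).symm
  let φ : ↥W →* Multiplicative (ZMod 3) :=
    { toFun := fun w => Multiplicative.ofAdd (B (F.ν x) (F.ν ((w : ↥F.Q) : G)))
      map_one' := by simp [F.ν_one, B]
      map_mul' := fun v w => by
        rw [← ofAdd_add, Subgroup.coe_mul, Subgroup.coe_mul, F.ν_mul _ v.1.2 _ w.1.2]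
        congr 1
        simp only [B, Pi.add_apply]; ring }
  have h1 : Nat.card φ.ker ≤ 3 := by
    have hinj : Function.Injective fun w : φ.ker =>
        (⟨(((w : ↥W) : ↥F.Q) : G), hx _ (w : ↥W).2 (ofAdd_eq_one.mp (MonoidHom.mem_ker.mp w.2))⟩ :
          Subgroup.zpowers z) := fun a b e =>
      Subtype.ext (Subtype.ext (Subtype.ext (by simpa using congrArg Subtype.val e)))
    have := Nat.card_le_card_of_injective _ hinj
    rwa [Nat.card_zpowers, F.hz] at this
  have h2 : φ.ker.index ≤ 3 := by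
    rw [Subgroup.index_ker]
    refine le_trans (Subgroup.card_le_card_group _) ?_
    simp
  have h3 := φ.ker.card_mul_index
  have := Nat.mul_le_mul h1 h2
  omega

/-- the normaliser of the centre controls transfer -/
theorem pResidual_normalizer
    (hwc : ∀ g : G, g * z * g⁻¹ ∈ F.Q → g * z * g⁻¹ ∈ Subgroup.zpowers z) :
    Cfsg.pResidualOf 3 (Subgroup.normalizer (Subgroup.zpowers z : Set G)) =
      Cfsg.pResidual 3 G ⊓ Subgroup.normalizer (Subgroup.zpowers z : Set G) := by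
  haveI : Fact (Nat.Prime 3) := ⟨Nat.prime_three⟩
  obtain ⟨S, hQS, hSz⟩ := F.exists_sylow
  have hnz : ∀ c : G, Commute c z → ∀ w ∈ Subgroup.zpowers z, c * w * c⁻¹ = w := by
    intro c hc w hw
    obtain ⟨k, rfl⟩ := Subgroup.mem_zpowers_iff.mp hw
    rw [(hc.zpow_right k).eq, mul_inv_cancel_right]
  refine YoshidaWeak.pResidualOf_eq S _ F.Q (fun s hs => ?_) hQS (fun g hg => ?_)
    (fun s hs w hw => F.normQ s (hSz s hs) w hw) ?_
  · refine Subgroup.mem_normalizer_iff.mpr fun w => ⟨fun hw => (hnz s (hSz s hs) w hw).symm ▸ hw, fun hw => ?_⟩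
    have e : s⁻¹ * (s * w * s⁻¹) * s⁻¹⁻¹ = s * w * s⁻¹ := hnz s⁻¹ (hSz s hs).inv_left _ hw
    rw [show s⁻¹ * (s * w * s⁻¹) * s⁻¹⁻¹ = w by group] at e
    rw [e]; exact hw
  · -- the conjugate commutes with the extraspecial group
    have hcz : ∀ w ∈ F.Q, Commute (g⁻¹ * w * g) z := by
      intro w hw
      have hn := Subgroup.mem_normalizer_iff.mp (hg w hw) z
      obtain ⟨k, hk⟩ := F.mem_zpowers.mp (hn.mp (Subgroup.mem_zpowers z))
      obtain ⟨c, hc⟩ : ∃ c, c = g⁻¹ * w * g := ⟨_, rfl⟩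
      rw [← hc] at hk ⊢
      have hc3 : c ^ 3 = 1 := by
        rw [hc, show g⁻¹ * w * g = g⁻¹ * w * g⁻¹⁻¹ by group, conj_pow, F.cube hw]; group
      have hit : ∀ n : ℕ, c ^ n * z * (c ^ n)⁻¹ = z ^ (k.val ^ n) := by
        intro n
        induction n with
        | zero => simp
        | succ n ih =>
          rw [pow_succ' c, show c * c ^ n * z * (c * c ^ n)⁻¹ = c * (c ^ n * z * (c ^ n)⁻¹) * c⁻¹ by group, ih,
            ← conj_pow, hk, ← pow_mul, pow_succ']
      have h3 := hit 3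
      rw [hc3] at h3
      simp at h3
      have hk1 : k = 1 := by
        refine tr_cube k ?_
        have h4 : z ^ (k.val ^ 3) = z ^ 1 := by rw [pow_one]; exact h3.symm
        rw [pow_inj_mod, F.hz] at h4
        simpa using h4
      rw [hk1, show (1 : ZMod 3).val = 1 from rfl, pow_one] at hk
      rw [commute_iff_eq, ← mul_inv_eq_iff_eq_mul]
      exact hk
    have hcQ : ∀ w ∈ F.Q, Commute (g * z * g⁻¹) w := by
      intro w hw
      have h := (hcz w hw).map (MulAut.conj g).toMonoidHom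
      simp only [MulEquiv.coe_toMonoidHom, MulAut.conj_apply, mul_assoc, mul_inv_cancel_left,
        mul_inv_cancel, mul_one] at h
      rw [← mul_assoc] at h
      exact h.symm
    have hmem := hwc g (F.self _ (hcQ z F.zQ) hcQ)
    have heq : Subgroup.zpowers (g * z * g⁻¹) = Subgroup.zpowers z :=
      Subgroup.eq_of_le_of_card_ge (Subgroup.zpowers_le.mpr hmem) (by
        rw [Nat.card_zpowers, Nat.card_zpowers, show g * z * g⁻¹ = MulAut.conj g z from rfl, MulEquiv.orderOf_eq])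
    refine Subgroup.mem_normalizer_iff.mpr fun w => ?_
    conv_rhs => rw [← heq]
    constructor
    · intro hw
      obtain ⟨k, rfl⟩ := Subgroup.mem_zpowers_iff.mp hw
      exact Subgroup.mem_zpowers_iff.mpr ⟨k, conj_zpow⟩
    · intro hw
      obtain ⟨k, hk⟩ := Subgroup.mem_zpowers_iff.mp hw
      rw [conj_zpow, mul_left_inj, mul_right_inj] at hk
      exact Subgroup.mem_zpowers_iff.mpr ⟨k, hk⟩
  · intro u hu w hw y _ hy W₀ hW₀ hyW₀
    have huQ : u⁻¹ * w⁻¹ * u * w ∈ F.Q := by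
      refine F.Q.mul_mem ?_ hw
      simpa using F.normQ u⁻¹ (hSz u hu).inv_left _ (F.Q.inv_mem hw)
    have hyz : y ∈ Subgroup.zpowers z := by
      rw [← hy]
      simp only [show (3 : ℕ) - 1 = 2 from rfl, Function.iterate_succ_apply', Function.iterate_zero_apply]
      obtain ⟨v, hv⟩ : ∃ v, v = u⁻¹ * w⁻¹ * u * w := ⟨_, rfl⟩
      rw [← hv] at huQ ⊢
      have hm := F.Q.mul_mem (F.Q.mul_mem (F.Q.mul_mem (F.Q.inv_mem huQ) (F.Q.inv_mem hw)) huQ) hw
      refine (F.ν_zero _ hm).mp ?_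
      rw [F.ν_mul _ (F.Q.mul_mem (F.Q.mul_mem (F.Q.inv_mem huQ) (F.Q.inv_mem hw)) huQ) _ hw,
        F.ν_mul _ (F.Q.mul_mem (F.Q.inv_mem huQ) (F.Q.inv_mem hw)) _ huQ,
        F.ν_mul _ (F.Q.inv_mem huQ) _ (F.Q.inv_mem hw), F.ν_inv huQ, F.ν_inv hw]
      abel
    haveI : Group.IsNilpotent ↥F.Q := F.isPGroup_Q.isNilpotent
    haveI : W₀.Normal :=
      Subgroup.NormalizerCondition.normal_of_coatom W₀ Group.normalizerCondition_of_isNilpotent hW₀
    have hidx : W₀.index ∣ 243 := F.card_Q ▸ W₀.index_dvd_card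
    have hcard : 81 ≤ Nat.card W₀ := by
      by_contra hlt
      push Not at hlt
      obtain ⟨n, hn⟩ := IsPGroup.iff_card.mp (F.isPGroup_Q.to_subgroup W₀)
      have hn4 : n < 4 := by
        have : 3 ^ n < 3 ^ 4 := by omega
        exact (Nat.pow_lt_pow_iff_right (by norm_num)).mp this
      obtain ⟨K, hK, hle⟩ := Sylow.exists_subgroup_card_pow_prime_le 3 (n := n) (m := n + 1)
        (G := ↥F.Q) (by rw [F.card_Q, show (243 : ℕ) = 3 ^ 5 from rfl]; exact pow_dvd_pow 3 (by omega))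
        W₀ hn (by omega)
      have hKt : K = ⊤ := hW₀.2 K (lt_of_le_of_ne hle fun e => by
        rw [← e, hn] at hK
        have := Nat.pow_right_injective (le_refl 2 |>.trans (by norm_num)) hK
        omega)
      rw [hKt, Subgroup.card_top, F.card_Q, show (243 : ℕ) = 3 ^ 5 from rfl] at hK
      have := Nat.pow_right_injective (by norm_num : 2 ≤ 3) hK
      omega
    obtain ⟨a, ha, b, hb, hab⟩ := F.exists_noncomm hcard
    haveI : Group.IsNilpotent ↥W₀ := (F.isPGroup_Q.to_subgroup W₀).isNilpotent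
    have hc : ⁅(⟨a, ha⟩ : ↥W₀), (⟨b, hb⟩ : ↥W₀)⁆ ∈ frattini ↥W₀ := by
      refine Perm.commutator_le_frattini ?_
      rw [commutator_def]
      exact Subgroup.commutator_mem_commutator (Subgroup.mem_top _) (Subgroup.mem_top _)
    have hcz : (a : G) * b * (a : G)⁻¹ * (b : G)⁻¹ = z ^ (B (F.ν a) (F.ν b)).val := by
      rw [F.conj_eq a.2 b.2, mul_inv_cancel_right]
    have hB : B (F.ν a) (F.ν b) ≠ 0 := fun h0 => hab (Subtype.ext ((F.commute_iff a.2 b.2).mpr h0).eq)
    obtain ⟨k, rfl⟩ := F.mem_zpowers.mp hyz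
    obtain ⟨c, hcdef⟩ : ∃ c : ↥W₀, c = ⁅(⟨a, ha⟩ : ↥W₀), (⟨b, hb⟩ : ↥W₀)⁆ := ⟨_, rfl⟩
    have hcv : (((c : ↥F.Q) : G)) = z ^ (B (F.ν a) (F.ν b)).val := by
      rw [hcdef, ← hcz]; rfl
    obtain ⟨l, hl⟩ : ∃ l : ℕ, z ^ k.val = (z ^ (B (F.ν a) (F.ν b)).val) ^ l := by
      refine ⟨(B (F.ν a) (F.ν b)).val * k.val, ?_⟩
      rw [← pow_mul, pow_inj_mod, F.hz]
      exact tr_mul _ _ hB
    refine ⟨(c : ↥F.Q) ^ l, ⟨c ^ l, Subgroup.pow_mem _ (hcdef ▸ hc) l, rfl⟩, ?_⟩
    rw [hl, ← hcv]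
    rfl

/-- a character of the normaliser with values of exponent three extends to the group -/
theorem exists_index_three (hwc : ∀ g : G, g * z * g⁻¹ ∈ F.Q → g * z * g⁻¹ ∈ Subgroup.zpowers z)
    (χ : ↥(Subgroup.normalizer (Subgroup.zpowers z : Set G)) →* Multiplicative (ZMod 3)) (hχ : χ ≠ 1) :
    ∃ K : Subgroup G, K.Normal ∧ K.index = 3 ∧
      ∀ x : ↥(Subgroup.normalizer (Subgroup.zpowers z : Set G)), ((x : G) ∈ K ↔ χ x = 1) := by
  haveI : Fact (Nat.Prime 3) := ⟨Nat.prime_three⟩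
  obtain ⟨N, hN⟩ : ∃ N, N = Subgroup.normalizer (Subgroup.zpowers z : Set G) := ⟨_, rfl⟩
  have hres := F.pResidual_normalizer hwc
  rw [← hN] at hres
  revert χ
  rw [← hN]
  intro χ hχ
  haveI hDn : (Cfsg.pResidual 3 G).Normal := Subgroup.normal_of_characteristic _
  have hker : pResidual 3 ↥N ≤ χ.ker := by
    rw [pResidual, Subgroup.closure_le]
    intro x hx
    have h1 : orderOf (χ x) ∣ 3 := orderOf_dvd_of_pow_eq_one (by
      exact tr_pow _)
    have h2 : orderOf (χ x) ∣ orderOf x := orderOf_map_dvd χ x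
    exact orderOf_eq_one_iff.mp (Nat.eq_one_of_dvd_coprimes (hx : (orderOf x).Coprime 3) h2 h1)
  let ι : ↥N →* G ⧸ Cfsg.pResidual 3 G := (QuotientGroup.mk' _).comp N.subtype
  have hsurj : Function.Surjective ι := by
    intro v
    obtain ⟨g, rfl⟩ := QuotientGroup.mk_surjective v
    obtain ⟨S, -, hSz⟩ := F.exists_sylow
    obtain ⟨d, hd, s, hs, rfl⟩ := Subgroup.mem_sup_of_normal_left.mp
      ((Fusion.pResidual_sup_sylow S).ge (Subgroup.mem_top g))
    refine ⟨⟨s, hN ▸ Subgroup.mem_normalizer_iff.mpr fun w => ?_⟩, ?_⟩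
    · have key : ∀ c : G, Commute c z → ∀ w ∈ Subgroup.zpowers z, c * w * c⁻¹ ∈ Subgroup.zpowers z := by
        intro c hc w hw
        obtain ⟨k, rfl⟩ := Subgroup.mem_zpowers_iff.mp hw
        rw [(hc.zpow_right k).eq, mul_inv_cancel_right]
        exact hw
      exact ⟨key s (hSz s hs) w, fun hw => by simpa [mul_assoc] using key s⁻¹ (hSz s hs).inv_left _ hw⟩
    · show ((s : G) : G ⧸ Cfsg.pResidual 3 G) = _
      rw [QuotientGroup.mk_mul, (QuotientGroup.eq_one_iff d).mpr hd, one_mul]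
  have hle : ι.ker ≤ χ.ker := by
    intro x hx
    have hxD : (x : G) ∈ Cfsg.pResidual 3 G := (QuotientGroup.eq_one_iff _).mp hx
    obtain ⟨y, hy, e⟩ := (hres.symm ▸ ⟨hxD, x.2⟩ : (x : G) ∈ pResidualOf 3 N)
    exact (Subtype.ext e : y = x) ▸ hker hy
  let ψ : G ⧸ Cfsg.pResidual 3 G →* Multiplicative (ZMod 3) := ι.liftOfSurjective hsurj ⟨χ, hle⟩
  have hψ : ∀ x, ψ (ι x) = χ x := fun x =>
    MonoidHom.liftOfRightInverse_comp_apply ι (Function.surjInv hsurj) (Function.rightInverse_surjInv hsurj) ⟨χ, hle⟩ x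
  refine ⟨(ψ.comp (QuotientGroup.mk' _)).ker, inferInstance, ?_, fun x => ?_⟩
  · rw [Subgroup.index_ker]
    haveI : Fact (Nat.Prime (Nat.card (Multiplicative (ZMod 3)))) := ⟨by simpa using Nat.prime_three⟩
    rcases (ψ.comp (QuotientGroup.mk' _)).range.eq_bot_or_eq_top_of_prime_card with h | h
    · refine absurd (MonoidHom.ext fun x => ?_) hχ
      have := h.le (MonoidHom.mem_range.mpr ⟨(x : G), rfl⟩ :
        (ψ.comp (QuotientGroup.mk' _)) (x : G) ∈ (ψ.comp (QuotientGroup.mk' _)).range)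
      rw [Subgroup.mem_bot] at this
      rw [← hψ]; exact this
    · rw [h, Subgroup.card_top]; simp
  · rw [MonoidHom.mem_ker]
    show ψ (ι x) = 1 ↔ _
    rw [hψ]

end Frame

end Cfsg.Agent.Spor.USixThree
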